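import Cfsg.Agent.Lib.SmallGroups.SelfCent.Count

/-!
Values of characters at elements of order three, mixed class products, sums over subgroups.
-/

set_option autoImplicit false

open scoped ComplexConjugate

namespace Cfsg.Agent.U33Uniq31

open Cfsg.Agent.SmallGroups Cfsg.Agent.SmallGroups.SelfCent BlocksCore

variable {G : Type*} [Group G] [Fintype G]

open scoped Classical in
/-- The number of factorisations of `z` in two given classes. -/
theorem card_pairs_mul_card₂ (y y' z : G) :
    (Nat.card {q : G × G // IsConj y q.1 ∧ IsConj y' q.2 ∧ q.1 * q.2 = z} : ℂ) * (Nat.card G : ℂ) =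
      ((Subgroup.centralizer ({y} : Set G)).index : ℂ) *
        ((Subgroup.centralizer ({y'} : Set G)).index : ℂ) *
        ∑ χ : Cfsg.IrrCharacter G,
          (χ : G → ℂ) y * (χ : G → ℂ) y' / (χ : G → ℂ) 1 * conj ((χ : G → ℂ) z) := by
  have hC : ∀ y : G,
      Nat.card {g : G // IsConj y g} = (Subgroup.centralizer ({y} : Set G)).index := fun y => by
    apply Nat.eq_of_mul_eq_mul_right (Nat.card_pos (α := Subgroup.centralizer ({y} : Set G)))
    rw [card_conj_mul_centralizer, Subgroup.index_mul_card]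
  have h := CharDeep.classFun_eq_sum (isClassFunction_conv (isClassFunction_classInd y)
    (isClassFunction_classInd y')) z
  rw [CharDeep.conv_classInd_apply] at h
  simp only [CharDeep.sum_conv_mul, hC] at h
  rw [h, Finset.sum_mul, Finset.mul_sum]
  have hne : (Nat.card G : ℂ) ≠ 0 := Nat.cast_ne_zero.mpr Nat.card_pos.ne'
  refine Finset.sum_congr rfl fun χ _ => ?_
  field_simp

/-- A character alone in its degree is real valued. -/
theorem conj_of_unique_deg (χ : Cfsg.IrrCharacter G)
    (h : ∀ ψ : Cfsg.IrrCharacter G, Setup.deg ψ = Setup.deg χ → ψ = χ) (g : G) :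
    conj ((χ : G → ℂ) g) = (χ : G → ℂ) g := by
  let ψ : Cfsg.IrrCharacter G := ⟨_, CharCore.isIrrCharacter_star χ.2⟩
  have hd : Setup.deg ψ = Setup.deg χ := by
    have h1 := (Setup.deg_spec ψ).2.2
    have h2 : (ψ : G → ℂ) 1 = conj ((χ : G → ℂ) 1) := rfl
    rw [h2, (Setup.deg_spec χ).2.2, Complex.conj_natCast] at h1
    exact_mod_cast h1.symm
  have := congrArg (fun φ : Cfsg.IrrCharacter G => (φ : G → ℂ) g) (h ψ hd)
  exact this

/-- A real value at an element of order dividing three. -/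
theorem exists_value_three (χ : Cfsg.IrrCharacter G) {g : G} (hg : g ^ 3 = 1)
    (hr : conj ((χ : G → ℂ) g) = (χ : G → ℂ) g) :
    ∃ n : ℤ, (χ : G → ℂ) g = n ∧ (3 : ℤ) ∣ (Setup.deg χ : ℤ) - n ∧ n ≤ Setup.deg χ ∧
      -(Setup.deg χ : ℤ) ≤ 2 * n := by
  classical
  obtain ⟨m, ρ, hρ, hχρ⟩ := χ.2
  obtain ⟨b, ω, hω, hn1, hb, hk⟩ := CharCore.exists_eigenvalues ρ g
  have hω3 : ∀ i, ω i ^ 3 = 1 := fun i => by
    obtain ⟨c, hc⟩ := orderOf_dvd_of_pow_eq_one hg
    rw [hc, pow_mul, hω i, one_pow]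
  set S := Finset.univ.filter fun i => ω i = 1 with hS
  have hre : ∀ i, (ω i).re = if ω i = 1 then 1 else -(1 / 2 : ℝ) := by
    intro i
    split_ifs with h
    · rw [h]; rfl
    · have h2 : ω i ^ 2 + ω i + 1 = 0 := by
        have e : (ω i - 1) * (ω i ^ 2 + ω i + 1) = 0 := by linear_combination hω3 i
        exact (mul_eq_zero.mp e).resolve_left (sub_ne_zero.mpr h)
      have hc : ω i * conj (ω i) = 1 := by
        rw [Complex.mul_conj, Complex.normSq_eq_norm_sq, hn1 i]; simp
      have h3 : conj (ω i) + ω i + 1 = 0 := by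
        have e : ω i * (conj (ω i) + ω i + 1) = 0 := by linear_combination hc + h2
        refine (mul_eq_zero.mp e).resolve_left fun h0 => ?_
        rw [h0] at h2; simp at h2
      have h4 := congrArg Complex.re h3
      simp at h4
      linarith
  have hval : ρ.character g = ∑ i, ω i := by simpa using hk 1
  have hdeg : (Setup.deg χ : ℤ) = (Module.finrank ℂ (Fin m → ℂ) : ℤ) := by
    have h := (Setup.deg_spec χ).2.2
    rw [← hχρ, Representation.char_one] at h
    exact_mod_cast h.symm
  have hle : S.card ≤ Module.finrank ℂ (Fin m → ℂ) := by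
    have := Finset.card_le_univ S
    simpa using this
  have hsum : ((χ : G → ℂ) g).re =
      (3 * (S.card : ℝ) - (Module.finrank ℂ (Fin m → ℂ) : ℝ)) / 2 := by
    rw [← hχρ, hval, Complex.re_sum, Finset.sum_congr rfl fun i _ => hre i]
    have : ∀ i, (if ω i = 1 then (1 : ℝ) else -(1 / 2)) =
        3 / 2 * (if ω i = 1 then (1 : ℝ) else 0) - 1 / 2 := fun i => by split_ifs <;> norm_num
    simp only [this, Finset.sum_sub_distrib, ← Finset.mul_sum, Finset.sum_boole, ← hS]
    simp
    ring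
  -- integrality
  have hint : IsIntegral ℤ ((χ : G → ℂ) g) := by
    rw [← hχρ, hval]
    exact IsIntegral.sum _ fun i _ => IsIntegral.of_pow (by norm_num : 0 < 3)
      (by rw [hω3 i]; exact isIntegral_one)
  have hz : (χ : G → ℂ) g = (((χ : G → ℂ) g).re : ℂ) := (Complex.conj_eq_iff_re.mp hr).symm
  set q : ℚ := (3 * (S.card : ℚ) - (Module.finrank ℂ (Fin m → ℂ) : ℚ)) / 2 with hq
  have hq' : (χ : G → ℂ) g = (q : ℂ) := by
    rw [hz, hsum, hq]; push_cast; ring
  rw [hq', show ((q : ℂ)) = algebraMap ℚ ℂ q from (eq_ratCast _ q).symm,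
    isIntegral_algebraMap_iff (algebraMap ℚ ℂ).injective] at hint
  obtain ⟨n, hn⟩ := IsIntegrallyClosed.isIntegral_iff.mp hint
  have hn' : (n : ℚ) = q := hn
  have h2n : 2 * n = 3 * (S.card : ℤ) - (Module.finrank ℂ (Fin m → ℂ) : ℤ) := by
    have : (2 * n : ℚ) = 3 * (S.card : ℚ) - (Module.finrank ℂ (Fin m → ℂ) : ℚ) := by
      rw [hn', hq]; ring
    exact_mod_cast this
  refine ⟨n, by rw [hq', ← hn']; simp, ?_, by omega, by omega⟩
  omega

/-- The sum of a character over a subgroup is a natural multiple of its order. -/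
theorem exists_sum_subgroup (χ : Cfsg.IrrCharacter G) (R : Subgroup G) [Fintype R] :
    ∃ k : ℕ, ∑ g : R, (χ : G → ℂ) g = (Nat.card R : ℂ) * k := by
  classical
  obtain ⟨n, hn⟩ := CharCore.IsCharacter.exists_classInner_eq_natCast
    (CharCore.isCharacter_comp (CharCore.irr_isCharacter χ) R.subtype)
    (CharCore.IsIrrCharacter.isCharacter (CharCore.isIrrCharacter_one (G := R)))
  refine ⟨n, ?_⟩
  have hne : (Nat.card R : ℂ) ≠ 0 := Nat.cast_ne_zero.mpr Nat.card_pos.ne'
  simp only [Cfsg.classInner, Pi.one_apply, map_one, mul_one, Subgroup.coe_subtype] at hn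
  rw [← hn, ← mul_assoc, mul_inv_cancel₀ hne, one_mul]

end Cfsg.Agent.U33Uniq31
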