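import Cfsg.Agent.Lib.SmallGroups.Counting
import Cfsg.Agent.Lib.SmallGroups.Action

/-!
The `3`-local structure of a simple group of order `6048` from the centraliser orders of its elements of
order `3`.
-/

set_option autoImplicit false

namespace Cfsg.Agent.U33Uniq31

open Subgroup MulAction

/-- The hypotheses of the local analysis. -/
structure LocalHyp (N : Type*) [Group N] : Prop where
  card_eq : Nat.card N = 6048
  no_nine : ∀ g : N, orderOf g ≠ 9
  cent : ∀ g : N, orderOf g = 3 →
    Nat.card (centralizer ({g} : Set N)) = 9 ∨ Nat.card (centralizer ({g} : Set N)) = 54 ∨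
      Nat.card (centralizer ({g} : Set N)) = 108
  few : ∀ R : Sylow 3 N,
    Nat.card {g : N // g ∈ R ∧ g ≠ 1 ∧ Nat.card (centralizer ({g} : Set N)) ≠ 9} ≤ 2
  sylow_seven : Nat.card (Sylow 7 N) = 288

variable {N : Type*} [Group N] [Finite N]

theorem card_sylow_three (hc : Nat.card N = 6048) (R : Sylow 3 N) :
    Nat.card (R : Subgroup N) = 27 := by
  haveI : Fact (Nat.Prime 3) := ⟨Nat.prime_three⟩
  rw [R.card_eq_multiplicity, hc]
  have h : (6048 : ℕ).factorization 3 = 3 := by
    rw [show (6048 : ℕ) = 3 ^ 3 * 224 from rfl,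
      Nat.factorization_mul_apply_of_coprime (by norm_num), Nat.Prime.factorization_pow Nat.prime_three,
      Nat.factorization_eq_zero_of_not_dvd (by norm_num)]
    simp
  rw [h]
  rfl

theorem card_sylow_seven (hc : Nat.card N = 6048) (P : Sylow 7 N) :
    Nat.card (P : Subgroup N) = 7 := by
  haveI : Fact (Nat.Prime 7) := ⟨by norm_num⟩
  rw [P.card_eq_multiplicity, hc]
  have h : (6048 : ℕ).factorization 7 = 1 := by
    rw [show (6048 : ℕ) = 7 ^ 1 * 864 from rfl,
      Nat.factorization_mul_apply_of_coprime (by norm_num), Nat.Prime.factorization_pow (by norm_num),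
      Nat.factorization_eq_zero_of_not_dvd (by norm_num)]
    simp
  rw [h]
  rfl

omit [Finite N] in
theorem mem_cent_comm {g x : N} (h : x ∈ centralizer ({g} : Set N)) : x * g = g * x :=
  mem_centralizer_singleton_iff.mp h

omit [Finite N] in
theorem cent_of_comm {g x : N} (h : x * g = g * x) : x ∈ centralizer ({g} : Set N) :=
  mem_centralizer_singleton_iff.mpr h

omit [Finite N] in
theorem le_cent {g : N} {H : Subgroup N} (h : ∀ x ∈ H, x * g = g * x) :
    H ≤ centralizer ({g} : Set N) := fun x hx => cent_of_comm (h x hx)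

/-- The centre of a Sylow subgroup as a subgroup of the whole group. -/
def ctr (R : Subgroup N) : Subgroup N := R ⊓ centralizer (R : Set N)

omit [Finite N] in
theorem ctr_le (R : Subgroup N) : ctr R ≤ R := inf_le_left

omit [Finite N] in
theorem ctr_comm {R : Subgroup N} {z x : N} (hz : z ∈ ctr R) (hx : x ∈ R) : x * z = z * x :=
  mem_centralizer_iff.mp hz.2 x hx

/-- A subgroup with a Sylow subgroup of order 27 of index at most two has only one. -/
theorem le_of_index_two {K R Q : Subgroup N} (hR : Nat.card R = 27) (hQ : Nat.card Q = 27)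
    (hRK : R ≤ K) (hQK : Q ≤ K) (hK : Nat.card K ≤ 54) : Q = R := by
  refine eq_of_le_of_card_ge ?_ (le_of_eq (by rw [hQ, hR]))
  have h := (R.subgroupOf K).card_mul_index
  rw [Nat.card_congr (subgroupOfEquivOfLe hRK).toEquiv, hR] at h
  have hidx : (R.subgroupOf K).index ∣ 2 := by
    have h1 : (R.subgroupOf K).index ≤ 2 := by omega
    have h2 : (R.subgroupOf K).index ≠ 0 := index_ne_zero_of_finite
    rcases (show (R.subgroupOf K).index = 1 ∨ (R.subgroupOf K).index = 2 by omega) with e | e <;>
      rw [e] <;> norm_num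
  haveI : (R.subgroupOf K).Normal := by
    rcases (Nat.dvd_prime Nat.prime_two).mp hidx with e | e
    · rw [index_eq_one.mp e]; infer_instance
    · exact normal_of_index_eq_two e
  intro x hx
  have h1 := (R.subgroupOf K).pow_index_mem ⟨x, hQK hx⟩
  have h2 : x ^ (R.subgroupOf K).index ∈ R := by simpa [mem_subgroupOf] using h1
  have hx27 : x ^ 27 = 1 := by
    have := pow_card_eq_one' (x := (⟨x, hx⟩ : Q))
    rw [hQ] at this
    exact congrArg Subtype.val this
  rcases (Nat.dvd_prime Nat.prime_two).mp hidx with e | e <;> rw [e] at h2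
  · simpa using h2
  · have h3 := pow_mem h2 14
    rwa [← pow_mul, show 2 * 14 = 27 + 1 from rfl, pow_succ, hx27, one_mul] at h3

namespace LocalHyp

variable (H : LocalHyp N)
include H

theorem orderOf_three {R : Sylow 3 N} {x : N} (hx : x ∈ R) (hx1 : x ≠ 1) : orderOf x = 3 := by
  have h := Subgroup.orderOf_dvd_natCard (R : Subgroup N) hx
  rw [card_sylow_three H.card_eq R, show (27 : ℕ) = 3 ^ 3 from rfl] at h
  obtain ⟨k, hk, hk'⟩ := (Nat.dvd_prime_pow Nat.prime_three).mp h
  interval_cases k
  · exact absurd (orderOf_eq_one_iff.mp hk') hx1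
  · exact hk'
  · exact absurd hk' (H.no_nine x)
  · exfalso
    refine H.no_nine (x ^ 3) ?_
    rw [orderOf_pow' _ (by norm_num : (3 : ℕ) ≠ 0), hk']
    rfl

theorem pow_three {R : Sylow 3 N} {x : N} (hx : x ∈ R) : x ^ 3 = 1 := by
  by_cases hx1 : x = 1
  · rw [hx1, one_pow]
  · rw [← H.orderOf_three hx hx1, pow_orderOf_eq_one]

/-- Central elements have a large centraliser. -/
theorem cent_ne_nine {R : Sylow 3 N} {z : N} (hz : z ∈ ctr (R : Subgroup N)) :
    Nat.card (centralizer ({z} : Set N)) ≠ 9 := by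
  intro h
  have h1 := card_dvd_of_le (le_cent fun x hx => ctr_comm hz hx :
    (R : Subgroup N) ≤ centralizer ({z} : Set N))
  rw [card_sylow_three H.card_eq R, h] at h1
  norm_num at h1

theorem card_ctr (R : Sylow 3 N) : Nat.card (ctr (R : Subgroup N)) = 3 := by
  classical
  haveI : Fact (Nat.Prime 3) := ⟨Nat.prime_three⟩
  set Z := ctr (R : Subgroup N)
  have hdvd : Nat.card Z ∣ 3 ^ 3 := by
    have := card_dvd_of_le (ctr_le (R : Subgroup N))
    rwa [card_sylow_three H.card_eq R] at this
  have hnt : Nat.card Z ≠ 1 := by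
    intro h
    have hne : Nontrivial (R : Subgroup N) := by
      rw [← Finite.one_lt_card_iff_nontrivial, card_sylow_three H.card_eq R]; norm_num
    haveI := R.2.center_nontrivial
    obtain ⟨⟨c, hc⟩, hc1⟩ := exists_ne (1 : center (R : Subgroup N))
    have hmem : (c : N) ∈ Z := ⟨c.2, mem_centralizer_iff.mpr fun x hx =>
      congrArg Subtype.val (mem_center_iff.mp hc ⟨x, hx⟩)⟩
    rw [Subgroup.card_eq_one] at h
    rw [h, mem_bot] at hmem
    exact hc1 (Subtype.ext (Subtype.ext hmem))
  have hle : Nat.card Z - 1 ≤ 2 := by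
    refine le_trans (le_of_eq ?_) (le_trans (Nat.card_le_card_of_injective
      (fun z : {z : Z // z ≠ 1} =>
        (⟨(z.1 : N), ctr_le _ z.1.2, fun h => z.2 (Subtype.ext h), H.cent_ne_nine z.1.2⟩ :
          {g : N // g ∈ R ∧ g ≠ 1 ∧ Nat.card (centralizer ({g} : Set N)) ≠ 9}))
      (fun a b h => by
        simp only [Subtype.mk.injEq] at h
        exact Subtype.ext (Subtype.ext h))) (H.few R))
    have := Fintype.ofFinite Z
    rw [Nat.card_eq_fintype_card, Nat.card_eq_fintype_card, Fintype.card_subtype_compl,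
      Fintype.card_subtype_eq]
  obtain ⟨k, hk, hk'⟩ := (Nat.dvd_prime_pow Nat.prime_three).mp hdvd
  interval_cases k <;> simp only [Nat.reducePow] at hk' <;> omega

/-- An element of `R` off the centre has a centraliser of order `9`. -/
theorem cent_eq_nine {R : Sylow 3 N} {g : N} (hg : g ∈ R) (hgZ : g ∉ ctr (R : Subgroup N)) :
    Nat.card (centralizer ({g} : Set N)) = 9 := by
  classical
  by_contra hne
  have hg1 : g ≠ 1 := fun h => hgZ (h ▸ one_mem _)
  have hle := H.few R
  set Z := ctr (R : Subgroup N)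
  let T := {x : N // x ∈ R ∧ x ≠ 1 ∧ Nat.card (centralizer ({x} : Set N)) ≠ 9}
  have h2 : Nat.card Z ≤ Nat.card T := by
    refine Nat.card_le_card_of_injective (fun z : Z =>
      if h : (z : N) = 1 then (⟨g, hg, hg1, hne⟩ : T)
      else ⟨(z : N), ctr_le _ z.2, h, H.cent_ne_nine z.2⟩) ?_
    intro a b h
    simp only at h
    apply Subtype.ext
    split_ifs at h with ha hb hb <;> simp only [T, Subtype.mk.injEq] at h
    · rw [ha, hb]
    · exact absurd h fun h' : g = b => hgZ (h'.symm ▸ b.2)
    · exact absurd h fun h' : (a : N) = g => hgZ (h' ▸ a.2)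
    · exact h
  rw [H.card_ctr R] at h2
  change Nat.card T ≤ 2 at hle
  omega

theorem cent_le {R : Sylow 3 N} {g : N} (hg : g ∈ R) (hgZ : g ∉ ctr (R : Subgroup N)) :
    centralizer ({g} : Set N) ≤ (R : Subgroup N) := by
  set C := centralizer ({g} : Set N)
  have h9 := H.cent_eq_nine hg hgZ
  have hsub : (R : Subgroup N) ⊓ C = C := by
    refine eq_of_le_of_card_ge inf_le_right ?_
    have hZ : ctr (R : Subgroup N) ≤ (R : Subgroup N) ⊓ C :=
      le_inf (ctr_le _) (le_cent fun x hx => (ctr_comm hx hg).symm)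
    have hd := card_dvd_of_le (inf_le_right : (R : Subgroup N) ⊓ C ≤ C)
    rw [h9, show (9 : ℕ) = 3 ^ 2 from rfl] at hd
    obtain ⟨k, hk, hk'⟩ := (Nat.dvd_prime_pow Nat.prime_three).mp hd
    have h3 : 3 < Nat.card ↥((R : Subgroup N) ⊓ C) := by
      have hlt : ctr (R : Subgroup N) < (R : Subgroup N) ⊓ C := lt_of_le_of_ne hZ fun h =>
        hgZ (h.symm ▸ ⟨hg, cent_of_comm rfl⟩)
      have := Set.ncard_lt_ncard (SetLike.coe_ssubset_coe.mpr hlt) (Set.toFinite _)
      rwa [← Nat.card_coe_set_eq, ← Nat.card_coe_set_eq,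
        show Nat.card ((ctr (R : Subgroup N) : Subgroup N) : Set N) = 3 from H.card_ctr R] at this
    rw [h9, hk']
    interval_cases k <;> omega
  exact le_trans (le_of_eq hsub.symm) inf_le_left

/-- The centraliser of a central element contains only one Sylow subgroup. -/
theorem unique_in_cent {R Q : Sylow 3 N} {w : N} (hw : w ∈ ctr (R : Subgroup N)) (hw1 : w ≠ 1)
    (hQ : (Q : Subgroup N) ≤ centralizer ({w} : Set N)) : R = Q := by
  classical
  haveI : Fact (Nat.Prime 3) := ⟨Nat.prime_three⟩
  set C := centralizer ({w} : Set N) with hCdef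
  have hC : Nat.card C ≤ 108 := by
    rcases H.cent w (H.orderOf_three (R := R) hw.1 hw1) with h | h | h <;> rw [h] <;> norm_num
  have hR : (R : Subgroup N) ≤ C := le_cent fun x hx => ctr_comm hw hx
  have hR27 := card_sylow_three H.card_eq R
  have hQ27 := card_sylow_three H.card_eq Q
  by_contra hne
  set D := (R : Subgroup N) ⊓ Q with hD
  have hDd : Nat.card D ∣ 3 ^ 3 := by
    have := card_dvd_of_le (inf_le_left : D ≤ (R : Subgroup N))
    rwa [hR27] at this
  have hDge : 729 ≤ 108 * Nat.card D := by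
    let F : ↥(R : Subgroup N) × ↥(Q : Subgroup N) → C := fun x =>
      ⟨x.1.1 * x.2.1, mul_mem (hR x.1.2) (hQ x.2.2)⟩
    have hfib : ∀ c : C, Nat.card {x // F x = c} ≤ Nat.card D := by
      intro c
      rcases isEmpty_or_nonempty {x // F x = c} with he | ⟨⟨x₀, hx₀⟩⟩
      · simp
      refine Nat.card_le_card_of_injective (fun x : {x // F x = c} =>
        (⟨x₀.1.1⁻¹ * x.1.1.1, ?_, ?_⟩ : D)) ?_
      · show _ ∈ (R : Subgroup N)
        exact mul_mem (inv_mem x₀.1.2) x.1.1.2
      · show _ ∈ (Q : Subgroup N)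
        have h : x.1.1.1 * x.1.2.1 = x₀.1.1 * x₀.2.1 := congrArg Subtype.val (x.2.trans hx₀.symm)
        rw [show x₀.1.1⁻¹ * x.1.1.1 = x₀.2.1 * x.1.2.1⁻¹ by
          rw [eq_mul_inv_iff_mul_eq, mul_assoc, h, inv_mul_cancel_left]]
        exact mul_mem x₀.2.2 (inv_mem x.1.2.2)
      · rintro ⟨⟨a, b⟩, hab⟩ ⟨⟨a', b'⟩, hab'⟩ h
        have h' : x₀.1.1⁻¹ * a.1 = x₀.1.1⁻¹ * a'.1 := congrArg Subtype.val h
        have ha : a.1 = a'.1 := mul_left_cancel h'
        have hb : a.1 * b.1 = a'.1 * b'.1 := congrArg Subtype.val (hab.trans hab'.symm)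
        rw [ha] at hb
        exact Subtype.ext (Prod.ext (Subtype.ext ha) (Subtype.ext (mul_left_cancel hb)))
    have := Fintype.ofFinite C
    calc 729 = Nat.card (↥(R : Subgroup N) × ↥(Q : Subgroup N)) := by
          rw [Nat.card_prod, hR27, hQ27]
      _ = ∑ c : C, Nat.card {x // F x = c} := by
          rw [← Nat.card_congr (Equiv.sigmaFiberEquiv F), Nat.card_sigma]
      _ ≤ ∑ _c : C, Nat.card D := Finset.sum_le_sum fun c _ => hfib c
      _ = Nat.card C * Nat.card D := by
          rw [Finset.sum_const, Finset.card_univ, smul_eq_mul, Nat.card_eq_fintype_card (α := C)]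
      _ ≤ 108 * Nat.card D := Nat.mul_le_mul_right _ hC
  have hD9 : Nat.card D = 9 := by
    obtain ⟨k, hk, hk'⟩ := (Nat.dvd_prime_pow Nat.prime_three).mp hDd
    interval_cases k <;> simp only [Nat.reducePow] at hk'
    · omega
    · omega
    · exact hk'
    · exfalso
      have h1 : D = (R : Subgroup N) := eq_of_le_of_card_ge inf_le_left (by rw [hk', hR27])
      have h2 : D = (Q : Subgroup N) := eq_of_le_of_card_ge inf_le_right (by rw [hk', hQ27])
      exact hne (Sylow.ext (h1.symm.trans h2))
  -- `w` lies in `Q`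
  have hwQ : w ∈ (Q : Subgroup N) := by
    have hp : IsPGroup 3 ↥(zpowers w) := IsPGroup.of_card (n := 1)
      (by rw [Nat.card_zpowers, H.orderOf_three (R := R) hw.1 hw1, pow_one])
    have hn : zpowers w ≤ normalizer (Q : Set N) := by
      refine le_trans ?_ (centralizer_le_normalizer _)
      rw [zpowers_le, mem_centralizer_iff]
      exact fun x hx => mem_cent_comm (hQ hx)
    have := hp.inf_normalizer_sylow Q
    rw [inf_eq_left.mpr hn] at this
    have h2 : w ∈ zpowers w ⊓ (Q : Subgroup N) := by rw [← this]; exact mem_zpowers w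
    exact h2.2
  obtain ⟨g, hgD, hgZ⟩ : ∃ g ∈ D, g ∉ ctr (R : Subgroup N) := by
    by_contra h
    push_neg at h
    have := card_le_of_le (H := D) (K := ctr (R : Subgroup N)) h
    rw [hD9, H.card_ctr R] at this
    omega
  have hDcomm : IsMulCommutative D := by
    rw [show (9 : ℕ) = 3 ^ 2 from rfl] at hD9
    exact IsPGroup.isMulCommutative_of_card_eq_prime_sq hD9
  -- the normaliser of `D` in `C`
  set K := normalizer (D : Set N) ⊓ C
  have hK : Nat.card K ≤ 54 := by
    let act : MulAction K N := MulAction.compHom N (ConjAct.toConjAct.toMonoidHom.comp K.subtype)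
    have horb : Nat.card (MulAction.orbit K g) ≤ 6 := by
      have hwD : w ∈ D := ⟨hw.1, hwQ⟩
      have hz : Nat.card {x : N // x ∈ D ∧ x ∉ zpowers w} ≤ 6 := by
        have := Fintype.ofFinite D
        let e : {x : N // x ∈ D ∧ x ∉ zpowers w} → {x : D // x ∉ (zpowers w).subgroupOf D} :=
          fun x => ⟨⟨x.1, x.2.1⟩, x.2.2⟩
        refine le_trans (Nat.card_le_card_of_injective e fun a b h => Subtype.ext
          (congrArg (fun x : {x : D // x ∉ (zpowers w).subgroupOf D} => (x.1 : N)) h)) ?_
        classical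
        rw [Nat.card_eq_fintype_card, Fintype.card_subtype_compl, ← Nat.card_eq_fintype_card,
          ← Nat.card_eq_fintype_card, hD9]
        have : Nat.card ↥((zpowers w).subgroupOf D) = 3 := by
          rw [Nat.card_congr (subgroupOfEquivOfLe (zpowers_le.mpr hwD)).toEquiv, Nat.card_zpowers,
            H.orderOf_three (R := R) hw.1 hw1]
        change 9 - Nat.card ↥((zpowers w).subgroupOf D) ≤ 6
        omega
      refine le_trans ?_ hz
      refine Nat.card_le_card_of_injective (fun x : MulAction.orbit K g =>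
        (⟨x.1, ?_, ?_⟩ : {x : N // x ∈ D ∧ x ∉ zpowers w})) fun a b h => Subtype.ext
          (congrArg (fun x : {x : N // x ∈ D ∧ x ∉ zpowers w} => x.1) h)
      · obtain ⟨k, hk⟩ := x.2
        rw [← hk]
        exact (mem_normalizer_iff.mp k.2.1 g).mp hgD
      · obtain ⟨k, hk⟩ := x.2
        rw [← hk]
        intro hmem
        obtain ⟨n, hn⟩ := hmem
        simp only at hn
        have hkw : (k : N) * w * (k : N)⁻¹ = w := by
          rw [mem_cent_comm k.2.2, mul_inv_cancel_right]
        have hk' : (k : N) * g * (k : N)⁻¹ = w ^ n := hn.symm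
        have : g = w ^ n := by
          have e : (k : N) * w ^ n * (k : N)⁻¹ = w ^ n := by rw [← conj_zpow, hkw]
          exact mul_left_cancel (mul_right_cancel (hk'.trans e.symm))
        exact hgZ (this ▸ zpow_mem hw n)
    have hstab : Nat.card (MulAction.stabilizer K g) ≤ 9 := by
      rw [← H.cent_eq_nine hgD.1 hgZ]
      refine Nat.card_le_card_of_injective (fun k : MulAction.stabilizer K g =>
        (⟨((k : K) : N), ?_⟩ : centralizer ({g} : Set N))) fun a b h => Subtype.ext (Subtype.ext
          (congrArg (fun x : centralizer ({g} : Set N) => (x : N)) h))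
      exact cent_of_comm (mul_inv_eq_iff_eq_mul.mp k.2)
    have := MulAction.index_stabilizer K g
    have h2 := (MulAction.stabilizer K g).card_mul_index
    rw [this, ← Nat.card_coe_set_eq] at h2
    calc Nat.card K = _ := h2.symm
      _ ≤ 9 * 6 := Nat.mul_le_mul hstab horb
  have hn : ∀ S : Sylow 3 N, D ≤ S → (S : Subgroup N) ≤ C → (S : Subgroup N) ≤ K := by
    intro S hDS hSC
    refine le_inf ?_ hSC
    haveI : (D.subgroupOf (S : Subgroup N)).Normal := by
      refine normal_of_index_eq_minFac_card ?_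
      have h := (D.subgroupOf (S : Subgroup N)).card_mul_index
      rw [Nat.card_congr (subgroupOfEquivOfLe hDS).toEquiv, hD9,
        card_sylow_three H.card_eq S] at h
      rw [card_sylow_three H.card_eq S]
      norm_num
      omega
    exact normal_subgroupOf_iff_le_normalizer hDS |>.mp inferInstance
  exact hne (Sylow.ext (le_of_index_two hQ27 hR27 (hn Q inf_le_right hQ)
    (hn R inf_le_left hR) hK))

/-- Distinct Sylow `3`-subgroups meet trivially. -/
theorem eq_of_mem {R Q : Sylow 3 N} {g : N} (hR : g ∈ R) (hQ : g ∈ Q) (hg1 : g ≠ 1) : R = Q := by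
  by_cases hgZ : g ∈ ctr (R : Subgroup N)
  · by_cases hgQ : g ∈ ctr (Q : Subgroup N)
    · exact H.unique_in_cent hgZ hg1 (le_cent fun x hx => ctr_comm hgQ hx)
    · exact absurd (H.cent_eq_nine hQ hgQ) (H.cent_ne_nine hgZ)
  · have hgQ : g ∉ ctr (Q : Subgroup N) := fun h =>
      absurd (H.cent_eq_nine hR hgZ) (H.cent_ne_nine h)
    have h1 := H.cent_le hR hgZ
    have h2 := H.cent_le hQ hgQ
    obtain ⟨w, hw, hw1⟩ : ∃ w ∈ ctr (R : Subgroup N), w ≠ 1 := by
      by_contra h
      push_neg at h
      have h3 := H.card_ctr R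
      rw [(eq_bot_iff_forall _).mpr h, card_bot] at h3
      omega
    have hwQ : w ∈ (Q : Subgroup N) := h2 (cent_of_comm (ctr_comm hw hR).symm)
    by_cases hwz : w ∈ ctr (Q : Subgroup N)
    · exact H.unique_in_cent hw hw1 (le_cent fun x hx => ctr_comm hwz hx)
    · exact absurd (H.cent_eq_nine hwQ hwz) (H.cent_ne_nine hw)

end LocalHyp

end Cfsg.Agent.U33Uniq31
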