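import Cfsg.Agent.Lib.SmallGroups.SelfCent.Two
import Cfsg.Agent.U33Uniq31.Local

/-!
Sylow `7`-subgroups in groups of order dividing `12096` without elements of order `14` and `21`.
-/

set_option autoImplicit false

namespace Cfsg.Agent.U33Uniq31

open Subgroup Cfsg.Agent.SmallGroups Cfsg.Agent.SmallGroups.SelfCent

variable {G : Type*} [Group G] [Finite G]

instance factSeven : Fact (Nat.Prime 7) := ⟨by norm_num⟩

/-- The spectrum hypothesis. -/
def NoBig (G : Type*) [Group G] : Prop :=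
  ∀ g : G, orderOf g ≠ 9 ∧ orderOf g ≠ 14 ∧ orderOf g ≠ 21

omit [Finite G] in
theorem NoBig.of_injective {H : Type*} [Group H] (h : NoBig G) (f : H →* G)
    (hf : Function.Injective f) : NoBig H := fun x => by
  rw [← orderOf_injective f hf x]
  exact h (f x)

theorem coprime_of_seven (h : NoBig G) (hd : Nat.card G ∣ 12096) {P : Subgroup G}
    (hP : Nat.card P = 7) : centralizer (P : Set G) = P := by
  haveI : Fact (Nat.Prime 7) := ⟨by norm_num⟩
  set C := centralizer (P : Set G)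
  have hle : P ≤ C := by
    intro x hx
    rw [mem_centralizer_iff]
    intro y hy
    have : IsCyclic P := isCyclic_of_prime_card hP
    let _ := IsCyclic.commGroup (α := P)
    exact congrArg Subtype.val (mul_comm (⟨y, hy⟩ : P) ⟨x, hx⟩)
  obtain ⟨y, hy, hy1⟩ : ∃ y ∈ P, y ≠ 1 := by
    by_contra hc
    push_neg at hc
    rw [(eq_bot_iff_forall _).mpr hc, card_bot] at hP
    omega
  have hy7 := orderOf_of_card_prime hP hy hy1
  have hno : ∀ q : ℕ, q = 2 ∨ q = 3 → ¬ q ∣ Nat.card C := by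
    intro q hq hdvd
    haveI : Fact q.Prime := ⟨by rcases hq with rfl | rfl <;> norm_num⟩
    obtain ⟨x, hx⟩ := exists_prime_orderOf_dvd_card' (G := C) q hdvd
    have hx' : orderOf (x : G) = q := (orderOf_coe x).trans hx
    have hc : Commute (x : G) y := (mem_centralizer_iff.mp x.2 y hy).symm
    have := hc.orderOf_mul_eq_mul_orderOf_of_coprime (by
      rw [hx', hy7]; rcases hq with rfl | rfl <;> norm_num)
    rw [hx', hy7] at this
    rcases hq with rfl | rfl
    · exact (h _).2.1 this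
    · exact (h _).2.2 this
  have hC : Nat.card C ∣ 2 ^ 6 * (3 ^ 3 * 7) := (card_subgroup_dvd_card C).trans hd
  have h1 := (((Nat.prime_two.coprime_iff_not_dvd.mpr (hno 2 (Or.inl rfl))).symm).pow_right 6).dvd_of_dvd_mul_left hC
  have h2 := (((Nat.prime_three.coprime_iff_not_dvd.mpr (hno 3 (Or.inr rfl))).symm).pow_right 3).dvd_of_dvd_mul_left h1
  refine (eq_of_le_of_card_ge hle ?_).symm
  rw [hP]
  exact Nat.le_of_dvd (by norm_num) h2

/-- A set-up at a Sylow `7`-subgroup. -/
theorem exists_setup (h : NoBig G) (hd : Nat.card G ∣ 12096) (P : Sylow 7 G)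
    (hP : Nat.card (P : Subgroup G) = 7) :
    ∃ s : Setup G 7, s.K = ⊥ ∧ zpowers s.z = (P : Subgroup G) ∧
      Nat.card (normalizer ((P : Subgroup G) : Set G)) = Nat.card s.auto * 7 ∧
      Nat.card s.auto ∣ 6 ∧ Nat.card (Sylow 7 G) * (Nat.card s.auto * 7) = Nat.card G := by
  haveI : Fact (Nat.Prime 7) := ⟨by norm_num⟩
  obtain ⟨s, hK, hz, hN⟩ := exists_setup_of_prime (P : Subgroup G) hP (coprime_of_seven h hd hP)
  refine ⟨s, hK, hz, hN, ?_, ?_⟩
  · have := s.auto.card_subgroup_dvd_card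
    rwa [Nat.card_eq_fintype_card (α := (ZMod 7)ˣ), ZMod.card_units] at this
  · rw [P.card_eq_index_normalizer, ← hN]
    exact index_mul_card _

theorem auto_eq_three (h : NoBig G) (hc : Nat.card G = 6048) (P : Sylow 7 G) :
    ∃ s : Setup G 7, s.K = ⊥ ∧ zpowers s.z = (P : Subgroup G) ∧
      Nat.card (normalizer ((P : Subgroup G) : Set G)) = 21 ∧ Nat.card s.auto = 3 ∧
      Nat.card (Sylow 7 G) = 288 := by
  haveI : Fact (Nat.Prime 7) := ⟨by norm_num⟩
  obtain ⟨s, hK, hz, hN, he, hn⟩ :=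
    exists_setup h (by rw [hc]; norm_num) P (card_sylow_seven hc P)
  have hm : Nat.card (Sylow 7 G) % 7 = 1 := card_sylow_modEq_one 7 G
  rw [hc] at hn
  set e := Nat.card s.auto
  have he' : e = 1 ∨ e = 2 ∨ e = 3 ∨ e = 6 := by
    have h6 := Nat.le_of_dvd (by norm_num) he
    have h0 := Nat.pos_of_dvd_of_pos he (by norm_num)
    interval_cases e <;> simp_all
  rcases he' with e1 | e1 | e1 | e1 <;> rw [e1] at hn hN
  · omega
  · omega
  · exact ⟨s, hK, hz, hN, e1, by omega⟩
  · omega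

theorem auto_eq_six (h : NoBig G) (hc : Nat.card G = 12096) (P : Sylow 7 G)
    (hP : Nat.card (P : Subgroup G) = 7) :
    ∃ s : Setup G 7, s.K = ⊥ ∧ zpowers s.z = (P : Subgroup G) ∧
      Nat.card (normalizer ((P : Subgroup G) : Set G)) = 42 ∧ Nat.card s.auto = 6 ∧
      Nat.card (Sylow 7 G) = 288 := by
  haveI : Fact (Nat.Prime 7) := ⟨by norm_num⟩
  obtain ⟨s, hK, hz, hN, he, hn⟩ := exists_setup h (by rw [hc]) P hP
  have hm : Nat.card (Sylow 7 G) % 7 = 1 := card_sylow_modEq_one 7 G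
  rw [hc] at hn
  set e := Nat.card s.auto
  have he' : e = 1 ∨ e = 2 ∨ e = 3 ∨ e = 6 := by
    have h6 := Nat.le_of_dvd (by norm_num) he
    have h0 := Nat.pos_of_dvd_of_pos he (by norm_num)
    interval_cases e <;> simp_all
  rcases he' with e1 | e1 | e1 | e1 <;> rw [e1] at hn hN
  · omega
  · omega
  · omega
  · exact ⟨s, hK, hz, hN, e1, by omega⟩

end Cfsg.Agent.U33Uniq31
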