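import Cfsg.Agent.U33Uniq31.MChecks
import Cfsg.Agent.U33Uniq31.Seven
import Cfsg.Agent.G22.GTwo
import Cfsg.Agent.S1059

/-!
`G₂(2)` has no elements of order `9`, `14` or `21`.
-/

set_option autoImplicit false
set_option maxRecDepth 100000

namespace Cfsg.Agent.U33Uniq31

open Subgroup Cfsg.Agent.CosetEnum

theorem incKeys_sorted : ∀ l : List ℕ, incKeys l = true → l.Pairwise fun a b => keyT a < keyT b
  | [], _ => List.Pairwise.nil
  | [a], _ => List.pairwise_singleton _ a
  | a :: b :: t, h => by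
    simp only [incKeys, Bool.and_eq_true, Nat.blt_eq] at h
    have ih := incKeys_sorted (b :: t) h.2
    refine List.pairwise_cons.mpr ⟨fun c hc => ?_, ih⟩
    rcases List.mem_cons.mp hc with rfl | hc
    · exact h.1
    · exact h.1.trans ((List.pairwise_cons.mp ih).1 c hc)

/-- Table of a product of a transversal and a stabiliser element. -/
def prodT (i : Fin 63) (k : Fin 192) (x : ℕ) : ℕ :=
  getP (transTabs.getD i 0) (getP (stabTabs.getD k 0) x)

variable {F : Type*} [Field F] [Fintype F]

theorem exists_group_enumeration (hF : Fintype.card F = 2) :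
    ∃ ψ : ↥(Cfsg.Lie.chevG2.group F) →* Equiv.Perm (Fin 63), Function.Injective ψ ∧
      (∀ g, ∃ i k, ∀ x : Fin 63, (ψ g x).val = prodT i k x) ∧
      (∀ k < 277, ∃ g, ∀ x : Fin 63, (ψ g x).val = getP (tab k) x) := by
  classical
  obtain ⟨ψ, hψ, hψr⟩ := G22.exists_embedding (F := F) hF
  have hent : ∀ k < 277, ∃ g, ∀ x : Fin 63, (ψ g x).val = getP (tab k) x := by
    have he := entries_ok
    simp only [List.all_eq_true, List.mem_range] at he
    intro k
    induction k using Nat.strong_induction_on with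
    | _ k ih =>
      intro hk
      have h := he k hk
      rw [entryOK] at h
      split_ifs at h with h12
      · obtain ⟨g, hg⟩ := hψr (Subgroup.subset_closure ⟨⟨k, h12⟩, rfl⟩ :
          G22.genP G22.genF_invol ⟨k, h12⟩ ∈ Subgroup.closure (Set.range (G22.genP G22.genF_invol)))
        refine ⟨g, fun x => ?_⟩
        rw [hg, Nat.eq_of_beq_eq_true h, gen_ok ⟨k, h12⟩ x]
        rfl
      · simp only [forceNat_eq, Bool.and_eq_true, Nat.blt_eq, List.all_eq_true, List.mem_range] at h
        obtain ⟨⟨ha, hb⟩, hT⟩ := h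
        obtain ⟨ga, hga⟩ := ih _ ha (by omega)
        obtain ⟨gb, hgb⟩ := ih _ hb (by omega)
        refine ⟨ga * gb, fun x => ?_⟩
        rw [map_mul, Equiv.Perm.mul_apply, hga, hgb, Nat.eq_of_beq_eq_true (hT x x.isLt)]
  obtain ⟨h1, h2, h3, hl1, hl2, -, -⟩ := lists_ok
  simp only [List.all_eq_true, List.mem_range, Bool.and_eq_true, Nat.blt_eq] at h1 h2
  choose gt hgt using fun i : Fin 63 => hent _ (h1 i i.isLt).1.2
  choose gs hgs using fun k : Fin 192 => hent _ (h2 k k.isLt).1.2
  have hval : ∀ i k, ∀ x : Fin 63, (ψ (gt i * gs k) x).val = prodT i k x := by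
    intro i k x
    rw [map_mul, Equiv.Perm.mul_apply, hgt, hgs, Nat.eq_of_beq_eq_true (h1 i i.isLt).1.1,
      Nat.eq_of_beq_eq_true (h2 k k.isLt).1.1]
    rfl
  have hzero : ∀ i k, (ψ (gt i * gs k) 0).val = i.val := by
    intro i k
    rw [hval, prodT, show ((0 : Fin 63) : ℕ) = 0 from rfl, Nat.eq_of_beq_eq_true (h2 k k.isLt).2,
      Nat.eq_of_beq_eq_true (h1 i i.isLt).2]
  have hinj : Function.Injective fun p : Fin 63 × Fin 192 => gt p.1 * gs p.2 := by
    rintro ⟨i, k⟩ ⟨i', k'⟩ h
    simp only at h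
    have hi : i = i' := Fin.ext (by rw [← hzero i k, h, hzero])
    subst hi
    have hg : gs k = gs k' := mul_left_cancel h
    have hx : ∀ x : Fin 63, getP (stabTabs.getD k 0) x = getP (stabTabs.getD k' 0) x := fun x => by
      rw [← Nat.eq_of_beq_eq_true (h2 k k.isLt).1.1, ← Nat.eq_of_beq_eq_true (h2 k' k'.isLt).1.1,
        ← hgs, ← hgs, hg]
    by_contra hne
    have hkk : k.val ≠ k'.val := fun e => hne (by rw [Fin.ext e])
    have hs := List.pairwise_iff_getElem.mp (incKeys_sorted _ h3)
    have hkey : keyT (stabTabs.getD k 0) = keyT (stabTabs.getD k' 0) := by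
      simp only [keyT]
      rw [show (26 : ℕ) = ((26 : Fin 63) : ℕ) from rfl, show (2 : ℕ) = ((2 : Fin 63) : ℕ) from rfl,
        hx, hx]
    have l1 : k.val < stabTabs.length := by rw [hl2]; exact k.isLt
    have l2 : k'.val < stabTabs.length := by rw [hl2]; exact k'.isLt
    rw [List.getD_eq_getElem _ 0 l1, List.getD_eq_getElem _ 0 l2] at hkey
    rcases Nat.lt_or_gt_of_ne hkk with hlt | hlt
    · exact absurd hkey (hs _ _ l1 l2 hlt).ne
    · exact absurd hkey (hs _ _ l2 l1 hlt).ne'
  have hbij : Function.Bijective fun p : Fin 63 × Fin 192 => gt p.1 * gs p.2 :=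
    (Nat.bijective_iff_injective_and_card _).mpr ⟨hinj, by
      rw [Nat.card_eq_fintype_card, Fintype.card_prod, Fintype.card_fin, Fintype.card_fin,
        Cfsg.Agent.S1059.result hF]
      norm_num⟩
  refine ⟨ψ, hψ, fun g => ?_, hent⟩
  obtain ⟨⟨i, k⟩, hik⟩ := hbij.2 g
  exact ⟨i, k, fun x => by rw [← hik]; exact hval i k x⟩

theorem noBig_chevG2 (hF : Fintype.card F = 2) : NoBig ↥(Cfsg.Lie.chevG2.group F) := by
  classical
  have hM : Nat.card ↥(Cfsg.Lie.chevG2.group F) = 12096 := by
    rw [Cfsg.Agent.S1059.result hF]; norm_num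
  obtain ⟨ψ, hψ, hall, hent⟩ := exists_group_enumeration (F := F) hF
  obtain ⟨h1, h2, h3, hl1, hl2, ⟨hy, hu, hv, hz⟩, hid⟩ := lists_ok
  simp only [List.all_eq_true, List.mem_range, Bool.and_eq_true, Nat.blt_eq] at h1 h2 hid
  obtain ⟨y, hyv⟩ := hent yIdx hy
  obtain ⟨u, huv⟩ := hent uIdx hu
  obtain ⟨v, hvv⟩ := hent vIdx hv
  obtain ⟨z, hzv⟩ := hent zIdx hz
  -- iterates
  have hpow : ∀ {g : ↥(Cfsg.Lie.chevG2.group F)} {T : ℕ}, (∀ x : Fin 63, (ψ g x).val = getP T x) →
      ∀ (m : ℕ) (x : Fin 63), (ψ (g ^ m) x).val = iterT T m x := by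
    intro g T hg m
    induction m with
    | zero => intro x; simp [iterT]
    | succ m ih =>
      intro x
      rw [pow_succ', map_mul, Equiv.Perm.mul_apply, hg, ih]
      rfl
  -- an element fixing the base is trivial
  have hbase : ∀ g, (∀ x : Fin 63, x.val ∈ base3 → ψ g x = x) → g = 1 := by
    intro g hg
    obtain ⟨i, k, hik⟩ := hall g
    have e0 := hik 0
    rw [hg 0 (by decide), prodT, show ((0 : Fin 63) : ℕ) = 0 from rfl,
      Nat.eq_of_beq_eq_true (h2 k k.isLt).2, Nat.eq_of_beq_eq_true (h1 i i.isLt).2] at e0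
    have hi0 : i.val = 0 := e0.symm
    have hlt : ∀ x : Fin 63, getP (stabTabs.getD k 0) x < 63 := fun x => by
      obtain ⟨g', hg'⟩ := hent _ (h2 k k.isLt).1.2
      rw [← Nat.eq_of_beq_eq_true (h2 k k.isLt).1.1, ← hg']
      exact Fin.isLt _
    have hT : ∀ x : Fin 63, (ψ g x).val = getP (stabTabs.getD k 0) x := fun x => by
      rw [hik, prodT, hi0, Nat.eq_of_beq_eq_true (hid _ (hlt x))]
    have hk26 : getP (stabTabs.getD k 0) 26 = 26 := by
      have := hT 26; rw [hg 26 (by decide)] at this; exact this.symm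
    have hk2 : getP (stabTabs.getD k 0) 2 = 2 := by
      have := hT 2; rw [hg 2 (by decide)] at this; exact this.symm
    have hk : keyT (stabTabs.getD k 0) = keyT (stabTabs.getD 0 0) := by
      rw [keyT, hk26, hk2]; decide +kernel
    have hk0 : k.val = 0 := by
      by_contra hne
      have hs := List.pairwise_iff_getElem.mp (incKeys_sorted _ h3)
      have l1 : k.val < stabTabs.length := by rw [hl2]; exact k.isLt
      have l0 : 0 < stabTabs.length := by rw [hl2]; norm_num
      rw [List.getD_eq_getElem _ 0 l1, List.getD_eq_getElem _ 0 l0] at hk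
      exact absurd hk (hs _ _ l0 l1 (Nat.pos_of_ne_zero hne)).ne'
    apply hψ
    rw [map_one]
    refine Equiv.ext fun x => Fin.ext ?_
    have hid' : ∀ x : Fin 63, getP (stabTabs.getD 0 0) x = x := by decide +kernel
    rw [hT, hk0, hid', Equiv.Perm.one_apply]
  have heq : ∀ g g', (∀ x : Fin 63, x.val ∈ base3 → (ψ g x).val = (ψ g' x).val) → g = g' := by
    intro g g' h
    refine inv_mul_eq_one.mp (hbase (g'⁻¹ * g) fun x hx => ?_) |>.symm
    rw [map_mul, map_inv, Equiv.Perm.mul_apply, Equiv.Perm.inv_eq_iff_eq]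
    exact Fin.ext (h x hx)
  -- the centraliser of `y`
  haveI : Fact (Nat.Prime 7) := ⟨by norm_num⟩
  have hy7 : orderOf y = 7 := by
    refine orderOf_eq_prime (hbase _ fun x hx => Fin.ext ?_) fun h => ?_
    · rw [hpow hyv]
      have := y_order.1
      simp only [List.all_eq_true] at this
      exact Nat.eq_of_beq_eq_true (this _ hx)
    · have := hyv 0
      rw [h, map_one, Equiv.Perm.one_apply] at this
      exact y_order.2 this.symm
  have hcy : ∀ g, g * y = y * g → g ∈ zpowers y := by
    intro g hg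
    obtain ⟨i, k, hik⟩ := hall g
    have hc := cent_ok
    simp only [List.all_eq_true] at hc
    have l1 : i.val < transTabs.length := by rw [hl1]; exact i.isLt
    have l2 : k.val < stabTabs.length := by rw [hl2]; exact k.isLt
    have h := hc (transTabs.getD i 0) (by rw [List.getD_eq_getElem _ 0 l1]; exact List.getElem_mem _)
    simp only [centOK, forceNat_eq, List.all_eq_true] at h
    have h' := h (stabTabs.getD k 0) (by rw [List.getD_eq_getElem _ 0 l2]; exact List.getElem_mem _)
    simp only [Bool.or_eq_true, Bool.not_eq_true', List.any_eq_true, List.all_eq_true,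
      List.mem_range] at h'
    rcases h' with h' | ⟨m, -, hm⟩
    · exfalso
      have : (base3.all fun x => Nat.beq
          (getP (transTabs.getD i 0) (getP (stabTabs.getD k 0) (getP (tab yIdx) x)))
          (getP (tab yIdx) (getP (transTabs.getD i 0) (getP (stabTabs.getD k 0) x)))) = true := by
        simp only [List.all_eq_true]
        intro x hx
        have hx63 : x < 63 := by revert hx; revert x; decide
        have e := congrArg (fun a => (ψ a ⟨x, hx63⟩).val) hg
        simp only [map_mul, Equiv.Perm.mul_apply, hik, hyv, prodT] at e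
        rw [e]; exact Nat.beq_refl _
      rw [this] at h'
      exact Bool.noConfusion h'
    · have : g = y ^ m := heq _ _ fun x hx => by
        rw [hik, hpow hyv]; exact Nat.eq_of_beq_eq_true (hm _ hx)
      exact this ▸ pow_mem (mem_zpowers y) m
  -- the Heisenberg subgroup
  have heis := heis_ok
  have hb3 : ∀ x : Fin 63, x.val ∈ base3 → ∀ (g g' : ↥(Cfsg.Lie.chevG2.group F)) (a b : ℕ),
      (ψ g x).val = a → (ψ g' x).val = b → a = b → (ψ g x).val = (ψ g' x).val := by
    intro x _ g g' a b h1 h2 h3; rw [h1, h2, h3]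
  have h3u : u ^ 3 = 1 := hbase _ fun x hx => Fin.ext (by rw [hpow huv]; exact (heis _ hx).1)
  have h3v : v ^ 3 = 1 := hbase _ fun x hx => Fin.ext (by rw [hpow hvv]; exact (heis _ hx).2.1)
  have h3z : z ^ 3 = 1 := hbase _ fun x hx => Fin.ext (by rw [hpow hzv]; exact (heis _ hx).2.2.1)
  have hzu : Commute z u := heq _ _ fun x hx => by
    simp only [map_mul, Equiv.Perm.mul_apply, hzv, huv]; exact (heis _ hx).2.2.2.1
  have hzv' : Commute z v := heq _ _ fun x hx => by
    simp only [map_mul, Equiv.Perm.mul_apply, hzv, hvv]; exact (heis _ hx).2.2.2.2.1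
  have hvu : v * u = u * v * z ^ 2 := heq _ _ fun x hx => by
    rw [map_mul, map_mul, map_mul, Equiv.Perm.mul_apply, Equiv.Perm.mul_apply, Equiv.Perm.mul_apply,
      hvv, huv, huv, hvv, hpow hzv]
    exact (heis _ hx).2.2.2.2.2
  have hmulc := coord_mul hzu hzv' hvu h3u h3v h3z
  let R : Subgroup ↥(Cfsg.Lie.chevG2.group F) := Subgroup.closure (Set.range fun i : Fin 27 => coord u v z i)
  have hcube : ∀ g ∈ R, g ^ 3 = 1 ∧ ∃ i : Fin 27, g = coord u v z i := by
    intro g hg
    have hmem : ∃ i : Fin 27, g = coord u v z i := by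
      induction hg using Subgroup.closure_induction with
      | mem g hg => obtain ⟨i, rfl⟩ := hg; exact ⟨i, rfl⟩
      | one => exact ⟨0, by simp [coord]⟩
      | mul g h _ _ hg hh =>
        obtain ⟨i, rfl⟩ := hg
        obtain ⟨j, rfl⟩ := hh
        have hb : ∀ i j : Fin 27, mulN i j < 27 := by decide +kernel
        exact ⟨⟨mulN i j, hb i j⟩, hmulc i j⟩
      | inv g _ hg =>
        obtain ⟨i, rfl⟩ := hg
        have hb : ∀ i : Fin 27, ∃ j : Fin 27, mulN i j = 0 := by decide +kernel
        obtain ⟨j, hj⟩ := hb i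
        refine ⟨j, inv_eq_of_mul_eq_one_right ?_⟩
        rw [hmulc, hj]; simp [coord]
    refine ⟨?_, hmem⟩
    obtain ⟨i, rfl⟩ := hmem
    rw [coord_pow hzu hzv' hvu h3u h3v h3z]
    have hb : ∀ i : Fin 27, powN i 3 = 0 := by decide +kernel
    rw [hb]; simp [coord]
  have hR27 : Nat.card R = 27 := by
    have hmem : ∀ i : Fin 27, coord u v z i ∈ R := fun i => Subgroup.subset_closure ⟨i, rfl⟩
    have hbij : Function.Bijective fun i : Fin 27 => (⟨coord u v z i, hmem i⟩ : R) := by
      refine ⟨fun i j h => heis_inj i j fun x hx => ?_, fun g => ?_⟩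
      · have hx63 : x < 63 := by revert hx; revert x; decide
        have e := congrArg (fun a : R => (ψ (a : ↥(Cfsg.Lie.chevG2.group F)) ⟨x, hx63⟩).val) h
        simp only [coord, map_mul, Equiv.Perm.mul_apply, hpow huv, hpow hvv, hpow hzv] at e
        exact e
      · obtain ⟨i, hi⟩ := (hcube g.1 g.2).2
        exact ⟨i, Subtype.ext hi.symm⟩
    rw [← Nat.card_congr (Equiv.ofBijective _ hbij), Nat.card_eq_fintype_card, Fintype.card_fin]
  intro g
  refine ⟨fun h9 => ?_, ?_⟩
  · haveI : Fact (Nat.Prime 3) := ⟨Nat.prime_three⟩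
    obtain ⟨R', hR'⟩ := (IsPGroup.of_card (p := 3) (n := 3) hR27).exists_le_sylow
    have hR'27 : Nat.card (R' : Subgroup ↥(Cfsg.Lie.chevG2.group F)) = 27 := by
      rw [R'.card_eq_multiplicity, hM, show (12096 : ℕ).factorization 3 = 3 by
        rw [show (12096 : ℕ) = 3 ^ 3 * 448 from rfl,
          Nat.factorization_mul_apply_of_coprime (by norm_num),
          Nat.Prime.factorization_pow Nat.prime_three,
          Nat.factorization_eq_zero_of_not_dvd (by norm_num)]
        simp]
      rfl
    have hReq : R = R' := eq_of_le_of_card_ge hR' (by rw [hR27, hR'27])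
    obtain ⟨S, hS⟩ := (IsPGroup.of_card (p := 3) (n := 2)
      (show Nat.card (zpowers g) = 3 ^ 2 by rw [Nat.card_zpowers, h9]; rfl)).exists_le_sylow
    obtain ⟨c, hc⟩ := MulAction.exists_smul_eq ↥(Cfsg.Lie.chevG2.group F) S R'
    have hmem : c * g * c⁻¹ ∈ R := by
      rw [hReq, ← hc, Sylow.coe_subgroup_smul]
      exact Subgroup.smul_mem_pointwise_smul g (MulAut.conj c) _ (hS (mem_zpowers g))
    have h3 := (hcube _ hmem).1
    have hord := orderOf_dvd_of_pow_eq_one h3
    rw [← MulAut.conj_apply, MulEquiv.orderOf_eq, h9] at hord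
    norm_num at hord
  -- conjugate a power of order seven into the centraliser computation
  have key : ∀ q : ℕ, q ≠ 1 → ¬ 7 ∣ q → orderOf g ≠ 7 * q := by
    intro q hq1 hq7 h
    have hq0 : q ≠ 0 := fun e => hq7 (e ▸ dvd_zero 7)
    have ho : orderOf (g ^ q) = 7 := by
      rw [orderOf_pow' _ hq0, h, Nat.gcd_mul_left_left, Nat.mul_div_cancel _ (Nat.pos_of_ne_zero hq0)]
    obtain ⟨P, hP⟩ := Cfsg.Agent.SmallGroups.exists_mem_sylow ho
    obtain ⟨Q, hQ⟩ := Cfsg.Agent.SmallGroups.exists_mem_sylow hy7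
    obtain ⟨c, hc⟩ := MulAction.exists_smul_eq ↥(Cfsg.Lie.chevG2.group F) P Q
    have hcard : Nat.card (Q : Subgroup ↥(Cfsg.Lie.chevG2.group F)) = 7 := by
      rw [Q.card_eq_multiplicity, hM, show (12096 : ℕ).factorization 7 = 1 by
        rw [show (12096 : ℕ) = 7 ^ 1 * 1728 from rfl,
          Nat.factorization_mul_apply_of_coprime (by norm_num),
          Nat.Prime.factorization_pow (by norm_num),
          Nat.factorization_eq_zero_of_not_dvd (by norm_num)]
        simp]
      rfl
    have hy1 : y ≠ 1 := fun h => by rw [h, orderOf_one] at hy7; norm_num at hy7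
    have hmem : c * g ^ q * c⁻¹ ∈ (Q : Subgroup ↥(Cfsg.Lie.chevG2.group F)) := by
      rw [← hc, Sylow.coe_subgroup_smul]
      exact Subgroup.smul_mem_pointwise_smul _ (MulAut.conj c) _ hP
    have hne : c * g ^ q * c⁻¹ ≠ 1 := fun e => by
      rw [conj_eq_one_iff] at e
      rw [e, orderOf_one] at ho
      norm_num at ho
    have hQy := Cfsg.Agent.SmallGroups.zpowers_eq_of_card_prime hcard hmem hne
    obtain ⟨n, hn⟩ : y ∈ zpowers (c * g ^ q * c⁻¹) := hQy.symm ▸ hQ
    have hcomm : Commute (c * g * c⁻¹) y := by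
      have e : Commute (c * g * c⁻¹) (c * g ^ q * c⁻¹) := by
        rw [← conj_pow]; exact (Commute.refl _).pow_right q
      rw [← hn]
      exact e.zpow_right n
    have hd : orderOf (c * g * c⁻¹) ∣ 7 := by
      rw [← hy7, ← Nat.card_zpowers y]
      exact Subgroup.orderOf_dvd_natCard _ (hcy _ hcomm.eq)
    rw [← MulAut.conj_apply, MulEquiv.orderOf_eq, h] at hd
    have hq2 := Nat.le_of_dvd (by norm_num) hd
    omega
  exact ⟨fun h => key 2 (by norm_num) (by norm_num) h, fun h => key 3 (by norm_num) (by norm_num) h⟩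

end Cfsg.Agent.U33Uniq31
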