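import Cfsg.Agent.U33Uniq31.Model
import Cfsg.Agent.U33Uniq31.Local

/-!
A group of order `6048` with the table action has at most `12096` automorphisms.
-/

set_option autoImplicit false
set_option maxHeartbeats 1000000

namespace Cfsg.Agent.U33Uniq31

open scoped Pointwise
open Subgroup MulAction

theorem tr_assoc : ∀ a : Fin 27, ∀ b : Fin 27,
    mulN a b < 27 ∧ ∀ x : Fin 28, trN a (trN b x) = trN (mulN a b) x := by
  decide +kernel

theorem tr_facts : ∀ a : Fin 27,
    (∀ x : Fin 28, trN (0 : ℕ) x = x.val) ∧ (∃ b : Fin 27, mulN b a = 0) ∧ hpN 1 a < 27 ∧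
      ∀ x : Fin 28, hpN 1 (trN a x) = trN (hpN 1 a) (hpN 1 x) := by
  decide +kernel

theorem one_moves : ∀ x : Fin 28, trN 1 x = x.val → x.val = 27 := by decide +kernel

theorem word : ∀ s : Fin 27, s.val =
    mulN (mulN
      (if s.val / 9 = 0 then 0 else if s.val / 9 = 1 then 9 else mulN 9 9)
      (if s.val / 3 % 3 = 0 then 0 else if s.val / 3 % 3 = 1 then 3 else mulN 3 3))
      (if s.val % 3 = 0 then 0 else if s.val % 3 = 1 then mulN (mulN (mulN 9 3) (mulN 9 9)) (mulN 3 3)
        else mulN (mulN (mulN (mulN 9 3) (mulN 9 9)) (mulN 3 3))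
          (mulN (mulN (mulN 9 3) (mulN 9 9)) (mulN 3 3))) := by
  decide +kernel

/-- The candidates for the images of `u` and `h`. -/
def Cand (p : Fin 27) (j : Fin 8) : Prop :=
  j.val % 2 = 1 ∧ p.val ≠ 0 ∧ hpN j (hpN j p) = mulN p (hpN j p)

instance (p : Fin 27) (j : Fin 8) : Decidable (Cand p j) := by unfold Cand; infer_instance

theorem cand_card : (Finset.univ.filter fun q : Fin 27 × Fin 8 => Cand q.1 q.2).card = 16 := by
  decide +kernel

namespace Model

variable {N : Type*} [Group N] (M : Model N)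

theorem t_mul (a b : Fin 27) : M.t a * M.t b = M.t ⟨mulN a b, (tr_assoc a b).1⟩ := by
  apply M.inj
  rw [map_mul]
  ext x
  rw [Equiv.Perm.mul_apply, M.t_apply, M.t_apply, M.t_apply]
  exact (tr_assoc a b).2 x

theorem t_one : M.t 0 = 1 := by
  apply M.inj
  rw [map_one]
  ext x
  rw [M.t_apply]
  exact (tr_facts 0).1 x

theorem t_injective : Function.Injective M.t := fun a b h => by
  have ha := M.t_zero a
  rw [h, M.t_zero b] at ha
  exact Fin.ext ha.symm

theorem t_inv (a : Fin 27) : ∃ b, (M.t a)⁻¹ = M.t b := by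
  obtain ⟨b, hb⟩ := (tr_facts a).2.1
  refine ⟨b, (eq_inv_of_mul_eq_one_left ?_).symm⟩
  rw [M.t_mul, show (⟨mulN b a, (tr_assoc b a).1⟩ : Fin 27) = 0 from Fin.ext hb, M.t_one]

theorem h_conj_t (s : Fin 27) : M.h * M.t s * M.h⁻¹ = M.t ⟨hpN 1 s, (tr_facts s).2.2.1⟩ := by
  rw [mul_inv_eq_iff_eq_mul]
  apply M.inj
  rw [map_mul, map_mul]
  ext x
  rw [Equiv.Perm.mul_apply, Equiv.Perm.mul_apply, M.h_apply, M.t_apply, M.t_apply, M.h_apply]
  exact (tr_facts s).2.2.2 x

/-- The translations. -/
def trans₀ : Subgroup N where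
  carrier := Set.range M.t
  one_mem' := ⟨0, M.t_one⟩
  mul_mem' := by rintro _ _ ⟨a, rfl⟩ ⟨b, rfl⟩; exact ⟨_, (M.t_mul a b).symm⟩
  inv_mem' := by
    rintro _ ⟨a, rfl⟩
    obtain ⟨b, hb⟩ := M.t_inv a
    exact ⟨b, hb.symm⟩

theorem card_trans₀ : Nat.card M.trans₀ = 27 := by
  have := Nat.card_congr (Equiv.ofInjective M.t M.t_injective)
  rw [Nat.card_eq_fintype_card, Fintype.card_fin] at this
  exact this.symm

/-- The translations as a Sylow subgroup. -/
noncomputable def sylow [Finite N] (hc : Nat.card N = 6048) : Sylow 3 N :=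
  haveI : Fact (Nat.Prime 3) := ⟨Nat.prime_three⟩
  Sylow.ofCard M.trans₀ (by
    obtain ⟨R⟩ : Nonempty (Sylow 3 N) := inferInstance
    rw [← R.card_eq_multiplicity, card_sylow_three hc R, M.card_trans₀])

theorem mem_normalizer_sylow [Finite N] (hc : Nat.card N = 6048) (g : N) :
    g • M.sylow hc = M.sylow hc ↔ M.f g 27 = 27 := by
  rw [Sylow.smul_eq_iff_mem_normalizer]
  constructor
  · intro hg
    have hmem : g⁻¹ * M.t 1 * g ∈ M.trans₀ := by
      have h := (mem_normalizer_iff.mp (inv_mem hg) (M.t 1)).mp ⟨1, rfl⟩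
      rwa [inv_inv] at h
    obtain ⟨s, hs⟩ := hmem
    apply Fin.ext
    refine one_moves (M.f g 27) ?_
    rw [← show ((1 : Fin 27) : ℕ) = 1 from rfl, ← M.t_apply]
    congr 1
    rw [← Equiv.Perm.mul_apply, ← map_mul, show M.t 1 * g = g * M.t s by rw [hs]; group, map_mul,
      Equiv.Perm.mul_apply, M.t_inf]
  · intro hg
    obtain ⟨s, j, -, rfl⟩ := M.stab g hg
    have hh : M.h ∈ normalizer (M.trans₀ : Set N) := by
      have hfin : Set.Finite (M.trans₀ : Set N) := Set.toFinite _
      refine mem_normalizer_iff.mpr fun x => ?_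
      have hmaps : ∀ y ∈ M.trans₀, M.h * y * M.h⁻¹ ∈ M.trans₀ := by
        rintro _ ⟨a, rfl⟩
        exact ⟨_, (M.h_conj_t a).symm⟩
      refine ⟨hmaps x, fun hx => ?_⟩
      have h7 : ∀ k : ℕ, ∀ y ∈ M.trans₀, M.h ^ k * y * (M.h ^ k)⁻¹ ∈ M.trans₀ := by
        intro k
        induction k with
        | zero => intro y hy; simpa using hy
        | succ k ih =>
          intro y hy
          have := hmaps _ (ih y hy)
          convert this using 1
          group
      have := h7 7 _ hx
      convert this using 1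
      have e8 : M.h ^ 8 = 1 := M.h_pow
      calc x = M.h ^ 8 * x * (M.h ^ 8)⁻¹ := by rw [e8]; group
        _ = _ := by group
    exact mul_mem (le_normalizer ⟨s, rfl⟩) (pow_mem hh j)

/-- The points as Sylow subgroups. -/
noncomputable def pt [Finite N] (hc : Nat.card N = 6048) (x : Fin 28) : Sylow 3 N :=
  (M.trans x).choose • M.sylow hc

theorem pt_eq [Finite N] (hc : Nat.card N = 6048) {g : N} {x : Fin 28} (hg : M.f g 27 = x) :
    g • M.sylow hc = M.pt hc x := by
  have h := (M.trans x).choose_spec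
  show g • M.sylow hc = (M.trans x).choose • M.sylow hc
  rw [← inv_smul_eq_iff, ← mul_smul, M.mem_normalizer_sylow, map_mul, map_inv,
    Equiv.Perm.mul_apply, hg, Equiv.Perm.inv_eq_iff_eq, h]

theorem pt_bijective [Finite N] (hc : Nat.card N = 6048) : Function.Bijective (M.pt hc) := by
  haveI : Fact (Nat.Prime 3) := ⟨Nat.prime_three⟩
  constructor
  · intro x y h
    obtain ⟨g, hg⟩ := M.trans x
    obtain ⟨k, hk⟩ := M.trans y
    rw [← M.pt_eq hc hg, ← M.pt_eq hc hk, ← inv_smul_eq_iff, ← mul_smul, M.mem_normalizer_sylow,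
      map_mul, map_inv, Equiv.Perm.mul_apply, hg, Equiv.Perm.inv_eq_iff_eq, hk] at h
    exact h
  · intro P
    obtain ⟨g, hg⟩ := MulAction.exists_smul_eq N (M.sylow hc) P
    exact ⟨_, (M.pt_eq hc rfl).symm.trans hg⟩

/-- The action of the automorphisms on the points. -/
noncomputable def aut [Finite N] (hc : Nat.card N = 6048) : MulAut N →* Equiv.Perm (Fin 28) :=
  ((Equiv.ofBijective _ (M.pt_bijective hc)).symm.permCongrHom.toMonoidHom).comp
    (MulAction.toPermHom (MulAut N) (Sylow 3 N))

theorem pt_aut [Finite N] (hc : Nat.card N = 6048) (α : MulAut N) (x : Fin 28) :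
    M.pt hc (M.aut hc α x) = α • M.pt hc x :=
  (Equiv.ofBijective _ (M.pt_bijective hc)).apply_symm_apply _

theorem pt_f [Finite N] (hc : Nat.card N = 6048) (g : N) (x : Fin 28) :
    M.pt hc (M.f g x) = g • M.pt hc x := by
  obtain ⟨k, hk⟩ := M.trans x
  rw [← M.pt_eq hc hk, ← mul_smul]
  exact (M.pt_eq hc (by rw [map_mul, Equiv.Perm.mul_apply, hk])).symm

theorem aut_comm [Finite N] (hc : Nat.card N = 6048) (α : MulAut N) (g : N) (x : Fin 28) :
    M.aut hc α (M.f g x) = M.f (α g) (M.aut hc α x) := by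
  apply (M.pt_bijective hc).1
  rw [M.pt_f, M.pt_aut, M.pt_aut, M.pt_f]
  apply Sylow.ext
  show α • (MulAut.conj g • (M.pt hc x : Subgroup N)) = MulAut.conj (α g) • (α • (M.pt hc x : Subgroup N))
  rw [smul_smul, smul_smul]
  congr 1
  ext y
  simp [MulAut.mul_apply]

include M in
/-- The bound on the automorphisms. -/
theorem card_mulAut_le [Finite N] (hc : Nat.card N = 6048) : Nat.card (MulAut N) ≤ 12096 := by
  classical
  haveI : Finite (MulAut N) := Finite.of_injective (fun α : MulAut N => (α : N → N))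
    (fun a b h => MulEquiv.ext (congrFun h))
  letI : MulAction (MulAut N) (Fin 28) := MulAction.compHom _ (M.aut hc)
  set S1 : Subgroup (MulAut N) := stabilizer (MulAut N) (27 : Fin 28)
  set S2 : Subgroup S1 := stabilizer S1 (0 : Fin 28)
  have h1 : S1.index ≤ 28 := by
    rw [index_stabilizer]
    exact (Set.ncard_le_ncard (Set.subset_univ _)).trans (by simp)
  have h2 : S2.index ≤ 27 := by
    rw [index_stabilizer]
    refine (Set.ncard_le_ncard (t := {x : Fin 28 | x ≠ 27}) ?_ (Set.toFinite _)).trans ?_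
    · rintro x ⟨α, rfl⟩ h
      have h27 : M.aut hc (α : MulAut N) 27 = 27 := α.2
      exact absurd ((M.aut hc (α : MulAut N)).injective (h.trans h27.symm)) (by decide)
    · rw [Set.ncard_eq_toFinset_card']
      decide
  have hS2 : Nat.card S2 ≤ 16 := by
    have key : ∀ α : S2, ∃ p : Fin 27, ∃ j : Fin 8, Cand p j ∧
        (M.aut hc ((α : S1) : MulAut N) 9).val = p.val ∧
        (M.aut hc ((α : S1) : MulAut N) 27 = 27) ∧
        (∀ x : Fin 28, (M.aut hc ((α : S1) : MulAut N) ⟨hpN 1 x, (tables_ok x 1).1⟩).val =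
          hpN j (M.aut hc ((α : S1) : MulAut N) x)) ∧
        ∀ a b : Fin 27, (M.aut hc ((α : S1) : MulAut N) ⟨mulN a b, (tr_assoc a b).1.trans (by norm_num)⟩).val =
          mulN (M.aut hc ((α : S1) : MulAut N) ⟨a, a.isLt.trans (by norm_num)⟩)
            (M.aut hc ((α : S1) : MulAut N) ⟨b, b.isLt.trans (by norm_num)⟩) := by
      intro α
      set A : MulAut N := ((α : S1) : MulAut N)
      set π := M.aut hc A
      have h27 : π 27 = 27 := (α : S1).2
      have h0 : π 0 = 0 := α.2
      have hcomm : ∀ (g : N) (x : Fin 28), π (M.f g x) = M.f (A g) (π x) := M.aut_comm hc A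
      have hf27 : ∀ g : N, M.f g 27 = 27 → M.f (A g) 27 = 27 := fun g hg => by
        have := hcomm g 27
        rw [hg, h27] at this
        exact this.symm
      have hf0 : ∀ g : N, M.f g 0 = 0 → M.f (A g) 0 = 0 := fun g hg => by
        have := hcomm g 0
        rw [hg, h0] at this
        exact this.symm
      have hh1 : ∀ i, M.f M.h i = M.f (M.h ^ 1) i := fun i => by rw [pow_one]
      obtain ⟨j, hj, hAh⟩ := M.fix_two (A M.h) (hf27 _ (by rw [hh1]; exact M.hpow_inf 1))
        (hf0 _ (by rw [hh1]; exact M.hpow_zero 1))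
      have hodd : j % 2 = 1 := by
        rcases Nat.mod_two_eq_zero_or_one j with he | he
        · exfalso
          have h4 : A (M.h ^ 4) = 1 := by
            rw [map_pow, hAh, ← pow_mul, show j * 4 = 8 * (j / 2) by omega, pow_mul, M.h_pow, one_pow]
          rw [MulEquiv.map_eq_one_iff] at h4
          have h3 := M.hpow_apply 4 3
          rw [h4, map_one] at h3
          revert h3
          decide +kernel
        · exact he
      have hlt : ∀ a : Fin 27, (π ⟨a, a.isLt.trans (by norm_num)⟩).val < 27 := fun a => by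
        have hne : π ⟨a, a.isLt.trans (by norm_num)⟩ ≠ 27 := fun h => by
          have := congrArg Fin.val (π.injective (h.trans h27.symm))
          have := a.isLt
          simp at *
          omega
        have hne' : (π ⟨a, a.isLt.trans (by norm_num)⟩).val ≠ 27 := fun h => hne (Fin.ext h)
        have := (π ⟨a, a.isLt.trans (by norm_num)⟩).isLt
        omega
      have hAsylow : A • M.sylow hc = M.sylow hc := by
        have e : M.pt hc 27 = M.sylow hc := by
          rw [← M.pt_eq hc (show M.f 1 27 = 27 by simp), one_smul]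
        have := M.pt_aut hc A 27
        rw [show M.aut hc A 27 = 27 from h27, e] at this
        exact this.symm
      have hAt : ∀ a : Fin 27, A (M.t a) = M.t ⟨_, hlt a⟩ := by
        intro a
        have hm : A (M.t a) ∈ A • (M.sylow hc : Subgroup N) :=
          smul_mem_pointwise_smul _ A _ (show M.t a ∈ M.trans₀ from ⟨a, rfl⟩)
        rw [show A • (M.sylow hc : Subgroup N) = (M.sylow hc : Subgroup N) from
          congrArg Sylow.toSubgroup hAsylow] at hm
        obtain ⟨b, hb⟩ := (show A (M.t a) ∈ M.trans₀ from hm)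
        rw [← hb]
        congr 1
        apply Fin.ext
        have := hcomm (M.t a) 0
        rw [show M.f (M.t a) 0 = ⟨a, a.isLt.trans (by norm_num)⟩ from Fin.ext (M.t_zero a), h0,
          ← hb] at this
        exact ((congrArg Fin.val this).trans (M.t_zero b)).symm
      have hhp : ∀ x : Fin 28, (π ⟨hpN 1 x, (tables_ok x 1).1⟩).val = hpN j (π x) := fun x => by
        rw [show (⟨hpN 1 x, (tables_ok x 1).1⟩ : Fin 28) = M.f M.h x from Fin.ext (M.h_apply x).symm,
          hcomm, hAh, M.hpow_apply, Nat.mod_eq_of_lt hj]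
      have hmul : ∀ a b : Fin 27, (π ⟨mulN a b, (tr_assoc a b).1.trans (by norm_num)⟩).val =
          mulN (π ⟨a, a.isLt.trans (by norm_num)⟩) (π ⟨b, b.isLt.trans (by norm_num)⟩) := by
        intro a b
        have h := congrArg A (M.t_mul a b)
        rw [map_mul, hAt, hAt, hAt, M.t_mul] at h
        exact (congrArg Fin.val (M.t_injective h)).symm
      refine ⟨⟨_, hlt 9⟩, ⟨j, hj⟩, ⟨hodd, ?_, ?_⟩, rfl, h27, hhp, hmul⟩
      · show (π (9 : Fin 28)).val ≠ 0
        intro h
        have : π (9 : Fin 28) = π 0 := Fin.ext (by rw [h, h0]; rfl)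
        exact absurd (π.injective this) (by decide)
      · show hpN j (hpN j (π (9 : Fin 28))) = mulN (π (9 : Fin 28)) (hpN j (π (9 : Fin 28)))
        have e3 : (π (3 : Fin 28)).val = hpN j (π (9 : Fin 28)) := by
          have := hhp 9
          rwa [show (⟨hpN 1 (9 : Fin 28), (tables_ok 9 1).1⟩ : Fin 28) = 3 from
            Fin.ext (by decide +kernel)] at this
        have e12 : (π (12 : Fin 28)).val = hpN j (π (3 : Fin 28)) := by
          have := hhp 3
          rwa [show (⟨hpN 1 (3 : Fin 28), (tables_ok 3 1).1⟩ : Fin 28) = 12 from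
            Fin.ext (by decide +kernel)] at this
        have e12' : (π (12 : Fin 28)).val = mulN (π (9 : Fin 28)) (π (3 : Fin 28)) := by
          have := hmul 9 3
          rwa [show (⟨mulN (9 : Fin 27) (3 : Fin 27), (tr_assoc 9 3).1.trans (by norm_num)⟩ : Fin 28) = 12
            from Fin.ext (by decide +kernel)] at this
        rw [← e3, ← e12, e12']
    choose p j hC hp h27 hh hm using key
    have hinj : Function.Injective (fun α : S2 => (⟨(p α, j α), hC α⟩ :
        {q : Fin 27 × Fin 8 // Cand q.1 q.2})) := by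
      intro α β he
      simp only [Subtype.mk.injEq, Prod.mk.injEq] at he
      obtain ⟨hpe, hje⟩ := he
      apply Subtype.ext
      apply Subtype.ext
      set πa := M.aut hc ((α : S1) : MulAut N)
      set πb := M.aut hc ((β : S1) : MulAut N)
      have e9 : πa 9 = πb 9 := Fin.ext (by rw [hp α, hp β, hpe])
      have e3 : πa 3 = πb 3 := by
        apply Fin.ext
        have ha := hh α 9
        have hb := hh β 9
        rw [show (⟨hpN 1 (9 : Fin 28), (tables_ok 9 1).1⟩ : Fin 28) = 3 from
          Fin.ext (by decide +kernel)] at ha hb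
        rw [ha, hb, e9, hje]
      have e0 : πa 0 = πb 0 := (α.2 : πa 0 = 0).trans (β.2 : πb 0 = 0).symm
      let good : ℕ → Prop := fun n => ∃ hn : n < 27, πa ⟨n, hn.trans (by norm_num)⟩ = πb ⟨n, hn.trans (by norm_num)⟩
      have gmul : ∀ m n, good m → good n → good (mulN m n) := by
        rintro m n ⟨hm', em⟩ ⟨hn', en⟩
        refine ⟨(tr_assoc ⟨m, hm'⟩ ⟨n, hn'⟩).1, Fin.ext ?_⟩
        rw [hm α ⟨m, hm'⟩ ⟨n, hn'⟩, hm β ⟨m, hm'⟩ ⟨n, hn'⟩, em, en]
      have g0 : good 0 := ⟨by norm_num, e0⟩
      have g9 : good 9 := ⟨by norm_num, e9⟩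
      have g3 : good 3 := ⟨by norm_num, e3⟩
      have g1 : good (mulN (mulN (mulN 9 3) (mulN 9 9)) (mulN 3 3)) :=
        gmul _ _ (gmul _ _ (gmul _ _ g9 g3) (gmul _ _ g9 g9)) (gmul _ _ g3 g3)
      have gall : ∀ s : Fin 27, good s := fun s => by
        rw [word s]
        refine gmul _ _ (gmul _ _ ?_ ?_) ?_
        all_goals split_ifs
        all_goals first
          | exact g0 | exact g9 | exact g3 | exact g1 | exact gmul _ _ g9 g9 | exact gmul _ _ g3 g3
          | exact gmul _ _ g1 g1
      have hπ : ∀ x, πa x = πb x := by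
        intro x
        by_cases hx : x.val < 27
        · obtain ⟨_, e⟩ := gall ⟨x.val, hx⟩
          exact e
        · rw [show x = 27 from Fin.ext (by have := x.isLt; show x.val = 27; omega)]
          exact (h27 α).trans (h27 β).symm
      apply MulEquiv.ext
      intro g
      apply M.inj
      ext x
      obtain ⟨y, rfl⟩ := πa.surjective x
      have e1 := M.aut_comm hc ((α : S1) : MulAut N) g y
      have e2 := M.aut_comm hc ((β : S1) : MulAut N) g y
      show (M.f _ (πa y)).val = (M.f _ (πa y)).val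
      rw [← e1]
      conv_rhs => rw [hπ y, ← e2]
      rw [show M.aut hc ((α : S1) : MulAut N) (M.f g y) = πa (M.f g y) from rfl, hπ]
    have := Nat.card_le_card_of_injective _ hinj
    rwa [Nat.card_eq_fintype_card (α := {q : Fin 27 × Fin 8 // Cand q.1 q.2}), Fintype.card_subtype,
      cand_card] at this
  rw [← S1.card_mul_index, ← S2.card_mul_index]
  calc Nat.card S2 * S2.index * S1.index ≤ 16 * 27 * 28 :=
        Nat.mul_le_mul (Nat.mul_le_mul hS2 h2) h1
    _ = 12096 := by norm_num

end Model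

end Cfsg.Agent.U33Uniq31
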