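import Cfsg.Agent.U33Uniq31.Table

/-!
A group with the action described by the tables is determined up to isomorphism.
-/

set_option autoImplicit false

namespace Cfsg.Agent.U33Uniq31

/-- A faithful action realising the tables. -/
structure Model (N : Type*) [Group N] where
  f : N →* Equiv.Perm (Fin 28)
  h : N
  t : Fin 27 → N
  inj : Function.Injective f
  h_apply : ∀ x, (f h x).val = hpN 1 x
  t_apply : ∀ s x, (f (t s) x).val = trN s x
  stab : ∀ g : N, f g 27 = 27 → ∃ s, ∃ j < 8, g = t s * h ^ j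
  fix_two : ∀ g : N, f g 27 = 27 → f g 0 = 0 → ∃ j < 8, g = h ^ j
  trans : ∀ x, ∃ g : N, f g 27 = x
  h_pow : h ^ 8 = 1

/-- The permutation group generated by the tables. -/
def target : Subgroup (Equiv.Perm (Fin 28)) :=
  Subgroup.closure {σ | (∀ x, (σ x).val = hpN 1 x) ∨ (∃ s : Fin 27, ∀ x, (σ x).val = trN s x) ∨
    (∀ x, (σ x).val = w0N x)}

namespace Model

variable {N : Type*} [Group N] (M : Model N)

theorem hpow_apply (i : ℕ) (x : Fin 28) : (M.f (M.h ^ i) x).val = hpN (i % 8) x := by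
  induction i with
  | zero => simpa using ((tables_ok x 0).2.1).symm
  | succ i ih =>
    rw [pow_succ', map_mul, Equiv.Perm.mul_apply, M.h_apply, ih,
      (tables_ok x ⟨i % 8, Nat.mod_lt _ (by norm_num)⟩).2.2.2.2.1]
    congr 1
    simp [Nat.mod_add_mod]

theorem hpow_inf (i : ℕ) : M.f (M.h ^ i) 27 = 27 := by
  apply Fin.ext
  rw [M.hpow_apply]
  exact (tables_ok 0 ⟨i % 8, Nat.mod_lt _ (by norm_num)⟩).2.2.1

theorem hpow_zero (i : ℕ) : M.f (M.h ^ i) 0 = 0 := by
  apply Fin.ext
  rw [M.hpow_apply]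
  exact (tables_ok 0 ⟨i % 8, Nat.mod_lt _ (by norm_num)⟩).2.2.2.1

theorem t_inf (s : Fin 27) : M.f (M.t s) 27 = 27 := Fin.ext (by rw [M.t_apply]; rfl)

theorem t_zero (s : Fin 27) : (M.f (M.t s) 0).val = s.val := by
  rw [M.t_apply]
  revert s
  decide

/-- A swapping element fixing the central points `1` and `2`. -/
theorem exists_swap :
    ∃ w : N, ∃ e : Fin 4, M.f w 27 = 0 ∧ M.f w 0 = 27 ∧ M.f w 1 = 1 ∧ M.f w 2 = 2 ∧
      ∀ (i : ℕ) (x : Fin 28), (M.f w (M.f (M.h ^ i) x)) = M.f (M.h ^ ((2 * e.val + 1) * i)) (M.f w x) := by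
  obtain ⟨g, hg⟩ := M.trans 0
  set y := (M.f g).symm 27 with hy
  have hyg : M.f g y = 27 := (M.f g).apply_symm_apply _
  have hy27 : y.val < 27 := by
    by_contra h
    have : y = 27 := Fin.ext (by have := y.isLt; show y.val = 27; omega)
    rw [this, hg] at hyg
    exact absurd hyg (by decide)
  set w := g * M.t ⟨y.val, hy27⟩ with hw
  have hw1 : M.f w 27 = 0 := by rw [hw, map_mul, Equiv.Perm.mul_apply, M.t_inf, hg]
  have hw2 : M.f w 0 = 27 := by
    rw [hw, map_mul, Equiv.Perm.mul_apply, show M.f (M.t ⟨y.val, hy27⟩) 0 = y from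
      Fin.ext (M.t_zero _), hyg]
  obtain ⟨j, hj, hwh⟩ : ∃ j < 8, w * M.h * w⁻¹ = M.h ^ j := by
    refine M.fix_two _ ?_ ?_
    · rw [map_mul, map_mul, map_inv, Equiv.Perm.mul_apply, Equiv.Perm.mul_apply]
      show M.f w (M.f M.h ((M.f w).symm 27)) = 27
      rw [(M.f w).symm_apply_eq.mpr hw2.symm]
      have := M.hpow_zero 1
      rw [pow_one] at this
      rw [this, hw2]
    · rw [map_mul, map_mul, map_inv, Equiv.Perm.mul_apply, Equiv.Perm.mul_apply]
      show M.f w (M.f M.h ((M.f w).symm 0)) = 0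
      rw [(M.f w).symm_apply_eq.mpr hw1.symm]
      have := M.hpow_inf 1
      rw [pow_one] at this
      rw [this, hw1]
  have hconj : ∀ (i : ℕ) (x : Fin 28),
      M.f w (M.f (M.h ^ i) x) = M.f (M.h ^ (j * i)) (M.f w x) := by
    intro i x
    have h1 : w * M.h ^ i = M.h ^ (j * i) * w := by
      rw [pow_mul, ← hwh, conj_pow]; group
    have h2 := congrArg (fun a => M.f a x) h1
    simpa using h2
  -- `j` is odd
  have hodd : j % 2 = 1 := by
    rcases Nat.mod_two_eq_zero_or_one j with he | he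
    · exfalso
      have h1 := hconj 4 3
      obtain ⟨c, hc⟩ : 2 ∣ j := Nat.dvd_of_mod_eq_zero he
      rw [hc, show 2 * c * 4 = 8 * c by ring, pow_mul, M.h_pow, one_pow, map_one,
        Equiv.Perm.one_apply] at h1
      have h2 := (M.f w).injective h1
      have h3 := congrArg Fin.val h2
      rw [M.hpow_apply] at h3
      revert h3
      decide +kernel
    · exact he
  obtain ⟨e, rfl⟩ : ∃ e : Fin 4, j = 2 * e.val + 1 :=
    ⟨⟨j / 2, by omega⟩, by show j = 2 * (j / 2) + 1; omega⟩
  -- the pair of central points is preserved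
  have hne : ∀ x : Fin 28, x.val = 1 ∨ x.val = 2 →
      (M.f w x).val = 1 ∨ (M.f w x).val = 2 := by
    intro x hx
    have hfix : hpN 2 x = x.val := by rcases hx with h | h <;> rw [h] <;> decide +kernel
    have h1 := hconj 2 x
    rw [show M.f (M.h ^ 2) x = x from Fin.ext (by rw [M.hpow_apply]; exact hfix)] at h1
    have h2 := congrArg Fin.val h1
    rw [M.hpow_apply] at h2
    have hcases : ((2 * e.val + 1) * 2) % 8 = 2 ∨ ((2 * e.val + 1) * 2) % 8 = 6 := by omega
    have h27 : (M.f w x).val ≠ 27 := fun h => by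
      have : M.f w x = M.f w 0 := hw2.symm ▸ Fin.ext h
      rw [(M.f w).injective this] at hx
      simp at hx
    have h0 : (M.f w x).val ≠ 0 := fun h => by
      have : M.f w x = M.f w 27 := hw1.symm ▸ Fin.ext h
      rw [(M.f w).injective this] at hx
      simp at hx
    have : (M.f w x).val = 27 ∨ (M.f w x).val < 3 := by
      rcases hcases with h | h <;> rw [h] at h2
      · exact (tables_ok (M.f w x) 0).2.2.2.2.2.1 h2.symm
      · exact (tables_ok (M.f w x) 0).2.2.2.2.2.2.1 h2.symm
    omega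
  have h12 : M.f (M.h ^ 1) 1 = 2 := Fin.ext (by rw [M.hpow_apply]; decide +kernel)
  have key : ∀ w' : N, M.f w' 27 = 0 → M.f w' 0 = 27 → M.f w' 1 = 1 →
      (∀ (i : ℕ) (x : Fin 28),
        M.f w' (M.f (M.h ^ i) x) = M.f (M.h ^ ((2 * e.val + 1) * i)) (M.f w' x)) →
      M.f w' 2 = 2 := by
    intro w' _ _ h1 hc
    rw [← h12, hc, h1]
    apply Fin.ext
    rw [M.hpow_apply, M.hpow_apply]
    have hd : ∀ e : Fin 4, hpN ((2 * e.val + 1) * 1 % 8) 1 = hpN (1 % 8) 1 := by decide +kernel
    exact hd e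
  by_cases h11 : M.f w 1 = 1
  · exact ⟨w, e, hw1, hw2, h11, key w hw1 hw2 h11 hconj, hconj⟩
  · have h21 : M.f w 1 = 2 := by
      rcases hne 1 (Or.inl rfl) with h | h
      · exact absurd (Fin.ext h) h11
      · exact Fin.ext h
    have a1 : M.f (M.h * w) 27 = 0 := by
      rw [map_mul, Equiv.Perm.mul_apply, hw1, ← pow_one M.h, M.hpow_zero]
    have a2 : M.f (M.h * w) 0 = 27 := by
      rw [map_mul, Equiv.Perm.mul_apply, hw2, ← pow_one M.h, M.hpow_inf]
    have a3 : M.f (M.h * w) 1 = 1 := by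
      rw [map_mul, Equiv.Perm.mul_apply, h21, ← pow_one M.h]
      exact Fin.ext (by rw [M.hpow_apply]; decide +kernel)
    have a4 : ∀ (i : ℕ) (x : Fin 28), M.f (M.h * w) (M.f (M.h ^ i) x) =
        M.f (M.h ^ ((2 * e.val + 1) * i)) (M.f (M.h * w) x) := by
      intro i x
      simp only [map_mul, Equiv.Perm.mul_apply, hconj]
      have := congrArg (fun g => M.f g (M.f w x))
        ((Commute.refl M.h).pow_right ((2 * e.val + 1) * i)).eq
      simpa using this
    exact ⟨M.h * w, e, a1, a2, a3, key _ a1 a2 a3 a4, a4⟩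

/-- The image is the target group. -/
theorem range_eq : M.f.range = target := by
  obtain ⟨w, e, hw1, hw2, hw11, hw22, hconj⟩ := M.exists_swap
  set W : ℕ → ℕ := fun x => if hx : x < 28 then (M.f w ⟨x, hx⟩).val else 0 with hW
  have hWv : ∀ x : Fin 28, W x = (M.f w x).val := fun x => by simp [hW, x.isLt]
  have hne : ∀ x : Fin 28, 3 ≤ x.val → x.val < 27 →
      3 ≤ (M.f w x).val ∧ (M.f w x).val < 27 := by
    intro x hx hx'
    have h : ∀ a b : Fin 28, M.f w a = b → x ≠ a → M.f w x ≠ b :=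
      fun a b hab hxa h' => hxa ((M.f w).injective (h'.trans hab.symm))
    have n1 := h 27 0 hw1 (fun h => by subst h; simp at hx')
    have n2 := h 0 27 hw2 (fun h => by subst h; simp at hx)
    have n3 := h 1 1 hw11 (fun h => by subst h; simp at hx)
    have n4 := h 2 2 hw22 (fun h => by subst h; simp at hx)
    rw [Ne, Fin.ext_iff] at n1 n2 n3 n4
    simp only [Fin.val_zero, Fin.val_one, Fin.val_two] at n1 n2 n3 n4
    have := (M.f w x).isLt
    have e27 : ((27 : Fin 28) : ℕ) = 27 := rfl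
    omega
  obtain ⟨k1, hk1⟩ : ∃ k : Fin 24, W 3 = k.val + 3 :=
    ⟨⟨W 3 - 3, by have := hne 3 (by decide) (by decide); have := hWv 3; simp at *; omega⟩, by
      have := hne 3 (by decide) (by decide); have := hWv 3; simp at *; omega⟩
  obtain ⟨k2, hk2⟩ : ∃ k : Fin 24, W 4 = k.val + 3 :=
    ⟨⟨W 4 - 3, by have := hne 4 (by decide) (by decide); have := hWv 4; simp at *; omega⟩, by
      have := hne 4 (by decide) (by decide); have := hWv 4; simp at *; omega⟩
  obtain ⟨k3, hk3⟩ : ∃ k : Fin 24, W 5 = k.val + 3 :=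
    ⟨⟨W 5 - 3, by have := hne 5 (by decide) (by decide); have := hWv 5; simp at *; omega⟩, by
      have := hne 5 (by decide) (by decide); have := hWv 5; simp at *; omega⟩
  set W' := wN (2 * e.val + 1) (k1.val + 3) (k2.val + 3) (k3.val + 3) with hW'
  have htab : ∀ x : Fin 28, W' x = (M.f w x).val := by
    intro x
    rw [hW', wN]
    split_ifs with h1 h2 h3
    · rw [show x = 27 from Fin.ext h1, hw1]; rfl
    · rw [show x = 0 from Fin.ext h2, hw2]; rfl
    · rcases (show x.val = 1 ∨ x.val = 2 by omega) with h | h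
      · rw [show x = 1 from Fin.ext h, hw11]
      · rw [show x = 2 from Fin.ext h, hw22]
    all_goals
      obtain ⟨ho, hp, hpos, -⟩ :=
        (tables_ok x 0).2.2.2.2.2.2.2 (by omega) h1
      set r : Fin 28 := ⟨orbN x + 3, by omega⟩ with hr
      have hxr : M.f (M.h ^ posN x) r = x := by
        apply Fin.ext
        rw [M.hpow_apply, Nat.mod_eq_of_lt hp]
        exact hpos
      conv_rhs => rw [← hxr, hconj, M.hpow_apply, ← hWv r]
      congr 1
      rw [show (r : ℕ) = orbN x + 3 from rfl]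
      rcases (show orbN x = 0 ∨ orbN x = 1 ∨ orbN x = 2 by omega) with h | h | h <;>
        simp_all
  have hWW : ∀ x : Fin 28, W' x = W x := fun x => (htab x).trans (hWv x).symm
  -- distinct orbits
  have horb : ∀ a b : Fin 28, 3 ≤ a.val → a.val < 6 → 3 ≤ b.val → b.val < 6 → a ≠ b →
      orbN (W a) ≠ orbN (W b) := by
    intro a b ha ha' hb hb' hab heq
    rw [hWv, hWv] at heq
    obtain ⟨ha1, ha2⟩ := hne a ha (by omega)
    obtain ⟨hb1, hb2⟩ := hne b hb (by omega)
    obtain ⟨-, hpa, hposa, -⟩ := (tables_ok (M.f w a) 0).2.2.2.2.2.2.2 (by omega) (by omega)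
    obtain ⟨hob, hpb, hposb, -⟩ := (tables_ok (M.f w b) 0).2.2.2.2.2.2.2 (by omega) (by omega)
    set r : Fin 28 := ⟨orbN (M.f w b).val + 3, by omega⟩
    have ea : M.f (M.h ^ posN (M.f w a).val) r = M.f w a := Fin.ext (by
      rw [M.hpow_apply, Nat.mod_eq_of_lt hpa]; show hpN _ (orbN _ + 3) = _; rw [← heq]; exact hposa)
    have eb : M.f (M.h ^ posN (M.f w b).val) r = M.f w b := Fin.ext (by
      rw [M.hpow_apply, Nat.mod_eq_of_lt hpb]; exact hposb)
    obtain ⟨m, hm⟩ : ∃ m : ℕ, M.f w a = M.f (M.h ^ m) (M.f w b) := by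
      refine ⟨posN (M.f w a).val + (8 - posN (M.f w b).val), ?_⟩
      have key : ∀ n p : ℕ, p ≤ 8 →
          M.f (M.h ^ (n + (8 - p))) (M.f (M.h ^ p) r) = M.f (M.h ^ n) r := by
        intro n p hp
        rw [← Equiv.Perm.mul_apply, ← map_mul, ← pow_add,
          show n + (8 - p) + p = 8 + n by omega, pow_add, M.h_pow, one_mul]
      have := key (posN (M.f w a).val) (posN (M.f w b).val) hpb.le
      rw [eb, ea] at this
      exact this.symm
    -- the inverse exponent is `2 e + 1`
    have h8 : ∀ i, M.h ^ (8 * i) = 1 := fun i => by rw [pow_mul, M.h_pow, one_pow]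
    have hinv : (2 * e.val + 1) * ((2 * e.val + 1) * m) =
        8 * ((e.val * (e.val + 1) / 2) * m) + m := by
      revert e; intro e; fin_cases e <;> intros <;> simp <;> ring
    have hb' : M.f w (M.f (M.h ^ ((2 * e.val + 1) * m)) b) = M.f w a := by
      rw [hconj, hinv, pow_add, h8, one_mul, hm]
    have := congrArg Fin.val ((M.f w).injective hb')
    rw [M.hpow_apply] at this
    have hlt : ((2 * e.val + 1) * m) % 8 < 8 := Nat.mod_lt _ (by norm_num)
    have h2 : ∀ a b : Fin 28, 3 ≤ a.val → a.val < 6 → 3 ≤ b.val → b.val < 6 → a ≠ b →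
        ∀ i : Fin 8, hpN i b ≠ a.val := by decide +kernel
    exact h2 a b ha ha' hb (by omega) hab ⟨_, hlt⟩ this
  -- the relations
  have hrel : ∀ r : Fin 28, r.val ≠ 27 → 0 < r.val → ∃ a : Fin 27, ∃ j < 8, ∀ x : Fin 28,
      W' (trN r (W' x)) = trN (W' r) (W' (trN a (hpN j x))) := by
    intro r hr hr0
    have hr27 : r.val < 27 := by have := r.isLt; omega
    have hv : (M.f w r).val < 27 := by
      have h1 : M.f w r ≠ 27 := fun h => by
        have := (M.f w).injective (h.trans hw2.symm); subst this; simp at hr0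
      have := (M.f w r).isLt
      have : (M.f w r).val ≠ 27 := fun h => h1 (Fin.ext h)
      omega
    set s : Fin 27 := ⟨r.val, hr27⟩
    set s' : Fin 27 := ⟨(M.f w r).val, hv⟩
    obtain ⟨a, j, hj, haj⟩ := M.stab ((M.t s' * w)⁻¹ * (w * M.t s * w)) (by
      rw [map_mul, map_inv, Equiv.Perm.mul_apply, Equiv.Perm.inv_eq_iff_eq]
      simp only [map_mul, Equiv.Perm.mul_apply, hw1]
      rw [show M.f (M.t s) 0 = r from Fin.ext (M.t_zero s),
        show M.f (M.t s') 0 = M.f w r from Fin.ext (M.t_zero s')])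
    refine ⟨a, j, hj, fun x => ?_⟩
    have h2 : w * M.t s * w = M.t s' * w * (M.t a * M.h ^ j) := by rw [← haj]; group
    have h3 := congrArg (fun g => (M.f g x).val) h2
    simp only [map_mul, Equiv.Perm.mul_apply] at h3
    rw [← htab, M.t_apply s, ← htab, M.t_apply s', ← htab, ← htab, M.t_apply a, M.hpow_apply,
      Nat.mod_eq_of_lt hj] at h3
    exact h3
  have hC : condC W' = true := by
    obtain ⟨a, j, hj, hx⟩ := hrel 1 (by decide) (by decide)
    have h11' : W' 1 = 1 := by rw [show (1 : ℕ) = ((1 : Fin 28) : ℕ) from rfl, htab, hw11]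
    rw [show W' ((1 : Fin 28) : ℕ) = 1 from h11'] at hx
    have ha2 : a.val = 2 := by
      have h := hx 0
      have e0 : W' 0 = 27 := by rw [show (0 : ℕ) = ((0 : Fin 28) : ℕ) from rfl, htab, hw2]; rfl
      have e27 : W' 27 = 0 := by rw [show (27 : ℕ) = ((27 : Fin 28) : ℕ) from rfl, htab, hw1]; rfl
      have hj0 : hpN j 0 = 0 := (tables_ok 0 ⟨j, hj⟩).2.2.2.1
      rw [show ((0 : Fin 28) : ℕ) = 0 from rfl, e0, show trN ((1 : Fin 28) : ℕ) 27 = 27 from rfl,
        e27, hj0, (by decide : ∀ a : Fin 27, trN a 0 = a.val) a] at h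
      have hlt : W' a < 28 := by
        have := htab ⟨a, by omega⟩; simp only at this; rw [this]; exact Fin.isLt _
      have h2 : ∀ y < 28, trN 1 y = 0 → y = 2 := by decide +kernel
      have hWa := h2 _ hlt h.symm
      have := (M.f w).injective (a₁ := ⟨a.val, by omega⟩) (a₂ := 2) (Fin.ext (by
        rw [← htab, hWa, hw22]; rfl))
      exact congrArg Fin.val this
    simp only [condC, List.any_eq_true, List.all_eq_true, List.mem_range]
    exact ⟨j, hj, fun x hx28 => by
      have := hx ⟨x, hx28⟩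
      rw [ha2] at this
      exact Nat.beq_eq ▸ this⟩
  have hR : condR W' = true := by
    obtain ⟨a, j, hj, hx⟩ := hrel 3 (by decide) (by decide)
    simp only [condR, List.any_eq_true, List.all_eq_true, List.mem_range]
    exact ⟨a, a.isLt, j, hj, fun x hx28 => Nat.beq_eq ▸ hx ⟨x, hx28⟩⟩
  -- the search
  have hgood : good W' = true := by
    have h := search_ok e k1
    simp only [search, List.all_eq_true, List.mem_range, Bool.or_eq_true] at h
    have hd : ∀ {a b : Fin 28} {p q : ℕ}, W a = p → W b = q → 3 ≤ a.val → a.val < 6 →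
        3 ≤ b.val → b.val < 6 → a ≠ b → Nat.beq (orbN p) (orbN q) ≠ true := by
      intro a b p q ha hb h1 h2 h3 h4 h5 hh
      rw [Nat.beq_eq] at hh
      exact horb a b h1 h2 h3 h4 h5 (by rw [ha, hb]; exact hh)
    rcases h k2 k2.isLt with h' | h'
    · exact absurd h' (hd (a := 3) (b := 4) hk1 hk2 (by decide) (by decide) (by decide) (by decide) (by decide))
    · rcases h' k3 k3.isLt with (h'' | h'') | h''
      · exact absurd h'' (hd (a := 3) (b := 5) hk1 hk3 (by decide) (by decide) (by decide) (by decide) (by decide))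
      · exact absurd h'' (hd (a := 4) (b := 5) hk2 hk3 (by decide) (by decide) (by decide) (by decide) (by decide))
      · rcases h'' with h'' | h''
        · rw [← hW', hC, hR] at h''; exact absurd h'' (by decide)
        · exact h''
  simp only [good, List.any_eq_true, List.all_eq_true, List.mem_range] at hgood
  obtain ⟨j, hj, hwj⟩ := hgood
  have hw0 : ∀ x : Fin 28, (M.f (w * (M.h ^ j)⁻¹) x).val = w0N x := by
    intro x
    rw [map_mul, map_inv, Equiv.Perm.mul_apply]
    set y := (M.f (M.h ^ j))⁻¹ x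
    have hy : M.f (M.h ^ j) y = x := (M.f (M.h ^ j)).apply_symm_apply x
    rw [← htab, Nat.eq_of_beq_eq_true (hwj y y.isLt), ← hy, M.hpow_apply, Nat.mod_eq_of_lt hj]
  refine le_antisymm ?_ ((Subgroup.closure_le _).mpr ?_)
  · rintro σ ⟨g, rfl⟩
    have hh : M.f M.h ∈ target := Subgroup.subset_closure (Or.inl M.h_apply)
    have ht : ∀ s, M.f (M.t s) ∈ target := fun s =>
      Subgroup.subset_closure (Or.inr (Or.inl ⟨s, M.t_apply s⟩))
    have hw' : M.f w ∈ target := by
      have h0 : M.f (w * (M.h ^ j)⁻¹) ∈ target := Subgroup.subset_closure (Or.inr (Or.inr hw0))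
      rw [map_mul, map_inv] at h0
      have := mul_mem h0 (show M.f (M.h ^ j) ∈ target by rw [map_pow]; exact pow_mem hh j)
      rwa [inv_mul_cancel_right] at this
    have hst : ∀ g : N, M.f g 27 = 27 → M.f g ∈ target := by
      intro g hg
      obtain ⟨s, j, -, rfl⟩ := M.stab g hg
      rw [map_mul, map_pow]
      exact mul_mem (ht s) (pow_mem hh j)
    by_cases hg : M.f g 27 = 27
    · exact hst g hg
    · have hlt : (M.f g 27).val < 27 := by
        have := (M.f g 27).isLt
        have : (M.f g 27).val ≠ 27 := fun h => hg (Fin.ext h)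
        omega
      set s : Fin 27 := ⟨(M.f g 27).val, hlt⟩
      have h1 : M.f ((M.t s * w)⁻¹ * g) 27 = 27 := by
        rw [map_mul, map_inv, Equiv.Perm.mul_apply, Equiv.Perm.inv_eq_iff_eq, map_mul,
          Equiv.Perm.mul_apply, hw1]
        exact Fin.ext (M.t_zero s).symm
      have := mul_mem (mul_mem (ht s) hw') (hst _ h1)
      rw [← map_mul, ← map_mul, mul_inv_cancel_left] at this
      exact this
  · rintro σ (hσ | ⟨s, hσ⟩ | hσ)
    · exact ⟨M.h, Equiv.ext fun x => Fin.ext ((M.h_apply x).trans (hσ x).symm)⟩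
    · exact ⟨M.t s, Equiv.ext fun x => Fin.ext ((M.t_apply s x).trans (hσ x).symm)⟩
    · exact ⟨_, Equiv.ext fun x => Fin.ext ((hw0 x).trans (hσ x).symm)⟩

include M in
/-- A group with a model is isomorphic to the target group. -/
theorem nonempty_equiv : Nonempty (N ≃* target) :=
  ⟨(MonoidHom.ofInjective M.inj).trans (MulEquiv.subgroupCongr M.range_eq)⟩

end Model

end Cfsg.Agent.U33Uniq31
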