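import Cfsg.Agent.U33Uniq31.Coord
import Cfsg.Agent.U33Uniq31.Model

/-!
The model of a simple group of order `6048` with the local hypotheses.
-/

set_option autoImplicit false

namespace Cfsg.Agent.U33Uniq31

open Subgroup MulAction

theorem coord_table : ∀ i : Fin 27,
    mulN (mulN (powN 3 (i.val / 9)) (powN 12 (i.val / 3 % 3))) (powN 2 (i.val % 3)) = hpN 1 i.val ∧
      hpN 1 i.val < 27 ∧ mulN i.val 0 = i.val := by
  decide +kernel

theorem table_bounds : ∀ i : Fin 27, ∀ j : Fin 27, mulN i j < 27 := by decide +kernel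

/-- Adapted generators of a Sylow subgroup. -/
structure Frame (N : Type*) [Group N] (R : Subgroup N) where
  s : N
  u : N
  v : N
  z : N
  s_mem : s ∈ normalizer (R : Set N)
  order_s : orderOf s = 8
  u_mem : u ∈ R
  v_mem : v ∈ R
  z_mem : z ∈ R
  comm_u : Commute z u
  comm_v : Commute z v
  rel : v * u = u * v * z ^ 2
  bij : ∀ x ∈ R, ∃ i : Fin 27, x = coord u v z i
  inj : ∀ i j : Fin 27, coord u v z i = coord u v z j → i = j
  conj_u : s * u * s⁻¹ = v
  conj_v : s * v * s⁻¹ = u * v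
  conj_z : s * z * s⁻¹ = z ^ 2

namespace LocalHyp

variable {N : Type*} [Group N] [Finite N] (H : LocalHyp N)
include H

/-- The commutator of two elements of a Sylow subgroup is central. -/
theorem comm_mem_ctr {R : Sylow 3 N} {a b : N} (ha : a ∈ R) (hb : b ∈ R) :
    a * b * a⁻¹ * b⁻¹ ∈ ctr (R : Subgroup N) := by
  haveI : Fact (Nat.Prime 3) := ⟨Nat.prime_three⟩
  set Z := (ctr (R : Subgroup N)).subgroupOf (R : Subgroup N) with hZdef
  haveI : Z.Normal := ⟨fun n hn x => by
    rw [hZdef, mem_subgroupOf] at hn ⊢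
    have := conj_ctr (le_normalizer x.2 : (x : N) ∈ normalizer ((R : Subgroup N) : Set N)) hn
    simpa using this⟩
  have hZ : Nat.card Z = 3 := by
    rw [Nat.card_congr (subgroupOfEquivOfLe (ctr_le _)).toEquiv, H.card_ctr R]
  have hq : Nat.card ((R : Subgroup N) ⧸ Z) = 3 ^ 2 := by
    have := Z.card_mul_index
    rw [hZ, card_sylow_three H.card_eq R] at this
    rw [← Subgroup.index_eq_card]
    omega
  have hab := isMulCommutative_iff.mp (IsPGroup.isMulCommutative_of_card_eq_prime_sq hq)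
    (QuotientGroup.mk (⟨b⁻¹, inv_mem hb⟩ : (R : Subgroup N))) (QuotientGroup.mk ⟨a⁻¹, inv_mem ha⟩)
  rw [← QuotientGroup.mk_mul, ← QuotientGroup.mk_mul, QuotientGroup.eq, hZdef, mem_subgroupOf] at hab
  simpa [mul_assoc] using hab

/-- An element commuting with `u` and lying in `R` is congruent to a power of `u`. -/
theorem eq_pow_of_commute {R : Sylow 3 N} {u x : N} (hu : u ∈ R) (huZ : u ∉ ctr (R : Subgroup N))
    (hxu : x * u = u * x) : ∃ a : Fin 3, ∃ c ∈ ctr (R : Subgroup N), x = u ^ a.val * c := by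
  classical
  let f : Fin 3 × ctr (R : Subgroup N) → centralizer ({u} : Set N) := fun p =>
    ⟨u ^ p.1.val * p.2.1, cent_of_comm (by
      have h1 := (ctr_comm p.2.2 hu).symm
      calc u ^ p.1.val * p.2.1 * u = u ^ p.1.val * (p.2.1 * u) := mul_assoc ..
        _ = u ^ p.1.val * u * p.2.1 := by rw [h1, mul_assoc]
        _ = u * (u ^ p.1.val * p.2.1) := by rw [← pow_succ, pow_succ', mul_assoc])⟩
  have hinj : Function.Injective f := by
    rintro ⟨a, c⟩ ⟨b, d⟩ h
    have h' : u ^ a.val * c.1 = u ^ b.val * d.1 := congrArg Subtype.val h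
    have key : ∀ (a b : Fin 3) (c d : ctr (R : Subgroup N)), a.val ≤ b.val →
        u ^ a.val * c.1 = u ^ b.val * d.1 → a = b := by
      intro a b c d hab h
      have e : c.1 * d.1⁻¹ = u ^ (b.val - a.val) := by
        rw [← Nat.add_sub_cancel' hab, pow_add, mul_assoc] at h
        rw [mul_left_cancel h, mul_inv_cancel_right]
      have hm : u ^ (b.val - a.val) ∈ ctr (R : Subgroup N) :=
        e ▸ mul_mem c.2 (inv_mem d.2)
      rcases (show b.val - a.val = 0 ∨ b.val - a.val = 1 ∨ b.val - a.val = 2 by omega) with k | k | k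
      · exact Fin.ext (by omega)
      · rw [k, pow_one] at hm; exact absurd hm huZ
      · rw [k] at hm
        refine absurd ?_ huZ
        have h4 := pow_mem hm 2
        rwa [← pow_mul, show 2 * 2 = 3 + 1 from rfl, pow_succ, H.pow_three hu, one_mul] at h4
    have hab : a = b := by
      rcases le_total a.val b.val with hle | hle
      · exact key a b c d hle h'
      · exact (key b a d c hle h'.symm).symm
    subst hab
    exact Prod.ext rfl (Subtype.ext (mul_left_cancel h'))
  have hbij : Function.Bijective f := (Nat.bijective_iff_injective_and_card f).mpr ⟨hinj, by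
    rw [Nat.card_prod, H.card_ctr R, H.cent_eq_nine hu huZ, Nat.card_eq_fintype_card, Fintype.card_fin]⟩
  obtain ⟨⟨a, c⟩, h⟩ := hbij.2 ⟨x, cent_of_comm hxu⟩
  exact ⟨a, c.1, c.2, (congrArg Subtype.val h).symm⟩

/-- The pair `u`, `s u s⁻¹` gives coordinates. -/
theorem coords (R : Sylow 3 N) {s u : N} (hs : s ∈ normalizer (R : Set N)) (ho : orderOf s = 8)
    (hinv : ∀ g ∈ (R : Subgroup N), s ^ 4 * g * (s ^ 4)⁻¹ * g ∈ ctr (R : Subgroup N))
    (hu : u ∈ R) (huZ : u ∉ ctr (R : Subgroup N)) :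
    ∃ z : N, z ∈ ctr (R : Subgroup N) ∧ z ≠ 1 ∧ u * (s * u * s⁻¹) = z * (s * u * s⁻¹) * u ∧
      (∀ x ∈ (R : Subgroup N), ∃ i : Fin 27, x = coord u (s * u * s⁻¹) z i) ∧
      (∀ i j : Fin 27, coord u (s * u * s⁻¹) z i = coord u (s * u * s⁻¹) z j → i = j) := by
  classical
  haveI : Fact (Nat.Prime 3) := ⟨Nat.prime_three⟩
  set v := s * u * s⁻¹ with hv
  have hvR : v ∈ (R : Subgroup N) := (mem_normalizer_iff.mp hs u).mp hu
  have hs1 : ∀ n, 0 < n → n < 8 → s ^ n ≠ 1 := fun n h1 h2 h => by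
    have := Nat.le_of_dvd h1 (orderOf_dvd_of_pow_eq_one h)
    omega
  have hpow : ∀ n : ℕ, ∃ k, (s ^ n) ^ 2 ^ k = 1 := fun n =>
    ⟨3, by rw [← pow_mul, mul_comm, pow_mul, show s ^ 2 ^ 3 = 1 by
      rw [show 2 ^ 3 = 8 from rfl, ← ho, pow_orderOf_eq_one], one_pow]⟩
  have hvout : ¬ v * u = u * v := by
    intro hcomm
    obtain ⟨a, c, hc, hac⟩ := H.eq_pow_of_commute hu huZ hcomm
    fin_cases a
    · simp only [pow_zero, one_mul] at hac
      refine huZ ?_
      have := conj_ctr (inv_mem hs) (hac ▸ hc : v ∈ ctr (R : Subgroup N))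
      simpa [hv, mul_assoc] using this
    · simp only [pow_one] at hac
      refine H.not_fix_coset hs (pow_one s ▸ hpow 1) (pow_one s ▸ hs1 1 (by norm_num) (by norm_num))
        hu huZ ?_
      rw [← hv, hac, inv_mul_cancel_left]; exact hc
    · have hu3 : u ^ 3 = 1 := H.pow_three hu
      refine H.not_fix_coset (pow_mem hs 2) (hpow 2) (hs1 2 (by norm_num) (by norm_num)) hu huZ ?_
      have e : s ^ 2 * u * (s ^ 2)⁻¹ = v ^ 2 * (s * c * s⁻¹) := by
        calc s ^ 2 * u * (s ^ 2)⁻¹ = s * (s * u * s⁻¹) * s⁻¹ := by rw [pow_two]; group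
          _ = s * (u ^ 2 * c) * s⁻¹ := by rw [← hv, hac]
          _ = (s * u ^ 2 * s⁻¹) * (s * c * s⁻¹) := by group
          _ = v ^ 2 * (s * c * s⁻¹) := by rw [hv, conj_pow]
      rw [e, hac]
      simp only
      rw [pow_two, show u⁻¹ * (u ^ 2 * c * (u ^ 2 * c) * (s * c * s⁻¹)) =
        u * (c * u ^ 2) * (c * (s * c * s⁻¹)) by simp [pow_two, mul_assoc],
        (ctr_comm hc (pow_mem hu 2)).symm, show u * (u ^ 2 * c) = u ^ 3 * c by
          rw [← mul_assoc, ← pow_succ'], hu3, one_mul]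
      exact mul_mem hc (mul_mem hc (conj_ctr hs hc))
  set z := u * v * u⁻¹ * v⁻¹ with hz
  have hzZ : z ∈ ctr (R : Subgroup N) := H.comm_mem_ctr hu hvR
  have hz1 : z ≠ 1 := by
    intro h
    apply hvout
    rw [hz, mul_inv_eq_one, mul_inv_eq_iff_eq_mul] at h
    exact h.symm
  have hrel : u * v = z * v * u := by rw [hz]; group
  have h3 : ∀ {x : N}, x ∈ (R : Subgroup N) → x ^ 3 = 1 := fun hx => H.pow_three (R := R) hx
  have hcu : Commute z u := (ctr_comm hzZ hu).symm
  have hcv : Commute z v := (ctr_comm hzZ hvR).symm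
  have hinj0 : ∀ a b c : Fin 3, u ^ a.val * v ^ b.val * z ^ c.val = 1 → a = 0 ∧ b = 0 ∧ c = 0 := by
    intro a b c h
    have hm : v ^ b.val = (u ^ a.val)⁻¹ * (z ^ c.val)⁻¹ := by
      rw [mul_eq_one_iff_eq_inv] at h
      rw [← h, inv_mul_cancel_left]
    have hb : b = 0 := by
      by_contra hb
      apply hvout
      have hcc : Commute (v ^ b.val) u := by
        rw [hm]
        exact (((Commute.refl u).pow_left a.val).inv_left).mul_left ((hcu.pow_left c.val).inv_left)
      have hv4 : v = (v ^ b.val) ^ b.val := by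
        rw [← pow_mul]
        fin_cases b
        · exact absurd rfl hb
        · simp
        · show v = v ^ 4
          rw [pow_succ, h3 hvR, one_mul]
      have := hcc.pow_left b.val
      rw [← hv4] at this
      exact this.eq
    subst hb
    simp only [Fin.val_zero, pow_zero, mul_one] at h
    have ha : a = 0 := by
      by_contra ha
      apply huZ
      have hma : u ^ a.val ∈ ctr (R : Subgroup N) := by
        rw [mul_eq_one_iff_eq_inv] at h
        rw [h]
        exact inv_mem (pow_mem hzZ _)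
      have hu4 : u = (u ^ a.val) ^ a.val := by
        rw [← pow_mul]
        fin_cases a
        · exact absurd rfl ha
        · simp
        · show u = u ^ 4
          rw [pow_succ, h3 hu, one_mul]
      rw [hu4]
      exact pow_mem hma _
    subst ha
    simp only [Fin.val_zero, pow_zero, one_mul] at h
    refine ⟨rfl, rfl, ?_⟩
    have h2 := orderOf_dvd_of_pow_eq_one h
    rw [H.orderOf_three (R := R) hzZ.1 hz1] at h2
    exact Fin.ext (Nat.eq_zero_of_dvd_of_lt h2 c.isLt)
  have hvu : v * u = u * v * z ^ 2 := by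
    calc v * u = z⁻¹ * (z * v * u) := by group
      _ = z ^ 2 * (u * v) := by
        rw [← hrel, show z⁻¹ = z ^ 2 from inv_eq_of_mul_eq_one_right (by rw [← pow_succ', h3 hzZ.1])]
      _ = u * v * z ^ 2 := ((hcu.mul_right hcv).pow_left 2).eq
  have hmem : ∀ i, coord u v z i ∈ (R : Subgroup N) := fun i =>
    mul_mem (mul_mem (pow_mem hu _) (pow_mem hvR _)) (pow_mem hzZ.1 _)
  have hinj : ∀ i j : Fin 27, coord u v z i = coord u v z j → i = j := by
    intro i j h
    have hk0 : ∀ j : Fin 27, ∃ k : Fin 27, mulN k j = 0 := by decide +kernel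
    obtain ⟨k, hk⟩ := hk0 j
    have h1 : coord u v z k * coord u v z i = 1 := by
      rw [h, coord_mul hcu hcv hvu (h3 hu) (h3 hvR) (h3 hzZ.1), hk]
      simp [coord]
    rw [coord_mul hcu hcv hvu (h3 hu) (h3 hvR) (h3 hzZ.1)] at h1
    have hlt := table_bounds k i
    obtain ⟨e1, e2, e3⟩ := hinj0 ⟨mulN k i / 9, by omega⟩ ⟨mulN k i / 3 % 3, by omega⟩
      ⟨mulN k i % 3, by omega⟩ h1
    simp only [Fin.ext_iff, Fin.val_zero] at e1 e2 e3
    have hki : mulN k i = 0 := by omega
    have hc : ∀ k i j : Fin 27, mulN k i = 0 → mulN k j = 0 → i = j := by decide +kernel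
    exact hc k i j hki hk
  refine ⟨z, hzZ, hz1, hrel, fun x hx => ?_, hinj⟩
  have hbij : Function.Bijective (fun i : Fin 27 => (⟨coord u v z i, hmem i⟩ : (R : Subgroup N))) :=
    (Nat.bijective_iff_injective_and_card _).mpr
      ⟨fun i j h => hinj i j (congrArg Subtype.val h), by
        rw [card_sylow_three H.card_eq R, Nat.card_eq_fintype_card, Fintype.card_fin]⟩
  obtain ⟨i, hi⟩ := hbij.2 ⟨x, hx⟩
  exact ⟨i, (congrArg Subtype.val hi).symm⟩

/-- A frame exists. -/
theorem exists_frame (R : Sylow 3 N) : Nonempty (Frame N (R : Subgroup N)) := by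
  classical
  obtain ⟨s, hs, ho, hsz, hinv⟩ := H.exists_eight R
  obtain ⟨u, hu, huZ⟩ : ∃ u ∈ (R : Subgroup N), u ∉ ctr (R : Subgroup N) := by
    by_contra h
    push_neg at h
    have := card_le_of_le (H := (R : Subgroup N)) (K := ctr (R : Subgroup N)) h
    rw [card_sylow_three H.card_eq R, H.card_ctr R] at this
    omega
  have h3 : ∀ {x : N}, x ∈ (R : Subgroup N) → x ^ 3 = 1 := fun hx => H.pow_three (R := R) hx
  -- the image of `v` in any coordinates
  have main : ∀ (s u : N), s ∈ normalizer (R : Set N) → orderOf s = 8 →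
      (∀ z ∈ ctr (R : Subgroup N), s * z * s⁻¹ = z⁻¹) →
      (∀ g ∈ (R : Subgroup N), s ^ 4 * g * (s ^ 4)⁻¹ * g ∈ ctr (R : Subgroup N)) →
      u ∈ (R : Subgroup N) → u ∉ ctr (R : Subgroup N) →
      ∃ z : N, z ∈ ctr (R : Subgroup N) ∧ u * (s * u * s⁻¹) = z * (s * u * s⁻¹) * u ∧
      (∀ x ∈ (R : Subgroup N), ∃ i : Fin 27, x = coord u (s * u * s⁻¹) z i) ∧
      (∀ i j : Fin 27, coord u (s * u * s⁻¹) z i = coord u (s * u * s⁻¹) z j → i = j) ∧
      ∃ b c : Fin 3, b ≠ 0 ∧
        s * (s * u * s⁻¹) * s⁻¹ = u * (s * u * s⁻¹) ^ b.val * z ^ c.val := by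
    intro s u hs ho hsz hinv hu huZ
    obtain ⟨z, hzZ, hz1, hrel, hbij, hinj⟩ := H.coords R hs ho hinv hu huZ
    refine ⟨z, hzZ, hrel, hbij, hinj, ?_⟩
    set v := s * u * s⁻¹ with hv
    have hvR : v ∈ (R : Subgroup N) := (mem_normalizer_iff.mp hs u).mp hu
    obtain ⟨i, hi⟩ := hbij _ ((mem_normalizer_iff.mp hs v).mp hvR)
    have hcu : Commute z u := (ctr_comm hzZ hu).symm
    have hcv : Commute z v := (ctr_comm hzZ hvR).symm
    have hzi : z⁻¹ = z ^ 2 := inv_eq_of_mul_eq_one_right (by rw [← pow_succ', h3 hzZ.1])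
    have hvu : v * u = u * v * z ^ 2 := by
      calc v * u = z⁻¹ * (z * v * u) := by group
        _ = z ^ 2 * (u * v) := by rw [← hrel, hzi]
        _ = u * v * z ^ 2 := ((hcu.mul_right hcv).pow_left 2).eq
    have hφ := coord_mul hcu hcv hvu (h3 hu) (h3 hvR) (h3 hzZ.1)
    -- conjugate the relation `u v = z v u`
    have hconj : v * (s * v * s⁻¹) = z ^ 2 * (s * v * s⁻¹) * v := by
      have := congrArg (fun x => s * x * s⁻¹) hrel
      rw [← hzi, ← hsz z hzZ]
      calc v * (s * v * s⁻¹) = s * (u * v) * s⁻¹ := by rw [hv]; group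
        _ = _ := this
        _ = _ := by rw [hv]; group
    rw [hi] at hconj
    have e3 : v = coord u v z 3 := by simp [coord]
    have e2 : z ^ 2 = coord u v z 2 := by simp [coord]
    conv at hconj =>
      lhs; arg 1; rw [e3]
    conv at hconj =>
      rhs; arg 2; rw [e3]
    rw [e2, hφ, hφ, hφ] at hconj
    have hA : ∀ i : Fin 27, mulN 3 i = mulN (mulN 2 i) 3 → i.val / 9 = 1 := by decide +kernel
    have htb : ∀ i : Fin 27, mulN 3 i < 27 ∧ mulN (mulN 2 i) 3 < 27 := by decide +kernel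
    have ha : i.val / 9 = 1 := hA i
      (Fin.mk.inj_iff.mp (hinj ⟨_, (htb i).1⟩ ⟨_, (htb i).2⟩ hconj))
    refine ⟨⟨i.val / 3 % 3, by omega⟩, ⟨i.val % 3, by omega⟩, fun hb => ?_, ?_⟩
    · have hb' : i.val / 3 % 3 = 0 := congrArg Fin.val hb
      refine H.not_fix_coset (pow_mem hs 2) ⟨2, ?_⟩ ?_ hu huZ ?_
      · rw [← pow_mul, show 2 * 2 ^ 2 = 8 from rfl, ← ho, pow_orderOf_eq_one]
      · intro h
        have := orderOf_dvd_of_pow_eq_one h
        rw [ho] at this
        norm_num at this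
      · have e : s ^ 2 * u * (s ^ 2)⁻¹ = s * v * s⁻¹ := by rw [hv, pow_two]; group
        rw [e, hi, coord, ha, hb', pow_one, pow_zero, mul_one, inv_mul_cancel_left]
        exact pow_mem hzZ _
    · rw [hi, coord, ha, pow_one]
  obtain ⟨z0, hz0, hrel0, hbij0, hinj0, b0, c0, hb0, hsv0⟩ := main s u hs ho hsz hinv hu huZ
  -- make the exponent of `v` equal to one
  obtain ⟨s', hs', ho', hsz', hinv', hb1⟩ : ∃ s' : N, s' ∈ normalizer (R : Set N) ∧ orderOf s' = 8 ∧
      (∀ z ∈ ctr (R : Subgroup N), s' * z * s'⁻¹ = z⁻¹) ∧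
      (∀ g ∈ (R : Subgroup N), s' ^ 4 * g * (s' ^ 4)⁻¹ * g ∈ ctr (R : Subgroup N)) ∧
      ∀ z : N, z ∈ ctr (R : Subgroup N) →
        (∀ i j : Fin 27, coord u (s' * u * s'⁻¹) z i = coord u (s' * u * s'⁻¹) z j → i = j) →
        u * (s' * u * s'⁻¹) = z * (s' * u * s'⁻¹) * u →
        ∀ b c : Fin 3, b ≠ 0 →
          s' * (s' * u * s'⁻¹) * s'⁻¹ = u * (s' * u * s'⁻¹) ^ b.val * z ^ c.val → b = 1 := by
    set v := s * u * s⁻¹ with hv
    have hvR : v ∈ (R : Subgroup N) := (mem_normalizer_iff.mp hs u).mp hu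
    -- uniqueness of the exponent
    have huniq : ∀ b : Fin 3, ∀ d ∈ ctr (R : Subgroup N), v ^ b.val = v * d → b = 1 := by
      intro b d hd h
      obtain ⟨i, hi⟩ := hbij0 d hd.1
      have hvZ : v ∉ ctr (R : Subgroup N) := fun hvz => huZ (by
        have := conj_ctr (inv_mem hs) hvz
        simpa [hv, mul_assoc] using this)
      rcases (show b.val = 0 ∨ b.val = 1 ∨ b.val = 2 by omega) with k | k | k
      · rw [k, pow_zero] at h
        exact absurd (eq_inv_of_mul_eq_one_left h.symm ▸ inv_mem hd) hvZ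
      · exact Fin.ext k
      · rw [k, pow_two] at h
        exact absurd (mul_left_cancel h ▸ hd) hvZ
    by_cases hbe : b0 = 1
    · refine ⟨s, hs, ho, hsz, hinv, fun z hz hi hr b c _ he => ?_⟩
      subst hbe
      have e := he.symm.trans hsv0
      rw [mul_assoc u, mul_assoc u] at e
      have e1 := mul_left_cancel e
      simp only [Fin.val_one, pow_one] at e1
      exact huniq b (z0 ^ c0.val * (z ^ c.val)⁻¹) (mul_mem (pow_mem hz0 _) (inv_mem (pow_mem hz _)))
        (by rw [← mul_assoc, ← e1, mul_inv_cancel_right])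
    · have hb2 : b0.val = 2 := by
        have h1 : b0.val ≠ 0 := fun h => hb0 (Fin.ext h)
        have h2 : b0.val ≠ 1 := fun h => hbe (Fin.ext h)
        omega
      set i4 := s ^ 4 with hi4
      refine ⟨s ^ 5, pow_mem hs 5, ?_, ?_, ?_, ?_⟩
      · rw [(show Nat.Coprime (orderOf s) 5 by rw [ho]; norm_num).orderOf_pow, ho]
      · intro z hz
        have hpw : ∀ n : ℕ, s ^ n * z * (s ^ n)⁻¹ = if n % 2 = 0 then z else z⁻¹ := by
          intro n
          induction n with
          | zero => simp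
          | succ n ih =>
            calc s ^ (n + 1) * z * (s ^ (n + 1))⁻¹ = s * (s ^ n * z * (s ^ n)⁻¹) * s⁻¹ := by
                  rw [pow_succ']; group
              _ = _ := by
                rw [ih]
                rcases Nat.mod_two_eq_zero_or_one n with h | h
                · rw [if_pos h, hsz z hz, if_neg (by omega)]
                · rw [if_neg (by omega), hsz _ (inv_mem hz), inv_inv, if_pos (by omega)]
        rw [hpw 5, if_neg (by norm_num)]
      · intro g hg
        rw [← pow_mul, show 5 * 4 = 8 * 2 + 4 from rfl, pow_add, pow_mul,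
          show s ^ 8 = 1 by rw [← ho, pow_orderOf_eq_one], one_pow, one_mul]
        exact hinv g hg
      · intro z hz hi hr b c _ he
        set v' := s ^ 5 * u * (s ^ 5)⁻¹ with hv'
        -- `v'` is `v⁻¹` modulo the centre
        obtain ⟨d, hd, hd'⟩ : ∃ d ∈ ctr (R : Subgroup N), v' = v⁻¹ * d := by
          refine ⟨v * v', ?_, (inv_mul_cancel_left v v').symm⟩
          have h := conj_ctr (le_normalizer hvR : v ∈ normalizer ((R : Subgroup N) : Set N))
            (hinv v hvR)
          have e : v * v' = v * (s ^ 4 * v * (s ^ 4)⁻¹ * v) * v⁻¹ := by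
            rw [hv', hv, show s ^ 5 = s ^ 4 * s from pow_succ s 4]; group
          exact e ▸ h
        have e5 : s ^ 5 * v' * (s ^ 5)⁻¹ = s * v * s⁻¹ := by
          rw [hv', hv, show s ^ 5 * (s ^ 5 * u * (s ^ 5)⁻¹) * (s ^ 5)⁻¹ =
            s ^ (5 + 5) * u * (s ^ (5 + 5))⁻¹ by rw [pow_add]; group,
            show 5 + 5 = 8 + 2 from rfl, pow_add, show s ^ 8 = 1 by rw [← ho, pow_orderOf_eq_one],
            one_mul, pow_two]
          group
        rw [e5, hsv0, mul_assoc u, mul_assoc u] at he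
        have e1 := mul_left_cancel he
        rw [hb2, hd', (Commute.inv_left (ctr_comm hd hvR : Commute v d)).mul_pow]
          at e1
        have hv3 := h3 hvR
        have hvi : v⁻¹ = v ^ 2 := inv_eq_of_mul_eq_one_right (by rw [← pow_succ', hv3])
        rcases (show b.val = 0 ∨ b.val = 1 ∨ b.val = 2 by omega) with k | k | k
        · exact absurd (Fin.ext k) ‹b ≠ 0›
        · exact Fin.ext k
        · exfalso
          rw [k, hvi, ← pow_mul, show 2 * 2 = 3 + 1 from rfl, pow_succ v 3, hv3, one_mul,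
            pow_two v] at e1
          have e2 : v * z0 ^ c0.val = d ^ 2 * z ^ c.val := by
            have := e1
            simp only [mul_assoc] at this
            exact mul_left_cancel this
          have hvZ : v ∈ ctr (R : Subgroup N) := by
            rw [← mul_inv_cancel_right v (z0 ^ c0.val), e2]
            exact mul_mem (mul_mem (pow_mem hd 2) (pow_mem hz _)) (inv_mem (pow_mem hz0 _))
          refine huZ ?_
          have := conj_ctr (inv_mem hs) hvZ
          simpa [hv, mul_assoc] using this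
  obtain ⟨z, hz, hrel, -, hinj, b, c, hb, hsv⟩ := main s' u hs' ho' hsz' hinv' hu huZ
  obtain rfl := hb1 z hz hinj hrel b c hb hsv
  simp only [Fin.val_one, pow_one] at hsv
  -- remove the central part
  set u' := u * z ^ (2 * c.val) with hu'
  have hu'R : u' ∈ (R : Subgroup N) := mul_mem hu (pow_mem hz.1 _)
  have hu'Z : u' ∉ ctr (R : Subgroup N) := fun h =>
    huZ ((mul_mem_cancel_right (pow_mem hz _)).mp h)
  obtain ⟨z', hz', hz'1, hrel', hbij', hinj'⟩ := H.coords R hs' ho' hinv' hu'R hu'Z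
  set v := s' * u * s'⁻¹ with hv
  have hvR : v ∈ (R : Subgroup N) := (mem_normalizer_iff.mp hs' u).mp hu
  have hv' : s' * u' * s'⁻¹ = v * z ^ c.val := by
    have h6 : (z ^ (2 * c.val))⁻¹ = z ^ c.val := inv_eq_of_mul_eq_one_right (by
      rw [← pow_add, show 2 * c.val + c.val = 3 * c.val by ring, pow_mul, h3 hz.1, one_pow])
    rw [hu', ← h6, ← hsz' _ (pow_mem hz _), hv]
    group
  have hcu' : Commute z' u' := (ctr_comm hz' hu'R).symm
  have hvR' : s' * u' * s'⁻¹ ∈ (R : Subgroup N) := (mem_normalizer_iff.mp hs' u').mp hu'R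
  have hcv' : Commute z' (s' * u' * s'⁻¹) := (ctr_comm hz' hvR').symm
  have hz'i : z'⁻¹ = z' ^ 2 := inv_eq_of_mul_eq_one_right (by rw [← pow_succ', h3 hz'.1])
  refine ⟨{ s := s', u := u', v := s' * u' * s'⁻¹, z := z'
            s_mem := hs', order_s := ho', u_mem := hu'R, v_mem := hvR', z_mem := hz'.1
            comm_u := hcu', comm_v := hcv', rel := ?_, bij := hbij', inj := hinj'
            conj_u := rfl, conj_v := ?_, conj_z := by rw [hsz' z' hz', hz'i] }⟩
  · calc s' * u' * s'⁻¹ * u' = z'⁻¹ * (z' * (s' * u' * s'⁻¹) * u') := by group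
      _ = z' ^ 2 * (u' * (s' * u' * s'⁻¹)) := by rw [← hrel', hz'i]
      _ = _ := ((hcu'.mul_right hcv').pow_left 2).eq
  · rw [hv', show s' * (v * z ^ c.val) * s'⁻¹ = s' * v * s'⁻¹ * (s' * z ^ c.val * s'⁻¹) by group,
      hsv, hsz' _ (pow_mem hz _), mul_inv_cancel_right, hu']
    calc u * v = u * v * (z ^ 3) ^ c.val := by rw [h3 hz.1, one_pow, mul_one]
      _ = u * v * (z ^ (2 * c.val) * z ^ c.val) := by
          rw [← pow_add, ← pow_mul, show 2 * c.val + c.val = 3 * c.val by ring]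
      _ = u * (v * z ^ (2 * c.val)) * z ^ c.val := by group
      _ = u * (z ^ (2 * c.val) * v) * z ^ c.val := by
          rw [((show Commute z v from (ctr_comm hz hvR).symm).pow_left (2 * c.val)).eq]
      _ = u * z ^ (2 * c.val) * (v * z ^ c.val) := by group

/-- The model. -/
theorem nonempty_model [IsSimpleGroup N] : Nonempty (Model N) := by
  classical
  haveI : Fact (Nat.Prime 3) := ⟨Nat.prime_three⟩
  haveI : Fact (Nat.Prime 2) := ⟨Nat.prime_two⟩
  obtain ⟨R⟩ : Nonempty (Sylow 3 N) := inferInstance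
  obtain ⟨F⟩ := H.exists_frame R
  obtain ⟨w, hw, hw1⟩ := exists_ne_of_card_three (H.card_ctr R)
  obtain ⟨-, hN⟩ := H.card_normalizer R hw hw1
  have h28 : Nat.card (Sylow 3 N) = 28 := by
    have h := (normalizer (R : Set N)).card_mul_index
    rw [← R.card_eq_index_normalizer, hN, H.card_eq] at h
    omega
  -- a second fixed point of `s`
  obtain ⟨Q, hQ, hQR⟩ : ∃ Q : Sylow 3 N, F.s • Q = Q ∧ Q ≠ R := by
    have hp : IsPGroup 2 ↥(zpowers F.s) := IsPGroup.of_card (n := 3)
      (by rw [Nat.card_zpowers, F.order_s]; rfl)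
    have h := hp.card_modEq_card_fixedPoints (Sylow 3 N)
    rw [h28] at h
    have hR : F.s • R = R := Sylow.smul_eq_iff_mem_normalizer.mpr F.s_mem
    have hmem : R ∈ fixedPoints ↥(zpowers F.s) (Sylow 3 N) := by
      rintro ⟨g, k, rfl⟩
      exact mem_fixedBy_zpow (show R ∈ fixedBy (Sylow 3 N) F.s from hR) k
    have hpos : 1 < Nat.card (fixedPoints ↥(zpowers F.s) (Sylow 3 N)) := by
      have h0 : 0 < Nat.card (fixedPoints ↥(zpowers F.s) (Sylow 3 N)) :=
        haveI : Nonempty (fixedPoints ↥(zpowers F.s) (Sylow 3 N)) := ⟨⟨R, hmem⟩⟩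
        Nat.card_pos
      have : Nat.card (fixedPoints ↥(zpowers F.s) (Sylow 3 N)) % 2 = 0 := h.symm
      omega
    rw [Finite.one_lt_card_iff_nontrivial] at hpos
    obtain ⟨⟨Q, hQ⟩, hne⟩ := exists_ne (⟨R, hmem⟩ : fixedPoints ↥(zpowers F.s) (Sylow 3 N))
    exact ⟨Q, hQ ⟨F.s, mem_zpowers _⟩, fun h => hne (Subtype.ext h)⟩
  set φ : Fin 27 → N := fun i => coord F.u F.v F.z i with hφdef
  have h3 : ∀ {x : N}, x ∈ (R : Subgroup N) → x ^ 3 = 1 := fun hx => H.pow_three (R := R) hx
  have hmulc : ∀ i j, coord F.u F.v F.z i * coord F.u F.v F.z j = coord F.u F.v F.z (mulN i j) :=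
    coord_mul F.comm_u F.comm_v F.rel (h3 F.u_mem) (h3 F.v_mem) (h3 F.z_mem)
  have hpowc : ∀ i n, coord F.u F.v F.z i ^ n = coord F.u F.v F.z (powN i n) :=
    coord_pow F.comm_u F.comm_v F.rel (h3 F.u_mem) (h3 F.v_mem) (h3 F.z_mem)
  have hφR : ∀ i, φ i ∈ (R : Subgroup N) := fun i =>
    mul_mem (mul_mem (pow_mem F.u_mem _) (pow_mem F.v_mem _)) (pow_mem F.z_mem _)
  have hsφ : ∀ i : Fin 27, F.s * φ i * F.s⁻¹ = coord F.u F.v F.z (hpN 1 i) := by
    intro i
    have e3 : F.v = coord F.u F.v F.z 3 := by simp [coord]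
    have e12 : F.u * F.v = coord F.u F.v F.z 12 := by simp [coord]
    have e2 : F.z ^ 2 = coord F.u F.v F.z 2 := by simp [coord]
    rw [← (coord_table i).1, ← hmulc, ← hmulc, ← hpowc, ← hpowc, ← hpowc, ← e3, ← e12, ← e2]
    show F.s * (F.u ^ (i.val / 9) * F.v ^ (i.val / 3 % 3) * F.z ^ (i.val % 3)) * F.s⁻¹ = _
    calc F.s * (F.u ^ (i.val / 9) * F.v ^ (i.val / 3 % 3) * F.z ^ (i.val % 3)) * F.s⁻¹
        = (F.s * F.u * F.s⁻¹) ^ (i.val / 9) * (F.s * F.v * F.s⁻¹) ^ (i.val / 3 % 3) *
            (F.s * F.z * F.s⁻¹) ^ (i.val % 3) := by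
          rw [conj_pow, conj_pow, conj_pow]; group
      _ = _ := by rw [F.conj_u, F.conj_v, F.conj_z]
  -- regularity
  have hreg : ∀ x ∈ (R : Subgroup N), x • Q = Q → x = 1 := by
    intro x hx hfix
    by_contra hx1
    have hn : zpowers x ≤ normalizer (Q : Set N) :=
      zpowers_le.mpr (Sylow.smul_eq_iff_mem_normalizer.mp hfix)
    have hp : IsPGroup 3 ↥(zpowers x) := IsPGroup.of_card (n := 1)
      (by rw [Nat.card_zpowers, H.orderOf_three hx hx1, pow_one])
    have := hp.inf_normalizer_sylow Q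
    rw [inf_eq_left.mpr hn] at this
    have h2 : x ∈ zpowers x ⊓ (Q : Subgroup N) := by rw [← this]; exact mem_zpowers x
    exact hQR (H.eq_of_mem h2.2 hx hx1)
  let F0 : Fin 28 → Sylow 3 N := fun x => if h : x.val < 27 then φ ⟨x.val, h⟩ • Q else R
  have hne : ∀ i : Fin 27, φ i • Q ≠ R := by
    intro i h
    apply hQR
    rw [← inv_smul_smul (φ i) Q, h, Sylow.smul_eq_iff_mem_normalizer]
    exact inv_mem (le_normalizer (hφR i))
  have hF0 : Function.Bijective F0 := by
    refine (Nat.bijective_iff_injective_and_card F0).mpr ⟨fun a b h => ?_, by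
      rw [h28, Nat.card_eq_fintype_card, Fintype.card_fin]⟩
    simp only [F0] at h
    split_ifs at h with ha hb hb
    · have h1 : (φ ⟨b.val, hb⟩)⁻¹ * φ ⟨a.val, ha⟩ = 1 := by
        refine hreg _ (mul_mem (inv_mem (hφR _)) (hφR _)) ?_
        rw [mul_smul, h, inv_smul_smul]
      have h2 := F.inj ⟨a.val, ha⟩ ⟨b.val, hb⟩ (inv_mul_eq_one.mp h1).symm
      exact Fin.ext (Fin.mk.inj_iff.mp h2)
    · exact absurd h (hne _)
    · exact absurd h.symm (hne _)
    · exact Fin.ext (by omega)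
  let e : Fin 28 ≃ Sylow 3 N := Equiv.ofBijective F0 hF0
  let f : N →* Equiv.Perm (Fin 28) :=
    (e.symm.permCongrHom.toMonoidHom).comp (MulAction.toPermHom N (Sylow 3 N))
  have hf : ∀ (g : N) (x : Fin 28), e (f g x) = g • e x := fun g x => by
    show e (e.symm (g • e x)) = g • e x
    exact e.apply_symm_apply _
  have hfv : ∀ (g : N) (x : Fin 28) (n : ℕ) (hn : n < 28),
      g • F0 x = F0 ⟨n, hn⟩ → (f g x).val = n := by
    intro g x n hn h
    have : f g x = ⟨n, hn⟩ := e.injective ((hf g x).trans h)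
    rw [this]
  have he27 : e 27 = R := by
    show F0 27 = R
    simp [F0]
  have he0 : e 0 = Q := by
    show F0 0 = Q
    simp only [F0, Fin.val_zero, Nat.zero_lt_succ, dite_true]
    simp [φ, coord]
  have hsapp : ∀ x, (f F.s x).val = hpN 1 x := by
    intro x
    by_cases hx : x.val < 27
    · obtain ⟨-, hlt, -⟩ := coord_table ⟨x.val, hx⟩
      refine hfv _ _ _ (by simp only at hlt; omega) ?_
      simp only [F0]
      rw [dif_pos hx, dif_pos (by simpa using hlt), show φ ⟨hpN 1 x.val, by simpa using hlt⟩ =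
        F.s * φ ⟨x.val, hx⟩ * F.s⁻¹ from (hsφ ⟨x.val, hx⟩).symm]
      rw [mul_smul, mul_smul, show F.s⁻¹ • Q = Q by
        rw [inv_smul_eq_iff]; exact hQ.symm]
    · have hx27 : x.val = 27 := by omega
      have h27 : hpN 1 x.val = 27 := by rw [hx27]; decide +kernel
      rw [h27]
      refine hfv _ _ 27 (by norm_num) ?_
      simp only [F0]
      rw [dif_neg hx, dif_neg (by norm_num)]
      exact Sylow.smul_eq_iff_mem_normalizer.mpr F.s_mem
  have htapp : ∀ (i : Fin 27) x, (f (φ i) x).val = trN i x := by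
    intro i x
    by_cases hx : x.val < 27
    · have hlt := table_bounds i ⟨x.val, hx⟩
      rw [trN, if_neg (by omega)]
      refine hfv _ _ _ (by simp only at hlt; omega) ?_
      simp only [F0]
      rw [dif_pos hx, dif_pos (by simpa using hlt), ← mul_smul]
      congr 1
      exact hmulc _ _
    · have hx27 : x.val = 27 := by omega
      rw [trN, if_pos hx27]
      refine hfv _ _ 27 (by norm_num) ?_
      simp only [F0]
      rw [dif_neg hx, dif_neg (by norm_num)]
      exact Sylow.smul_eq_iff_mem_normalizer.mpr (le_normalizer (hφR i))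
  have hstab : ∀ g : N, f g 27 = 27 ↔ g ∈ normalizer (R : Set N) := fun g => by
    rw [← e.injective.eq_iff, hf, he27, Sylow.smul_eq_iff_mem_normalizer]
  have hfix : ∀ g : N, f g 0 = 0 ↔ g • Q = Q := fun g => by
    rw [← e.injective.eq_iff, hf, he0]
  -- the two point stabiliser
  have htwo : ∀ g : N, f g 27 = 27 → f g 0 = 0 → ∃ j < 8, g = F.s ^ j := by
    intro g hg hg0
    set T : Subgroup N := normalizer (R : Set N) ⊓ stabilizer N Q
    have hsT : zpowers F.s ≤ T := zpowers_le.mpr ⟨F.s_mem, hQ⟩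
    have hcard : Nat.card T ≤ 8 := by
      have hinj : Function.Injective (fun p : ↥(R : Subgroup N) × T =>
          (⟨(p.1 : N) * (p.2 : N), mul_mem (le_normalizer p.1.2) p.2.2.1⟩ :
            normalizer (R : Set N))) := by
        rintro ⟨a, x⟩ ⟨b, y⟩ h
        have h' : (a : N) * x = b * y := congrArg Subtype.val h
        have h1 : (b : N)⁻¹ * a = y * (x : N)⁻¹ := by
          rw [eq_mul_inv_iff_mul_eq, mul_assoc, h', inv_mul_cancel_left]
        have h2 : (b : N)⁻¹ * a = 1 := by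
          refine hreg _ (mul_mem (inv_mem b.2) a.2) ?_
          rw [h1, mul_smul, show (x : N)⁻¹ • Q = Q by rw [inv_smul_eq_iff]; exact x.2.2.symm]
          exact y.2.2
        have hab : a = b := Subtype.ext (inv_mul_eq_one.mp h2).symm
        subst hab
        exact Prod.ext rfl (Subtype.ext (mul_left_cancel h'))
      have := Nat.card_le_card_of_injective _ hinj
      rw [Nat.card_prod, card_sylow_three H.card_eq R, hN] at this
      omega
    have heq : zpowers F.s = T := eq_of_le_of_card_ge hsT (by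
      rw [Nat.card_zpowers, F.order_s]; exact hcard)
    have hgT : g ∈ zpowers F.s := heq ▸ ⟨(hstab g).mp hg, (hfix g).mp hg0⟩
    rw [← mem_powers_iff_mem_zpowers] at hgT
    obtain ⟨n, rfl⟩ := hgT
    refine ⟨n % 8, Nat.mod_lt _ (by norm_num), ?_⟩
    show F.s ^ n = F.s ^ (n % 8)
    rw [← F.order_s, pow_mod_orderOf]
  refine ⟨{ f := f, h := F.s, t := φ, inj := ?_, h_apply := hsapp, t_apply := htapp
            stab := ?_, fix_two := htwo, trans := ?_
            h_pow := by rw [← F.order_s, pow_orderOf_eq_one] }⟩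
  · rw [← MonoidHom.ker_eq_bot_iff]
    refine f.normal_ker.eq_bot_or_eq_top.resolve_right fun h => ?_
    obtain ⟨g, hg⟩ := MulAction.exists_smul_eq N (e 27) (e 0)
    rw [← hf] at hg
    have hg1 : f g = 1 := MonoidHom.mem_ker.mp (h ▸ mem_top g)
    rw [hg1, Equiv.Perm.one_apply] at hg
    exact absurd (e.injective hg) (by decide)
  · intro g hg
    have hgy : (f g 0).val < 27 := by
      have h1 : f g 0 ≠ 27 := fun h => absurd ((f g).injective (h.trans hg.symm)) (by decide)
      have := (f g 0).isLt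
      have : (f g 0).val ≠ 27 := fun h => h1 (Fin.ext h)
      omega
    have h27 : f (φ ⟨(f g 0).val, hgy⟩) 27 = 27 := (hstab _).mpr (le_normalizer (hφR _))
    have h0 : f (φ ⟨(f g 0).val, hgy⟩) 0 = f g 0 := by
      apply Fin.ext
      rw [htapp, trN, if_neg (by norm_num)]
      exact (coord_table ⟨_, hgy⟩).2.2
    obtain ⟨j, hj, hgj⟩ := htwo ((φ ⟨(f g 0).val, hgy⟩)⁻¹ * g)
      (by rw [map_mul, map_inv, Equiv.Perm.mul_apply, Equiv.Perm.inv_eq_iff_eq, hg, h27])
      (by rw [map_mul, map_inv, Equiv.Perm.mul_apply, Equiv.Perm.inv_eq_iff_eq, h0])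
    exact ⟨_, j, hj, by rw [← hgj, mul_inv_cancel_left]⟩
  · intro x
    obtain ⟨g, hg⟩ := MulAction.exists_smul_eq N (e 27) (e x)
    exact ⟨g, e.injective ((hf g 27).trans hg)⟩

end LocalHyp

end Cfsg.Agent.U33Uniq31
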