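import Cfsg.Agent.U33Uniq31.Data
import Cfsg.Agent.U33Uniq31.Build

/-!
A simple group of order `6048` without elements of order `9`, `14`, `21` has the local structure of `U₃(3)`.
-/

set_option autoImplicit false
set_option maxHeartbeats 1000000

open scoped ComplexConjugate

namespace Cfsg.Agent.U33Uniq31

open Subgroup Cfsg.Agent.SmallGroups Cfsg.Agent.SmallGroups.SelfCent Cfsg.Agent.SmallGroups.SelfCent.Setup

variable {N : Type*} [Group N] [Fintype N]

theorem not_conj_zp {s : Setup N 7} {g : N} {n : ℕ} (hn : g ^ n = 1) (h7 : ¬ 7 ∣ n) (k : ZMod 7)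
    (hk : k ≠ 0) : ¬ IsConj g (s.zp k) := by
  intro h
  obtain ⟨c, hc⟩ := isConj_iff.mp h
  have h1 : s.zp k ^ n = 1 := by rw [← hc, conj_pow, hn]; group
  rw [s.zp_pow, s.zp_eq_one_iff] at h1
  exact h7 ((ZMod.natCast_eq_zero_iff n 7).mp ((mul_eq_zero.mp h1).resolve_left hk))

/-- Facts about the Sylow `7`-normaliser. -/
theorem exists_inverting_none (hc : Nat.card N = 6048) (s : Setup N 7)
    (hz : Nat.card (normalizer ((zpowers s.z : Subgroup N) : Set N)) = 21) {i : N} (hi : orderOf i = 2) :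
    i * s.z * i⁻¹ ≠ s.z⁻¹ := by
  intro h
  have hmem : i ∈ normalizer ((zpowers s.z : Subgroup N) : Set N) := by
    have hc' : (zpowers s.z).map (MulAut.conj i).toMonoidHom = zpowers s.z := by
      rw [MonoidHom.map_zpowers]
      show zpowers (i * s.z * i⁻¹) = _
      rw [h, zpowers_inv]
    rw [mem_normalizer_iff]
    intro x
    constructor
    · intro hx
      rw [← hc']
      exact ⟨x, hx, rfl⟩
    · intro hx
      rw [← hc'] at hx
      obtain ⟨y, hy, he⟩ := hx
      have he' : i * y * i⁻¹ = i * x * i⁻¹ := he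
      rwa [← mul_left_cancel (mul_right_cancel he')]
  have := Subgroup.orderOf_dvd_natCard _ hmem
  rw [hi, hz] at this
  norm_num at this

open scoped Classical in
/-- The class equation on the principal characters, in integers. -/
theorem pairs_eq (hc : Nat.card N = 6048) {s : Setup N 7} (P : Principal s) {y y' : N}
    {a b F a' b' F' : ℤ} (ha : (P.χa : N → ℂ) y = a) (hb : (P.χb : N → ℂ) y = b)
    (hF : (P.f0 : N → ℂ) y = F) (hF1 : (P.f1 : N → ℂ) y = F)
    (ha' : (P.χa : N → ℂ) y' = a') (hb' : (P.χb : N → ℂ) y' = b') (hF' : (P.f0 : N → ℂ) y' = F')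
    (hF1' : (P.f1 : N → ℂ) y' = F') {k : ZMod 7} (hk : k ≠ 0) :
    (Nat.card {q : N × N // IsConj y q.1 ∧ IsConj y' q.2 ∧ q.1 * q.2 = s.zp k} : ℤ) *
        ((Nat.card (centralizer ({y} : Set N)) : ℤ) * Nat.card (centralizer ({y'} : Set N))) *
        ((deg P.χa : ℤ) * deg P.χb * deg P.f0) =
      6048 * ((deg P.χa : ℤ) * deg P.χb * deg P.f0 - P.ca * a * a' * (deg P.χb * deg P.f0) -
        P.cb * b * b' * (deg P.χa * deg P.f0) - P.η * F * F' * (deg P.χa * deg P.χb)) := by
  have h := card_pairs_mul_card₂ y y' (s.zp k)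
  rw [hc, P.sum_eq _ (fun χ h1 h2 h3 h4 h5 => by rw [P.at_other χ h1 h2 h3 h4 h5 k hk]; simp),
    P.at_a k hk, P.at_b k hk, ha, hb, hF, hF1, ha', hb', hF', hF1', (deg_spec P.χa).2.2,
    (deg_spec P.χb).2.2, (deg_spec P.f0).2.2, (deg_spec P.f1).2.2, P.deg_01] at h
  simp only [triv, Pi.one_apply, map_one, mul_one, map_neg, map_intCast, div_one] at h
  have hA : (deg P.χa : ℂ) ≠ 0 := Nat.cast_ne_zero.mpr (deg_spec P.χa).1.ne'
  have hB : (deg P.χb : ℂ) ≠ 0 := Nat.cast_ne_zero.mpr (deg_spec P.χb).1.ne'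
  have hD : (deg P.f0 : ℂ) ≠ 0 := Nat.cast_ne_zero.mpr (deg_spec P.f0).1.ne'
  have hi : ∀ x : N, ((centralizer ({x} : Set N)).index : ℂ) *
      (Nat.card (centralizer ({x} : Set N)) : ℂ) = 6048 := fun x => by
    rw [← Nat.cast_mul, index_mul_card, hc]; norm_num
  set n := Nat.card {q : N × N // IsConj y q.1 ∧ IsConj y' q.2 ∧ q.1 * q.2 = s.zp k}
  set Q : ℂ := (deg P.χa : ℂ) * deg P.χb * deg P.f0 -
        P.ca * a * a' * (deg P.χb * deg P.f0) -
        P.cb * b * b' * (deg P.χa * deg P.f0) - P.η * F * F' * (deg P.χa * deg P.χb) with hQ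
  have h2 : (n : ℂ) * 6048 * ((deg P.χa : ℂ) * deg P.χb * deg P.f0) =
      ((centralizer ({y} : Set N)).index : ℂ) * ((centralizer ({y'} : Set N)).index : ℂ) * Q := by
    push_cast at h
    rw [h, hQ]
    have hf := P.at_f k hk
    field_simp
    linear_combination ((centralizer ({y} : Set N)).index : ℂ) *
      ((centralizer ({y'} : Set N)).index : ℂ) *
      ((deg P.χa : ℂ) * deg P.χb * (F : ℂ) * F') * hf
  have key : (n : ℂ) * ((Nat.card (centralizer ({y} : Set N)) : ℂ) *
      (Nat.card (centralizer ({y'} : Set N)) : ℂ)) * ((deg P.χa : ℂ) * deg P.χb * deg P.f0) =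
      6048 * Q := by
    apply mul_left_cancel₀ (show (6048 : ℂ) ≠ 0 by norm_num)
    linear_combination ((Nat.card (centralizer ({y} : Set N)) : ℂ) *
      (Nat.card (centralizer ({y'} : Set N)) : ℂ)) * h2 +
      Q * (((centralizer ({y'} : Set N)).index : ℂ) * (Nat.card (centralizer ({y'} : Set N)) : ℂ)) * hi y +
      Q * 6048 * hi y'
  apply Int.cast_injective (α := ℂ)
  push_cast
  rw [key, hQ]

theorem other_deg {s : Setup N 7} (P : Principal s) {ψ : Cfsg.IrrCharacter N} {d : ℕ}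
    (hd : deg ψ = d) (h7 : ¬ 7 ∣ d) (h1 : d ≠ 1) :
    (ψ = P.χa ∨ ψ = P.χb) ∨ ψ = P.f0 ∨ ψ = P.f1 := by
  by_contra h
  simp only [not_or] at h
  have ht : ψ ≠ triv := fun e => h1 (by rw [← hd, e, deg_triv])
  exact h7 (hd ▸ P.other ψ ht h.1.1 h.1.2 h.2.1 h.2.2)

/-- The case of degrees `8, 27, 18`. -/
theorem false_of_eight [IsSimpleGroup N] (hna : ¬ IsMulCommutative N) (hc : Nat.card N = 6048)
    (s : Setup N 7) (hz : Nat.card (normalizer ((zpowers s.z : Subgroup N) : Set N)) = 21)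
    (P : Principal s) (hA : deg P.χa = 8) (hca : P.ca = -1) (hB : deg P.χb = 27) (hcb : P.cb = 1)
    (hD : deg P.f0 = 18) (hη : P.η = -1) : False := by
  classical
  haveI : Fact (Nat.Prime 2) := ⟨Nat.prime_two⟩
  obtain ⟨i, hi⟩ := exists_prime_orderOf_dvd_card' (G := N) 2 (by rw [hc]; norm_num)
  have hi2 : i ^ 2 = 1 := by rw [← hi, pow_orderOf_eq_one]
  have hi1 : i ≠ 1 := fun h => by rw [h, orderOf_one] at hi; norm_num at hi
  obtain ⟨a, ha, ha1, ha2, ha4⟩ := exists_int_value_four hna P.χa hi2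
  obtain ⟨b, hb, hb1, hb2, hb4⟩ := exists_int_value_four hna P.χb hi2
  obtain ⟨F, hF, -, -, hF4⟩ := exists_int_value_four hna P.f0 hi2
  obtain ⟨hv, hv1⟩ := P.value i (not_conj_zp hi2 (by norm_num))
  rw [ha, hb, hF, hca, hcb, hη] at hv
  have hlin : (-1 : ℤ) - a + b - F = 0 := by
    push_cast at hv
    have : ((-1 - a + b - F : ℤ) : ℂ) = 0 := by push_cast; linear_combination hv
    exact_mod_cast this
  have hn0 : IsEmpty {q : N × N // IsConj i q.1 ∧ IsConj i q.2 ∧ q.1 * q.2 = s.zp 1} := by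
    refine ⟨fun ⟨⟨x, y⟩, hx, hy, hxy⟩ => ?_⟩
    simp only at hxy
    have hsq : ∀ {g : N}, IsConj i g → g * g = 1 ∧ orderOf g = 2 := fun {g} hg => by
      obtain ⟨c, rfl⟩ := isConj_iff.mp hg
      refine ⟨by rw [← sq, conj_pow, hi2]; group, ?_⟩
      rw [← MulAut.conj_apply, MulEquiv.orderOf_eq, hi]
    refine exists_inverting_none hc s hz (hsq hx).2 ?_
    rw [s.zp_one] at hxy
    rw [← hxy, inv_eq_of_mul_eq_one_right (hsq hx).1, mul_inv_rev,
      inv_eq_of_mul_eq_one_right (hsq hy).1, inv_eq_of_mul_eq_one_right (hsq hx).1, ← mul_assoc,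
      (hsq hx).1, one_mul]
  have h := pairs_eq hc P ha hb hF (hv1.trans hF) ha hb hF (hv1.trans hF) (one_ne_zero (α := ZMod 7))
  rw [Nat.card_of_isEmpty, hA, hB, hD, hca, hcb, hη] at h
  push_cast at h
  rw [hA] at ha1 ha2 ha4
  rw [hB] at hb1 hb2 hb4
  rw [hD] at hF4
  have hne : a ≠ 8 := fun e => value_ne_deg P.ne_a hi1 (by rw [ha, e, hA]; norm_num)
  have hne' : b ≠ 27 := fun e => value_ne_deg P.ne_b hi1 (by rw [hb, e, hB]; norm_num)
  have hne'' : a ≠ -8 := fun e => value_ne_neg_deg hna P.ne_a hi2 hi1 (by rw [ha, e, hA]; norm_num)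
  have hne3 : b ≠ -27 := fun e => value_ne_neg_deg hna P.ne_b hi2 hi1 (by rw [hb, e, hB]; norm_num)
  have hFe : F = b - a - 1 := by linarith
  subst hFe
  push_cast at ha1 ha2 ha4 hb1 hb2 hb4 hF4
  refine no_involution a (Finset.mem_Ico.mpr ⟨by omega, by omega⟩) b
    (Finset.mem_Ico.mpr ⟨by omega, by omega⟩) ha4 hb4 hF4 ?_
  linarith

/-- The case of degrees `6, 8, 3`. -/
theorem false_of_three [IsSimpleGroup N] (hc : Nat.card N = 6048) (h9 : ∀ g : N, orderOf g ≠ 9)
    (s : Setup N 7) (P : Principal s) (hA : deg P.χa = 6) (hca : P.ca = 1) (hB : deg P.χb = 8)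
    (hcb : P.cb = -1) (hD : deg P.f0 = 3) (hη : P.η = 1) : False := by
  classical
  have hD1 : deg P.f1 = 3 := P.deg_01.trans hD
  have hua : ∀ ψ, deg ψ = deg P.χa → ψ = P.χa := fun ψ h => by
    rcases other_deg P (h.trans hA) (by norm_num) (by norm_num) with (e | e) | e | e
    · exact e
    all_goals (rw [e, hA] at h; omega)
  have hub : ∀ ψ, deg ψ = deg P.χb → ψ = P.χb := fun ψ h => by
    rcases other_deg P (h.trans hB) (by norm_num) (by norm_num) with (e | e) | e | e
    · rw [e, hB] at h; omega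
    · exact e
    all_goals (rw [e, hB] at h; omega)
  haveI : Fact (Nat.Prime 3) := ⟨Nat.prime_three⟩
  obtain ⟨R⟩ : Nonempty (Sylow 3 N) := inferInstance
  have := Fintype.ofFinite (R : Subgroup N)
  have h27 := card_sylow_three hc R
  have hval : ∀ g : (R : Subgroup N), g ≠ 1 → (P.f0 : N → ℂ) g = 0 := by
    intro g hg1
    have hg3 : (g : N) ^ 3 = 1 := by
      have hd := Subgroup.orderOf_dvd_natCard (R : Subgroup N) g.2
      rw [h27, show (27 : ℕ) = 3 ^ 3 from rfl] at hd
      obtain ⟨k, hk, hk'⟩ := (Nat.dvd_prime_pow Nat.prime_three).mp hd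
      interval_cases k
      · rw [orderOf_eq_one_iff.mp hk', one_pow]
      · have e := pow_orderOf_eq_one (g : N)
        rw [hk', pow_one] at e
        exact e
      · exact absurd hk' (h9 _)
      · exact absurd (by rw [orderOf_pow' _ (by norm_num : (3 : ℕ) ≠ 0), hk']; rfl) (h9 ((g : N) ^ 3))
    obtain ⟨a, ha, -⟩ := exists_value_three P.χa hg3 (conj_of_unique_deg _ hua _)
    obtain ⟨b, hb, -⟩ := exists_value_three P.χb hg3 (conj_of_unique_deg _ hub _)
    obtain ⟨hv, -⟩ := P.value g (not_conj_zp hg3 (by norm_num))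
    rw [ha, hb, hca, hcb, hη] at hv
    have hF : (P.f0 : N → ℂ) g = ((1 - a + b : ℤ) : ℂ) := by
      push_cast at hv ⊢; linear_combination hv
    obtain ⟨F, hF', h3, hle, hge⟩ := exists_value_three P.f0 hg3 (by rw [hF, map_intCast])
    have hne : F ≠ 3 := fun e => value_ne_deg P.ne_0 (fun h => hg1 (Subtype.ext h))
      (by rw [hF', e, hD]; norm_num)
    rw [hD] at h3 hle hge
    push_cast at h3 hle hge
    rw [hF', show F = 0 by omega, Int.cast_zero]
  obtain ⟨k, hk⟩ := exists_sum_subgroup P.f0 (R : Subgroup N)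
  rw [Finset.sum_eq_single (1 : (R : Subgroup N)) (fun g _ hg => hval g hg) (by simp), h27,
    OneMemClass.coe_one, (deg_spec P.f0).2.2, hD] at hk
  have : (3 : ℕ) = 27 * k := by exact_mod_cast hk
  omega

/-- The case of degrees `6, 27, 32` gives the local hypotheses. -/
theorem localHyp_of_six [IsSimpleGroup N] (hc : Nat.card N = 6048) (hs : NoBig N) (s : Setup N 7)
    (hK : s.K = ⊥) (he : Nat.card s.auto = 3) (h7 : Nat.card (Sylow 7 N) = 288)
    (P : Principal s) (hA : deg P.χa = 6) (hca : P.ca = 1) (hB : deg P.χb = 27) (hcb : P.cb = 1)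
    (hD : deg P.f0 = 32) (hη : P.η = -1) : LocalHyp N := by
  classical
  haveI : Fact (Nat.Prime 3) := ⟨Nat.prime_three⟩
  have hD1 : deg P.f1 = 32 := P.deg_01.trans hD
  have hua : ∀ ψ, deg ψ = deg P.χa → ψ = P.χa := fun ψ h => by
    rcases other_deg P (h.trans hA) (by norm_num) (by norm_num) with (e | e) | e | e
    · exact e
    all_goals (rw [e, hA] at h; omega)
  have hub : ∀ ψ, deg ψ = deg P.χb → ψ = P.χb := fun ψ h => by
    rcases other_deg P (h.trans hB) (by norm_num) (by norm_num) with (e | e) | e | e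
    · rw [e, hB] at h; omega
    · exact e
    all_goals (rw [e, hB] at h; omega)
  -- values at elements of order three
  have hval : ∀ g : N, orderOf g = 3 → ∃ a b : ℤ, (P.χa : N → ℂ) g = a ∧ (P.χb : N → ℂ) g = b ∧
      (P.f0 : N → ℂ) g = (a + b - 1 : ℤ) ∧ (P.f1 : N → ℂ) g = (a + b - 1 : ℤ) ∧
      -3 ≤ a ∧ a < 6 ∧ -13 ≤ b ∧ b < 27 ∧ (3 : ℤ) ∣ 6 - a ∧ (3 : ℤ) ∣ 27 - b ∧
      (3 : ℤ) ∣ 32 - (a + b - 1) ∧ a + b - 1 < 32 ∧ -32 ≤ 2 * (a + b - 1) := by
    intro g hg
    have hg3 : g ^ 3 = 1 := hg ▸ pow_orderOf_eq_one g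
    have hg1 : g ≠ 1 := fun h => by rw [h, orderOf_one] at hg; norm_num at hg
    obtain ⟨a, ha, a3, a1, a2⟩ := exists_value_three P.χa hg3 (conj_of_unique_deg _ hua _)
    obtain ⟨b, hb, b3, b1, b2⟩ := exists_value_three P.χb hg3 (conj_of_unique_deg _ hub _)
    obtain ⟨hv, hv1⟩ := P.value g (not_conj_zp hg3 (by norm_num))
    rw [ha, hb, hca, hcb, hη] at hv
    have hF : (P.f0 : N → ℂ) g = ((a + b - 1 : ℤ) : ℂ) := by
      push_cast at hv ⊢; linear_combination -hv
    obtain ⟨F, hF', F3, F1, F2⟩ := exists_value_three P.f0 hg3 (by rw [hF, map_intCast])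
    obtain rfl : a + b - 1 = F := Int.cast_injective (hF.symm.trans hF')
    have na : a ≠ 6 := fun e => value_ne_deg P.ne_a hg1 (by rw [ha, e, hA]; norm_num)
    have nb : b ≠ 27 := fun e => value_ne_deg P.ne_b hg1 (by rw [hb, e, hB]; norm_num)
    have nF : a + b - 1 ≠ 32 := fun e => value_ne_deg P.ne_0 hg1 (by rw [hF, e, hD]; norm_num)
    rw [hA] at a3 a1 a2
    rw [hB] at b3 b1 b2
    rw [hD] at F3 F1 F2
    push_cast at a3 a1 a2 b3 b1 b2 F3 F1 F2
    exact ⟨a, b, ha, hb, hF, hv1.trans hF, by omega, by omega, by omega, by omega, a3, b3, F3,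
      by omega, F2⟩
  -- centraliser orders
  have hcent : ∀ g : N, orderOf g = 3 → Nat.card (centralizer ({g} : Set N)) ∈ cents := by
    intro g hg
    set C := centralizer ({g} : Set N)
    have h7' : ¬ 7 ∣ Nat.card C := by
      intro h
      obtain ⟨x, hx⟩ := exists_prime_orderOf_dvd_card' (G := C) 7 h
      have hx' : orderOf (x : N) = 7 := (orderOf_coe x).trans hx
      have := (show Commute (x : N) g from mem_cent_comm x.2).orderOf_mul_eq_mul_orderOf_of_coprime
        (by rw [hx', hg]; norm_num)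
      rw [hx', hg] at this
      exact (hs _).2.2 this
    have h864 : Nat.card C ∣ 864 := by
      have h1 : Nat.card C ∣ 864 * 7 := (card_subgroup_dvd_card C).trans (by rw [hc])
      exact ((Nat.Prime.coprime_iff_not_dvd (by norm_num)).mpr h7').symm.dvd_of_dvd_mul_right h1
    refine mem_cents _ (Nat.lt_succ_of_le (Nat.le_of_dvd (by norm_num) h864)) h864 ?_
    obtain ⟨R, hR⟩ := exists_mem_sylow hg
    set D := (R : Subgroup N) ⊓ C
    have hd : Nat.card D ∣ 3 ^ 3 := by
      have := card_dvd_of_le (inf_le_left : D ≤ (R : Subgroup N))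
      rwa [card_sylow_three hc R] at this
    have h9 : 9 ∣ Nat.card D := by
      obtain ⟨k, hk, hk'⟩ := (Nat.dvd_prime_pow Nat.prime_three).mp hd
      rw [hk']
      rcases (show k = 0 ∨ k = 1 ∨ 2 ≤ k by omega) with rfl | rfl | hk2
      · exfalso
        have hgD : g ∈ D := ⟨hR, cent_of_comm rfl⟩
        rw [pow_zero, Subgroup.card_eq_one] at hk'
        rw [hk', mem_bot] at hgD
        rw [hgD, orderOf_one] at hg
        norm_num at hg
      · exfalso
        have hgD : g ∈ D := ⟨hR, cent_of_comm rfl⟩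
        have hg1 : g ≠ 1 := fun h => by rw [h, orderOf_one] at hg; norm_num at hg
        rw [pow_one] at hk'
        have hzp := zpowers_eq_of_card_prime hk' hgD hg1
        have hnt : Nontrivial (R : Subgroup N) := by
          rw [← Finite.one_lt_card_iff_nontrivial, card_sylow_three hc R]; norm_num
        haveI := R.2.center_nontrivial
        obtain ⟨⟨c, hcc⟩, hc1⟩ := exists_ne (1 : center (R : Subgroup N))
        have hcD : (c : N) ∈ D := ⟨c.2, cent_of_comm
          (congrArg Subtype.val (mem_center_iff.mp hcc ⟨g, hR⟩)).symm⟩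
        rw [← hzp] at hcD
        have hgc : zpowers (c : N) = zpowers g := by
          refine eq_of_le_of_card_ge (zpowers_le.mpr hcD) ?_
          have hne : (c : N) ≠ 1 := fun h => hc1 (Subtype.ext (Subtype.ext h))
          rw [Nat.card_zpowers, Nat.card_zpowers, hg]
          have := orderOf_of_card_prime (p := 3) (by rw [Nat.card_zpowers, hg]) hcD hne
          rw [this]
        have hRC : (R : Subgroup N) ≤ C := by
          intro x hx
          obtain ⟨n, hn⟩ : g ∈ zpowers (c : N) := hgc ▸ mem_zpowers g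
          refine cent_of_comm ?_
          rw [← hn]
          exact ((show Commute x (c : N) from
            congrArg Subtype.val (mem_center_iff.mp hcc ⟨x, hx⟩)).zpow_right n).eq
        have : D = (R : Subgroup N) := inf_eq_left.mpr hRC
        rw [this, card_sylow_three hc R] at hk'
        norm_num at hk'
      · exact Nat.pow_dvd_pow 3 hk2
    exact h9.trans (card_dvd_of_le inf_le_right)
  -- the square sum
  have hsq : ∀ g : N, ∀ a b : ℤ, (P.χa : N → ℂ) g = a → (P.χb : N → ℂ) g = b →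
      (P.f0 : N → ℂ) g = (a + b - 1 : ℤ) → (P.f1 : N → ℂ) g = (a + b - 1 : ℤ) →
      1 + a * a + b * b + 2 * ((a + b - 1) * (a + b - 1)) ≤
        (Nat.card (centralizer ({g} : Set N)) : ℤ) := by
    intro g a b ha hb hF hF1
    have htriv : ((triv : Cfsg.IrrCharacter N) : N → ℂ) g = 1 := rfl
    let v : Cfsg.IrrCharacter N → ℤ := fun χ =>
      if χ = P.χa then a else if χ = P.χb then b else if χ = triv then 1 else a + b - 1
    have h := sum_sq_le_card_centralizer ({triv, P.χa, P.χb, P.f0, P.f1} : Finset _) v (w := g)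
      (fun χ hχ => by
        simp only [Finset.mem_insert, Finset.mem_singleton] at hχ
        rcases hχ with rfl | rfl | rfl | rfl | rfl <;>
          simp [v, htriv, P.ne_a.symm, P.ne_b.symm, P.ne_ab.symm, P.ne_a0.symm, P.ne_a1.symm,
            P.ne_b0.symm, P.ne_b1.symm, P.ne_0, P.ne_1, ha, hb, hF, hF1])
    rw [Finset.sum_insert (by simp [P.ne_a.symm, P.ne_b.symm, P.ne_0.symm, P.ne_1.symm]),
      Finset.sum_insert (by simp [P.ne_ab, P.ne_a0, P.ne_a1]),
      Finset.sum_insert (by simp [P.ne_b0, P.ne_b1]), Finset.sum_pair P.ne_01] at h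
    simp only [v, if_true, if_neg P.ne_a.symm, if_neg P.ne_b.symm, if_neg P.ne_ab.symm,
      if_neg P.ne_a0.symm, if_neg P.ne_a1.symm, if_neg P.ne_b0.symm, if_neg P.ne_b1.symm,
      if_neg P.ne_0, if_neg P.ne_1] at h
    linarith
  -- the options at each element
  have hopt : ∀ g : N, orderOf g = 3 → ∀ a b : ℤ, (P.χa : N → ℂ) g = a → (P.χb : N → ℂ) g = b →
      (Nat.card (centralizer ({g} : Set N)) = 9 ∧ a = 0 ∧ b = 0) ∨
      ((a = -3 ∧ b = 0 ∨ a = 0 ∧ b = 9) ∧
        5184 - 864 * a * a - 192 * b * b + 162 * (a + b - 1) * (a + b - 1) = 0) := by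
    intro g hg a b ha hb
    obtain ⟨a', b', ha', hb', hF, hF1, r1, r2, r3, r4, r5, r6, r7, r8, r9⟩ := hval g hg
    obtain rfl : a' = a := Int.cast_injective (ha'.symm.trans ha)
    obtain rfl : b' = b := Int.cast_injective (hb'.symm.trans hb)
    have h := pairs_eq hc P ha hb hF hF1 ha hb hF hF1 (one_ne_zero (α := ZMod 7))
    rw [hA, hB, hD, hca, hcb, hη] at h
    push_cast at h
    set C := Nat.card (centralizer ({g} : Set N))
    set n : ℕ := Nat.card {q : N × N // IsConj g q.1 ∧ IsConj g q.2 ∧ q.1 * q.2 = s.zp 1}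
    refine three_options a' (Finset.mem_Ico.mpr ⟨r1, r2⟩) b' (Finset.mem_Ico.mpr ⟨r3, r4⟩) C
      (hcent g hg) r5 r6 r7 r8 r9 (hsq g a' b' ha hb hF hF1) ?_ ⟨(n : ℤ), ?_⟩
    · have hC0 : (0 : ℤ) ≤ (n : ℤ) * ((C : ℤ) * C) * 5184 := by positivity
      linarith
    · linarith
  -- an element of type `(0, 0)` with a product of two conjugates in the Sylow `7`-subgroup
  obtain ⟨u, hu, huC, hua0, hub0⟩ : ∃ u : N, orderOf u = 3 ∧
      Nat.card (centralizer ({u} : Set N)) = 9 ∧ (P.χa : N → ℂ) u = 0 ∧ (P.χb : N → ℂ) u = 0 := by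
    obtain ⟨v, hv⟩ := exists_prime_orderOf_dvd_card' (G := s.auto) 3 (by rw [he])
    obtain ⟨c, hcc⟩ := isConj_iff.mp ((s.mem_auto_iff v.1).mp v.2)
    set w : ZMod 7 := ((v.1 : (ZMod 7)ˣ) : ZMod 7) with hw
    have hw1 : w ≠ 1 := by
      intro h
      have : v = 1 := Subtype.ext (Units.ext h)
      rw [this, orderOf_one] at hv
      norm_num at hv
    -- a power of `c` of order three
    have hcm : c ∈ normalizer ((zpowers s.z : Subgroup N) : Set N) := by
      have hmap : (zpowers s.z).map (MulAut.conj c).toMonoidHom = zpowers s.z := by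
        rw [MonoidHom.map_zpowers]
        show zpowers (c * s.z * c⁻¹) = _
        rw [hcc]
        refine eq_of_le_of_card_ge (zpowers_le.mpr (pow_mem (mem_zpowers _) _)) ?_
        rw [Nat.card_zpowers, Nat.card_zpowers, s.orderOf_z]
        exact (show orderOf (s.zp w) = 7 from orderOf_eq_prime (by
          rw [s.zp_pow, s.zp_eq_one_iff]; simp only [ZMod.natCast_self, mul_zero])
          (fun h => (v.1 : (ZMod 7)ˣ).ne_zero ((s.zp_eq_one_iff _).mp h))).ge
      rw [mem_normalizer_iff]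
      intro x
      constructor
      · intro hx; rw [← hmap]; exact ⟨x, hx, rfl⟩
      · intro hx
        rw [← hmap] at hx
        obtain ⟨y, hy, he'⟩ := hx
        have he2 : c * y * c⁻¹ = c * x * c⁻¹ := he'
        rwa [← mul_left_cancel (mul_right_cancel he2)]
    -- `c ^ 3` centralises `z`
    have hc1 : c * s.zp 1 * c⁻¹ = s.zp w := by rw [s.zp_one]; exact hcc
    have hw3 : w ^ 3 = 1 := by
      have := congrArg (fun x : s.auto => ((x.1 : (ZMod 7)ˣ) : ZMod 7)) (pow_orderOf_eq_one v)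
      rw [hv] at this
      simpa using this
    have hord : orderOf c = 3 := by
      have h3 : c ^ 3 ∈ centralizer ({s.z} : Set N) := by
        apply cent_of_comm
        have e2 := s.conj_zp_mul hc1 w
        rw [one_mul] at e2
        have e3 := s.conj_zp_mul hc1 (w * w)
        rw [one_mul, show w * (w * w) = 1 by rw [← hw3]; ring] at e3
        have : c ^ 3 * s.zp 1 * (c ^ 3)⁻¹ = s.zp 1 := by
          calc c ^ 3 * s.zp 1 * (c ^ 3)⁻¹ = c * (c * (c * s.zp 1 * c⁻¹) * c⁻¹) * c⁻¹ := by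
                simp only [pow_succ, pow_zero, one_mul]; group
            _ = s.zp 1 := by rw [hc1, e2, e3]
        rw [s.zp_one] at this
        exact mul_inv_eq_iff_eq_mul.mp this
      obtain ⟨k, x, hx, hk⟩ := s.exists_of_mem_cent h3
      rw [hK, mem_bot] at hx
      rw [hx, mul_one] at hk
      have hk0 : k = 0 := by
        have hfix : c * s.zp k * c⁻¹ = s.zp k := by rw [← hk]; group
        have h := s.conj_zp_mul hc1 k
        rw [one_mul, hfix] at h
        have h' := s.zp_injective h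
        have h'' : (w - 1) * k = 0 := by linear_combination -h'
        exact (mul_eq_zero.mp h'').resolve_left (sub_ne_zero.mpr hw1)
      rw [hk0, s.zp_zero] at hk
      refine orderOf_eq_prime hk fun h => ?_
      rw [h, one_mul, inv_one, mul_one] at hc1
      exact hw1 (s.zp_injective hc1).symm
    obtain ⟨a, b, ha, hb, hF, hF1, -⟩ := hval c hord
    have hconj : ∀ (χ : Cfsg.IrrCharacter N) (n : ℤ), (χ : N → ℂ) c = n → (χ : N → ℂ) c⁻¹ = n := by
      intro χ n h
      obtain ⟨m, ρ, hρ, hχ⟩ := χ.2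
      rw [← hχ] at h ⊢
      rw [CharCore.character_inv, h, map_intCast]
    have hne : w - 1 ≠ 0 := sub_ne_zero.mpr hw1
    have h := pairs_eq hc P ha hb hF hF1 (hconj _ _ ha) (hconj _ _ hb) (hconj _ _ hF)
      (hconj _ _ hF1) (y' := c⁻¹) hne
    rw [hA, hB, hD, hca, hcb, hη] at h
    push_cast at h
    set n := Nat.card {q : N × N // IsConj c q.1 ∧ IsConj c⁻¹ q.2 ∧ q.1 * q.2 = s.zp (w - 1)}
    have hn : 0 < n := by
      haveI : Nonempty {q : N × N // IsConj c q.1 ∧ IsConj c⁻¹ q.2 ∧ q.1 * q.2 = s.zp (w - 1)} := by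
        refine ⟨⟨(c, s.z * c⁻¹ * s.z⁻¹), IsConj.refl _, isConj_iff.mpr ⟨s.z, rfl⟩, ?_⟩⟩
        show c * (s.z * c⁻¹ * s.z⁻¹) = _
        calc c * (s.z * c⁻¹ * s.z⁻¹) = (c * s.z * c⁻¹) * s.z⁻¹ := by group
          _ = s.zp (w - 1) := by
            rw [hcc, sub_eq_add_neg, s.zp_add, s.zp_neg, s.zp_one]
      exact Nat.card_pos
    have hpos : 0 < 5184 - 864 * a * a - 192 * b * b + 162 * (a + b - 1) * (a + b - 1) := by
      have : (0 : ℤ) < (n : ℤ) * ((Nat.card (centralizer ({c} : Set N)) : ℤ) *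
          Nat.card (centralizer ({c⁻¹} : Set N))) * 5184 := by
        have h1 : (0 : ℤ) < n := by exact_mod_cast hn
        have h2 : (0 : ℤ) < Nat.card (centralizer ({c} : Set N)) := by exact_mod_cast Nat.card_pos
        have h3 : (0 : ℤ) < Nat.card (centralizer ({c⁻¹} : Set N)) := by exact_mod_cast Nat.card_pos
        positivity
      linarith
    rcases hopt c hord a b ha hb with ⟨hC, rfl, rfl⟩ | ⟨-, hq⟩
    · exact ⟨c, hord, hC, by rw [ha]; simp, by rw [hb]; simp⟩
    · omega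
  have hfinal : ∀ g : N, orderOf g = 3 →
      (Nat.card (centralizer ({g} : Set N)) = 9 ∧ (P.χa : N → ℂ) g = 0) ∨
      ((Nat.card (centralizer ({g} : Set N)) = 54 ∨ Nat.card (centralizer ({g} : Set N)) = 108) ∧
        (P.χa : N → ℂ) g = -3) := by
    intro g hg
    obtain ⟨a, b, ha, hb, hF, hF1, -⟩ := hval g hg
    set C := Nat.card (centralizer ({g} : Set N))
    have hsq' := hsq g a b ha hb hF hF1
    rcases hopt g hg a b ha hb with ⟨h9, rfl, rfl⟩ | ⟨hab, -⟩
    · exact Or.inl ⟨h9, by rw [ha]; simp⟩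
    have hFu : (P.f0 : N → ℂ) u = ((-1 : ℤ) : ℂ) ∧ (P.f1 : N → ℂ) u = ((-1 : ℤ) : ℂ) := by
      obtain ⟨hv, hv1⟩ := P.value u (not_conj_zp (hu ▸ pow_orderOf_eq_one u) (by norm_num))
      rw [hua0, hub0, hca, hcb, hη] at hv
      have : (P.f0 : N → ℂ) u = ((-1 : ℤ) : ℂ) := by push_cast at hv ⊢; linear_combination -hv
      exact ⟨this, hv1.trans this⟩
    have h := pairs_eq hc P ha hb hF hF1 (a' := 0) (b' := 0) (by rw [hua0]; simp) (by rw [hub0]; simp)
      hFu.1 hFu.2 (y' := u) (one_ne_zero (α := ZMod 7))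
    rw [hA, hB, hD, hca, hcb, hη, huC] at h
    push_cast at h
    set n := Nat.card {q : N × N // IsConj g q.1 ∧ IsConj u q.2 ∧ q.1 * q.2 = s.zp 1}
    obtain ⟨l1, l2⟩ := large_cent C (hcent g hg)
    rcases hab with ⟨rfl, rfl⟩ | ⟨rfl, rfl⟩
    · refine Or.inr ⟨l1 ?_ ⟨n, ?_⟩, by rw [ha]; simp⟩
      · have : (42 : ℤ) ≤ C := by linarith
        exact_mod_cast this
      · have : (756 : ℤ) = C * n := by linarith
        exact_mod_cast this
    · exfalso
      refine l2 ⟨?_, ⟨n, ?_⟩⟩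
      · have : (210 : ℤ) ≤ C := by linarith
        exact_mod_cast this
      · have : (504 : ℤ) = C * n := by linarith
        exact_mod_cast this
  refine { card_eq := hc, no_nine := fun g => (hs g).1, cent := fun g hg => ?_, few := ?_,
           sylow_seven := h7 }
  · rcases hfinal g hg with ⟨h, -⟩ | ⟨h, -⟩
    · exact Or.inl h
    · exact Or.inr h
  intro R
  have := Fintype.ofFinite (R : Subgroup N)
  have h27 := card_sylow_three hc R
  have h3 : ∀ g : (R : Subgroup N), g ≠ 1 → orderOf (g : N) = 3 := by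
    intro g hg
    have hd := Subgroup.orderOf_dvd_natCard (R : Subgroup N) g.2
    rw [h27, show (27 : ℕ) = 3 ^ 3 from rfl] at hd
    obtain ⟨k, hk, hk'⟩ := (Nat.dvd_prime_pow Nat.prime_three).mp hd
    interval_cases k
    · exact absurd (Subtype.ext (orderOf_eq_one_iff.mp hk')) hg
    · exact hk'
    · exact absurd hk' (hs _).1
    · exact absurd (by rw [orderOf_pow' _ (by norm_num : (3 : ℕ) ≠ 0), hk']; rfl)
        (hs ((g : N) ^ 3)).1
  set T := Finset.univ.filter fun g : (R : Subgroup N) =>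
    g ≠ 1 ∧ Nat.card (centralizer ({(g : N)} : Set N)) ≠ 9 with hT
  have hcard : Nat.card {g : N // g ∈ R ∧ g ≠ 1 ∧ Nat.card (centralizer ({g} : Set N)) ≠ 9} = T.card := by
    rw [← Nat.card_eq_finsetCard]
    refine Nat.card_congr
      { toFun := fun g => ⟨⟨g.1, g.2.1⟩, Finset.mem_filter.mpr ⟨Finset.mem_univ _,
          fun h => g.2.2.1 (congrArg Subtype.val h), g.2.2.2⟩⟩
        invFun := fun g => ⟨g.1.1, g.1.2, fun h => (Finset.mem_filter.mp g.2).2.1 (Subtype.ext h),
          (Finset.mem_filter.mp g.2).2.2⟩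
        left_inv := fun g => rfl
        right_inv := fun g => rfl }
  rw [hcard]
  obtain ⟨k, hk⟩ := exists_sum_subgroup P.χa (R : Subgroup N)
  have hsum : ∑ g : (R : Subgroup N), (P.χa : N → ℂ) g = 6 - 3 * (T.card : ℂ) := by
    rw [← Finset.add_sum_erase _ _ (Finset.mem_univ (1 : (R : Subgroup N))), OneMemClass.coe_one,
      (deg_spec P.χa).2.2, hA,
      Finset.sum_congr rfl (g := fun g => if g ∈ T then (-3 : ℂ) else 0) (fun g hg => ?_),
      Finset.sum_ite_mem, Finset.inter_eq_right.mpr (fun g hg => Finset.mem_erase.mpr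
        ⟨(Finset.mem_filter.mp hg).2.1, Finset.mem_univ _⟩), Finset.sum_const, nsmul_eq_mul]
    · push_cast; ring
    · have hg1 := Finset.ne_of_mem_erase hg
      rcases hfinal g (h3 g hg1) with ⟨h, he⟩ | ⟨h, he⟩
      · rw [he, if_neg (fun hm => (Finset.mem_filter.mp hm).2.2 h)]
      · rw [he, if_pos (Finset.mem_filter.mpr ⟨Finset.mem_univ _, hg1, by omega⟩)]
  rw [hsum, h27] at hk
  have : (6 : ℤ) - 3 * (T.card : ℤ) = 27 * (k : ℤ) := by exact_mod_cast hk
  omega

/-- A simple group of order `6048` without elements of order `9`, `14`, `21`. -/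
theorem localHyp [IsSimpleGroup N] (hc : Nat.card N = 6048) (hs : NoBig N) : LocalHyp N := by
  classical
  have hna : ¬ IsMulCommutative N := by
    intro h
    have hp := @IsSimpleGroup.prime_card N { (inferInstance : Group N) with mul_comm := isMulCommutative_iff.mp h } _
    rw [hc] at hp
    norm_num at hp
  obtain ⟨P7⟩ : Nonempty (Sylow 7 N) := inferInstance
  obtain ⟨s, hK, hz, hN, he, h288⟩ := auto_eq_three hs hc P7
  rw [← hz] at hN
  obtain ⟨P⟩ := exists_principal hc s hK he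
  have hnt : ∀ χ : Cfsg.IrrCharacter N, χ ≠ triv → 2 ≤ deg χ := fun χ h => by
    have h1 := (deg_spec χ).1
    have h2 : deg χ ≠ 1 := fun e => h ((deg_eq_one_iff hna χ).mp e)
    omega
  have hle : ∀ χ : Cfsg.IrrCharacter N, deg χ * deg χ ≤ 6048 → deg χ < 78 := fun χ h => by
    by_contra hh
    have := Nat.mul_le_mul (not_lt.mp hh) (not_lt.mp hh)
    omega
  have hsum := P.sum_sq
  have hA := mem_divs _ (hle P.χa (by omega)) P.dvd_a (hnt _ P.ne_a)
  have hB := mem_divs _ (hle P.χb (by omega)) P.dvd_b (hnt _ P.ne_b)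
  have hD := mem_divs _ (hle P.f0 (by omega)) P.dvd_f (hnt _ P.ne_0)
  have hsign : ∀ {x : ℤ}, x = 1 ∨ x = -1 → x ∈ [(1 : ℤ), -1] := fun h => by
    rcases h with rfl | rfl <;> simp
  rcases degree_cases _ hA _ hB _ hD _ (hsign P.ca_eq) _ (hsign P.cb_eq) _ (hsign P.η_eq)
    P.congr_a P.congr_b P.congr_f P.degree_eq hsum with
    ⟨a, b, c, d, e, f⟩ | ⟨a, b, c, d, e, f⟩ | ⟨a, b, c, d, e, f⟩ | ⟨a, b, c, d, e, f⟩ |
      ⟨a, b, c, d, e, f⟩ | ⟨a, b, c, d, e, f⟩
  · exact localHyp_of_six hc hs s hK he h288 P a b c d e f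
  · exact localHyp_of_six hc hs s hK he h288 P.swap c d a b e f
  · exact (false_of_three hc (fun g => (hs g).1) s P a b c d e f).elim
  · exact (false_of_three hc (fun g => (hs g).1) s P.swap c d a b e f).elim
  · exact (false_of_eight hna hc s hN P a b c d e f).elim
  · exact (false_of_eight hna hc s hN P.swap c d a b e f).elim

/-- Simple groups of order `6048` without elements of order `9`, `14`, `21` are all isomorphic. -/
theorem nonempty_equiv_target [IsSimpleGroup N] (hc : Nat.card N = 6048) (hs : NoBig N) :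
    Nonempty (N ≃* target) := by
  obtain ⟨M⟩ := (localHyp hc hs).nonempty_model
  exact M.nonempty_equiv

end Cfsg.Agent.U33Uniq31
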