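import Cfsg.Agent.U33Uniq31.Reduce
import Cfsg.Agent.U33Uniq31.Simple
import Cfsg.Agent.U33Uniq31.AutBound

/-!
A group of order `12096` without elements of order `9`, `14`, `21` is the automorphism group of `U₃(3)`.
-/

set_option autoImplicit false

namespace Cfsg.Agent.U33Uniq31

open Subgroup

theorem nonempty_equiv_mulAut_target {G : Type*} [Group G] [Finite G] (hc : Nat.card G = 12096)
    (hs : NoBig G) : Nonempty (G ≃* MulAut target) := by
  classical
  obtain ⟨N, hN, hsimple, hcard, hcent⟩ := exists_simple_normal hs hc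
  have := Fintype.ofFinite N
  have hsN : NoBig N := hs.of_injective N.subtype Subtype.coe_injective
  obtain ⟨M⟩ := (localHyp hcard hsN).nonempty_model
  obtain ⟨e⟩ := M.nonempty_equiv
  haveI : Finite (MulAut N) := Finite.of_injective (fun α : MulAut N => (α : N → N))
    (fun a b h => MulEquiv.ext (congrFun h))
  set φ : G →* MulAut N := MulAut.conjNormal
  have hinj : Function.Injective φ := by
    rw [← MonoidHom.ker_eq_bot_iff, eq_bot_iff, ← hcent]
    intro x hx
    rw [mem_centralizer_iff]
    intro y hy
    have := congrArg Subtype.val (DFunLike.congr_fun (MonoidHom.mem_ker.mp hx) ⟨y, hy⟩)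
    rw [MulAut.conjNormal_apply] at this
    exact (mul_inv_eq_iff_eq_mul.mp this).symm
  have hbij : Function.Bijective φ := (Nat.bijective_iff_injective_and_card φ).mpr
    ⟨hinj, le_antisymm (Nat.card_le_card_of_injective φ hinj) (hc.symm ▸ M.card_mulAut_le hcard)⟩
  exact ⟨(MulEquiv.ofBijective φ hbij).trans (MulAut.congr e)⟩

end Cfsg.Agent.U33Uniq31
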