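import Mathlib

/-!
Arithmetic of the character data of a simple group of order `6048`.
-/

set_option autoImplicit false
set_option synthInstance.maxSize 4000
set_option synthInstance.maxHeartbeats 200000
set_option maxHeartbeats 2000000

namespace Cfsg.Agent.U33Uniq31

/-- the proper divisors of `864` up to `77` -/
def divs : List ℕ := [2, 3, 4, 6, 8, 9, 12, 16, 18, 24, 27, 32, 36, 48, 54, 72]

theorem mem_divs : ∀ A < 78, A ∣ 864 → 2 ≤ A → A ∈ divs := by decide +kernel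

theorem degree_cases : ∀ A ∈ divs, ∀ B ∈ divs, ∀ b ∈ divs,
    ∀ ca ∈ [(1 : ℤ), -1], ∀ cb ∈ [(1 : ℤ), -1], ∀ η ∈ [(1 : ℤ), -1],
    (7 : ℤ) ∣ (A : ℤ) + ca → (7 : ℤ) ∣ (B : ℤ) + cb → (7 : ℤ) ∣ (b : ℤ) - 3 * η →
    -1 + ca * A + cb * B + η * b = 0 → 1 + A * A + B * B + 2 * (b * b) ≤ 6048 →
    (A = 6 ∧ ca = 1 ∧ B = 27 ∧ cb = 1 ∧ b = 32 ∧ η = -1) ∨
    (A = 27 ∧ ca = 1 ∧ B = 6 ∧ cb = 1 ∧ b = 32 ∧ η = -1) ∨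
    (A = 6 ∧ ca = 1 ∧ B = 8 ∧ cb = -1 ∧ b = 3 ∧ η = 1) ∨
    (A = 8 ∧ ca = -1 ∧ B = 6 ∧ cb = 1 ∧ b = 3 ∧ η = 1) ∨
    (A = 8 ∧ ca = -1 ∧ B = 27 ∧ cb = 1 ∧ b = 18 ∧ η = -1) ∨
    (A = 27 ∧ ca = 1 ∧ B = 8 ∧ cb = -1 ∧ b = 18 ∧ η = -1) := by
  decide +kernel

theorem no_involution : ∀ a ∈ Finset.Ico (-7 : ℤ) 8, ∀ b ∈ Finset.Ico (-26 : ℤ) 27,
    (4 : ℤ) ∣ 8 - a → (4 : ℤ) ∣ 27 - b → (4 : ℤ) ∣ 18 - (b - a - 1) →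
    216 + 27 * a * a - 8 * b * b + 12 * (b - a - 1) * (b - a - 1) ≠ 0 := by
  decide +kernel

/-- the multiples of nine dividing `864` -/
def cents : List ℕ := [9, 18, 27, 36, 54, 72, 108, 144, 216, 288, 432, 864]

theorem mem_cents : ∀ C < 865, C ∣ 864 → 9 ∣ C → C ∈ cents := by decide +kernel

theorem three_options : ∀ a ∈ Finset.Ico (-3 : ℤ) 6, ∀ b ∈ Finset.Ico (-13 : ℤ) 27, ∀ C ∈ cents,
    (3 : ℤ) ∣ 6 - a → (3 : ℤ) ∣ 27 - b → (3 : ℤ) ∣ 32 - (a + b - 1) →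
    a + b - 1 < 32 → -32 ≤ 2 * (a + b - 1) →
    1 + a * a + b * b + 2 * ((a + b - 1) * (a + b - 1)) ≤ (C : ℤ) →
    0 ≤ 5184 - 864 * a * a - 192 * b * b + 162 * (a + b - 1) * (a + b - 1) →
    (C : ℤ) * C * 5184 ∣ 6048 * (5184 - 864 * a * a - 192 * b * b + 162 * (a + b - 1) * (a + b - 1)) →
    (C = 9 ∧ a = 0 ∧ b = 0) ∨
      ((a = -3 ∧ b = 0 ∨ a = 0 ∧ b = 9) ∧
        5184 - 864 * a * a - 192 * b * b + 162 * (a + b - 1) * (a + b - 1) = 0) := by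
  decide +kernel

theorem large_cent : ∀ C ∈ cents, (42 ≤ C → C ∣ 756 → C = 54 ∨ C = 108) ∧ ¬ (210 ≤ C ∧ C ∣ 504) := by
  decide +kernel

end Cfsg.Agent.U33Uniq31
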