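import Mathlib

/-!
Tables for the action of `U₃(3)` on its twenty eight Sylow `3`-subgroups. Point `9 a + 3 b + c` stands for
`u ^ a * v ^ b * z ^ c`, point `27` for the fixed subgroup; `h` maps `u ↦ v ↦ u v` and inverts `z`.
-/

set_option autoImplicit false

namespace Cfsg.Agent.U33Uniq31

/-- five bit lookup -/
def get (L x : ℕ) : ℕ := Nat.shiftRight L (5 * x) % 32

def hpTab : ℕ → ℕ
  | 0 => 1212501494925312236363414443023805295200288
  | 1 => 1208244791084202729220720019251052589483072
  | 2 => 1191425770517118580089191437879606565701664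
  | 3 => 1181677639781814272313372727880848576709696
  | 4 => 1195641228013501135391970086540750298023968
  | 5 => 1197136736875706356944153934371111391986752
  | 6 => 1201392411662062100056126893193133821724704
  | _ => 1184492129966511058533732120700917734736960

/-- the powers of `h` -/
def hpN (i x : ℕ) : ℕ := get (hpTab i) x

/-- the product in the Heisenberg group -/
def mulN (i j : ℕ) : ℕ :=
  (i / 9 + j / 9) % 3 * 9 + (i / 3 + j / 3) % 3 * 3 + (i + j + 2 * (j / 9) * (i / 3)) % 3

/-- translations -/
def trN (s x : ℕ) : ℕ := if x = 27 then 27 else mulN s x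

/-- the orbit among `3`, `4`, `5` under `h` -/
def orbN (x : ℕ) : ℕ := get 1446241681455036760327784174507413995520 x

/-- the position in the orbit -/
def posN (x : ℕ) : ℕ := get 7025227223732280836539075167740212805632 x

/-- the swapping element found by the search -/
def w0N (x : ℕ) : ℕ := get 13162378597604116090196671200465690691643 x

/-- a candidate for the swapping element -/
def wN (e k1 k2 k3 x : ℕ) : ℕ :=
  if x = 27 then 0 else if x = 0 then 27 else if x < 3 then x
  else hpN (e * posN x % 8) (if orbN x = 0 then k1 else if orbN x = 1 then k2 else k3)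

/-- the relation at the central point `1` -/
def condC (W : ℕ → ℕ) : Bool :=
  (List.range 8).any fun j => (List.range 28).all fun x =>
    Nat.beq (W (trN 1 (W x))) (trN 1 (W (trN 2 (hpN j x))))

/-- the relation at the point `3` -/
def condR (W : ℕ → ℕ) : Bool :=
  (List.range 27).any fun a => (List.range 8).any fun j => (List.range 28).all fun x =>
    Nat.beq (W (trN 3 (W x))) (trN (W 3) (W (trN a (hpN j x))))

/-- `W` is `w0N` times a power of `h` -/
def good (W : ℕ → ℕ) : Bool :=
  (List.range 8).any fun j => (List.range 28).all fun x => Nat.beq (W x) (w0N (hpN j x))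

/-- the search, for the exponent `e` and the image `k1` of the first representative -/
def search (e k1 : ℕ) : Bool :=
  (List.range 24).all fun k2 => Nat.beq (orbN k1) (orbN (k2 + 3)) ||
    (List.range 24).all fun k3 =>
      (Nat.beq (orbN k1) (orbN (k3 + 3)) || Nat.beq (orbN (k2 + 3)) (orbN (k3 + 3))) ||
        (!(condC (wN e k1 (k2 + 3) (k3 + 3)) && condR (wN e k1 (k2 + 3) (k3 + 3))) ||
          good (wN e k1 (k2 + 3) (k3 + 3)))

theorem tables_ok : ∀ x : Fin 28, ∀ i : Fin 8,
    hpN i x < 28 ∧ hpN 0 x = x ∧ hpN i 27 = 27 ∧ hpN i 0 = 0 ∧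
    hpN 1 (hpN i x) = hpN ((i + 1) % 8 : ℕ) x ∧
    (hpN 2 x = x → x.val = 27 ∨ x.val < 3) ∧ (hpN 6 x = x → x.val = 27 ∨ x.val < 3) ∧
    (2 < x.val → x.val ≠ 27 → orbN x < 3 ∧ posN x < 8 ∧
      hpN (posN x) (orbN x + 3) = x.val ∧ orbN (hpN i x) = orbN x) := by
  decide +kernel

theorem search_ok : ∀ e : Fin 4, ∀ k1 : Fin 24, search (2 * e + 1) (k1 + 3) = true := by
  decide +kernel

end Cfsg.Agent.U33Uniq31
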