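import Cfsg.Agent.U33Uniq31.Normalizer
import Cfsg.Agent.U33Uniq31.Table

/-!
Coordinates on a Sylow `3`-subgroup adapted to an element of order `8` of its normaliser.
-/

set_option autoImplicit false

namespace Cfsg.Agent.U33Uniq31

open Subgroup

/-- Powers in the coordinates. -/
def powN : ℕ → ℕ → ℕ
  | _, 0 => 0
  | i, n + 1 => mulN (powN i n) i

/-- `u ^ a * v ^ b * z ^ c` at `9 a + 3 b + c`. -/
def coord {N : Type*} [Group N] (u v z : N) (i : ℕ) : N := u ^ (i / 9) * v ^ (i / 3 % 3) * z ^ (i % 3)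

section Heisenberg

variable {N : Type*} [Group N] {u v z : N}

theorem move_pow (hz : Commute z u) (hzv : Commute z v) (hvu : v * u = u * v * z ^ 2) (b a : ℕ) :
    v ^ b * u ^ a = u ^ a * v ^ b * z ^ (2 * a * b) := by
  have h1 : ∀ b, v ^ b * u = u * v ^ b * z ^ (2 * b) := by
    intro b
    induction b with
    | zero => simp
    | succ b ih =>
      calc v ^ (b + 1) * u = v ^ b * (v * u) := by rw [pow_succ, mul_assoc]
        _ = v ^ b * u * (v * z ^ 2) := by rw [hvu]; group
        _ = u * v ^ b * (z ^ (2 * b) * v) * z ^ 2 := by rw [ih]; group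
        _ = u * v ^ b * (v * z ^ (2 * b)) * z ^ 2 := by rw [(hzv.pow_left (2 * b)).eq]
        _ = u * v ^ (b + 1) * z ^ (2 * (b + 1)) := by rw [pow_succ, mul_add, pow_add]; group
  induction a with
  | zero => simp
  | succ a ih =>
    calc v ^ b * u ^ (a + 1) = v ^ b * u ^ a * u := by rw [pow_succ, mul_assoc]
      _ = u ^ a * v ^ b * (z ^ (2 * a * b) * u) := by rw [ih]; group
      _ = u ^ a * v ^ b * (u * z ^ (2 * a * b)) := by rw [(hz.pow_left (2 * a * b)).eq]
      _ = u ^ a * (v ^ b * u) * z ^ (2 * a * b) := by group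
      _ = u ^ a * u * v ^ b * (z ^ (2 * b) * z ^ (2 * a * b)) := by rw [h1]; group
      _ = u ^ (a + 1) * v ^ b * z ^ (2 * (a + 1) * b) := by
        rw [← pow_succ, ← pow_add]; congr 2; ring

theorem coord_mul (hz : Commute z u) (hzv : Commute z v) (hvu : v * u = u * v * z ^ 2)
    (h3u : u ^ 3 = 1) (h3v : v ^ 3 = 1) (h3z : z ^ 3 = 1) (i j : ℕ) :
    coord u v z i * coord u v z j = coord u v z (mulN i j) := by
  have e1 : mulN i j / 9 = (i / 9 + j / 9) % 3 := by unfold mulN; omega
  have e2 : mulN i j / 3 % 3 = (i / 3 + j / 3) % 3 := by unfold mulN; omega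
  have e3 : mulN i j % 3 = (i + j + 2 * (j / 9) * (i / 3)) % 3 := by unfold mulN; omega
  have r : ∀ {x : N}, x ^ 3 = 1 → ∀ m n : ℕ, m % 3 = n % 3 → x ^ m = x ^ n := fun h m n hmn => by
    rw [pow_eq_pow_mod m h, pow_eq_pow_mod n h, hmn]
  unfold coord
  rw [e1, e2, e3]
  set a := i / 9
  set b := i / 3 % 3
  set c := i % 3
  set a' := j / 9
  set b' := j / 3 % 3
  set c' := j % 3
  calc u ^ a * v ^ b * z ^ c * (u ^ a' * v ^ b' * z ^ c')
      = u ^ a * v ^ b * (z ^ c * u ^ a') * v ^ b' * z ^ c' := by group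
    _ = u ^ a * v ^ b * (u ^ a' * z ^ c) * v ^ b' * z ^ c' := by rw [(hz.pow_pow c a').eq]
    _ = u ^ a * (v ^ b * u ^ a') * (z ^ c * v ^ b') * z ^ c' := by group
    _ = u ^ a * (u ^ a' * v ^ b * z ^ (2 * a' * b)) * (v ^ b' * z ^ c) * z ^ c' := by
        rw [move_pow hz hzv hvu, (hzv.pow_pow c b').eq]
    _ = u ^ (a + a') * v ^ b * (z ^ (2 * a' * b) * v ^ b') * (z ^ c * z ^ c') := by
        rw [pow_add]; group
    _ = u ^ (a + a') * v ^ b * (v ^ b' * z ^ (2 * a' * b)) * (z ^ c * z ^ c') := by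
        rw [(hzv.pow_pow (2 * a' * b) b').eq]
    _ = u ^ (a + a') * (v ^ b * v ^ b') * (z ^ (2 * a' * b) * (z ^ c * z ^ c')) := by group
    _ = u ^ (a + a') * v ^ (b + b') * z ^ (2 * a' * b + (c + c')) := by rw [← pow_add, ← pow_add, ← pow_add]
    _ = _ := by
        rw [r h3u (a + a') ((a + a') % 3) (by simp),
          r h3v (b + b') ((i / 3 + j / 3) % 3) (by simp only [b, b']; omega),
          r h3z (2 * a' * b + (c + c')) ((i + j + 2 * (j / 9) * (i / 3)) % 3) (by
            simp only [b, c, c', a']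
            have h := Nat.mul_mod (2 * (j / 9)) (i / 3) 3
            have h' := Nat.mul_mod (2 * (j / 9)) (i / 3 % 3) 3
            rw [Nat.mod_mod] at h'
            omega)]

theorem coord_pow (hz : Commute z u) (hzv : Commute z v) (hvu : v * u = u * v * z ^ 2)
    (h3u : u ^ 3 = 1) (h3v : v ^ 3 = 1) (h3z : z ^ 3 = 1) (i n : ℕ) :
    coord u v z i ^ n = coord u v z (powN i n) := by
  induction n with
  | zero => simp [powN, coord]
  | succ n ih => rw [pow_succ, ih, coord_mul hz hzv hvu h3u h3v h3z]; rfl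

end Heisenberg

namespace LocalHyp

variable {N : Type*} [Group N] [Finite N] (H : LocalHyp N)
include H

/-- A nontrivial `2`-element of the normaliser moves every nontrivial coset of the centre. -/
theorem not_fix_coset {R : Sylow 3 N} {x g : N} (hx : x ∈ normalizer (R : Set N))
    (hx2 : ∃ k, x ^ 2 ^ k = 1) (hx1 : x ≠ 1) (hg : g ∈ R) (hgZ : g ∉ ctr (R : Subgroup N)) :
    g⁻¹ * (x * g * x⁻¹) ∉ ctr (R : Subgroup N) := by
  intro hmem
  set Z := ctr (R : Subgroup N)
  obtain ⟨z1, hz1, he⟩ : ∃ z1 ∈ Z, x * g * x⁻¹ = g * z1 :=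
    ⟨_, hmem, by rw [mul_inv_cancel_left]⟩
  -- a coset element commuting with `x`
  suffices h : ∃ h ∈ (R : Subgroup N), h ∉ Z ∧ x * h * x⁻¹ = h by
    obtain ⟨h, hhR, hhZ, hfix⟩ := h
    have h1 := Subgroup.orderOf_dvd_natCard _ (conj_mem_cent (x := x) hfix)
    rw [H.cent_eq_nine hhR hhZ] at h1
    obtain ⟨k, hk⟩ := hx2
    obtain ⟨j, -, hj⟩ := (Nat.dvd_prime_pow Nat.prime_two).mp (orderOf_dvd_of_pow_eq_one hk)
    rw [hj] at h1
    have h2 : Nat.Coprime (2 ^ j) 9 := Nat.Coprime.pow_left j (by norm_num)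
    have h3 := h2.eq_one_of_dvd h1
    rw [h3] at hj
    exact hx1 (orderOf_eq_one_iff.mp hj)
  by_cases h1 : z1 = 1
  · exact ⟨g, hg, hgZ, by rw [he, h1, mul_one]⟩
  have hc := conj_ctr hx hz1
  have h3 : z1 ^ 3 = 1 := H.pow_three (R := R) hz1.1
  rcases mem_three (H.card_ctr R) hz1 h1 hc with h | h | h
  · exact absurd (conj_eq_one_iff.mp h) h1
  · -- `x` centralises `z1`
    exfalso
    have hpow : ∀ n : ℕ, x ^ n * g * (x ^ n)⁻¹ = g * z1 ^ n := by
      intro n
      induction n with
      | zero => simp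
      | succ n ih =>
        calc x ^ (n + 1) * g * (x ^ (n + 1))⁻¹ = x * (x ^ n * g * (x ^ n)⁻¹) * x⁻¹ := by
              rw [pow_succ']; group
          _ = x * g * x⁻¹ * (x * z1 ^ n * x⁻¹) := by rw [ih]; group
          _ = g * z1 * z1 ^ n := by rw [he, ← conj_pow, h]
          _ = g * z1 ^ (n + 1) := by rw [pow_succ', mul_assoc]
    obtain ⟨k, hk⟩ := hx2
    have h4 := hpow (2 ^ k)
    rw [hk] at h4
    simp at h4
    have h5 := orderOf_dvd_of_pow_eq_one h4
    rw [H.orderOf_three (R := R) hz1.1 h1] at h5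
    have h6 := Nat.prime_three.dvd_of_dvd_pow h5
    norm_num at h6
  · refine ⟨g * (z1 * z1), mul_mem hg (mul_mem hz1.1 hz1.1),
      fun hmem => hgZ ((mul_mem_cancel_right (mul_mem hz1 hz1)).mp hmem), ?_⟩
    calc x * (g * (z1 * z1)) * x⁻¹
        = x * g * x⁻¹ * (x * z1 * x⁻¹) * (x * z1 * x⁻¹) := by group
      _ = g * (z1 * z1) * (z1 ^ 3) := by rw [he, h]; simp only [pow_succ, pow_zero, one_mul]; group
      _ = g * (z1 * z1) := by rw [h3, mul_one]

/-- An element of order `8` of the normaliser inverting the centre. -/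
theorem exists_eight (R : Sylow 3 N) : ∃ s : N, s ∈ normalizer (R : Set N) ∧ orderOf s = 8 ∧
    (∀ z ∈ ctr (R : Subgroup N), s * z * s⁻¹ = z⁻¹) ∧
    (∀ g ∈ (R : Subgroup N), s ^ 4 * g * (s ^ 4)⁻¹ * g ∈ ctr (R : Subgroup N)) := by
  classical
  haveI : Fact (Nat.Prime 2) := ⟨Nat.prime_two⟩
  obtain ⟨w, hw, hw1⟩ := exists_ne_of_card_three (H.card_ctr R)
  obtain ⟨hC, hN⟩ := H.card_normalizer R hw hw1
  set Nr := normalizer (R : Set N) with hNr
  obtain ⟨S, hS⟩ := Sylow.exists_subgroup_card_pow_prime (G := Nr) 2 (n := 3)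
    (by rw [hN]; norm_num)
  have hpow : ∀ x : Nr, x ∈ S → ∃ k, (x : N) ^ 2 ^ k = 1 := by
    intro x hx
    refine ⟨3, ?_⟩
    have := pow_card_eq_one' (x := (⟨x, hx⟩ : S))
    rw [hS] at this
    exact congrArg (fun y : S => ((y : Nr) : N)) this
  -- involutions invert modulo the centre
  have hinv : ∀ i : Nr, i ∈ S → i ^ 2 = 1 → i ≠ 1 → ∀ g ∈ (R : Subgroup N),
      (i : N) * g * (i : N)⁻¹ * g ∈ ctr (R : Subgroup N) := by
    intro i hiS hi hi1 g hg
    have hi' : (i : N) * i = 1 := by rw [← sq]; exact congrArg (fun y : Nr => (y : N)) hi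
    have hii : (i : N)⁻¹ = i := inv_eq_of_mul_eq_one_right hi'
    set g' := (i : N) * g * (i : N)⁻¹ with hg'
    have hg'R : g' ∈ (R : Subgroup N) := (mem_normalizer_iff.mp i.2 g).mp hg
    by_contra hgg
    refine H.not_fix_coset i.2 (hpow i hiS) (fun h => hi1 (Subtype.ext h)) (mul_mem hg'R hg) hgg ?_
    have e : (i : N) * (g' * g) * (i : N)⁻¹ = g * g' := by
      simp only [hg', hii]
      calc (i : N) * (i * g * i * g) * i = (i * i) * g * (i * g * i) := by group
        _ = g * (i * g * i) := by rw [hi', one_mul]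
    rw [e]
    -- the quotient by the centre is commutative
    set Z := (ctr (R : Subgroup N)).subgroupOf (R : Subgroup N) with hZdef
    haveI : Z.Normal := ⟨fun n hn x => by
      rw [hZdef, mem_subgroupOf] at hn ⊢
      have := conj_ctr (le_normalizer x.2 : (x : N) ∈ normalizer ((R : Subgroup N) : Set N)) hn
      simpa using this⟩
    have hZ : Nat.card Z = 3 := by
      rw [Nat.card_congr (subgroupOfEquivOfLe (ctr_le _)).toEquiv, H.card_ctr R]
    have hq : Nat.card ((R : Subgroup N) ⧸ Z) = 3 ^ 2 := by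
      have := Z.card_mul_index
      rw [hZ, card_sylow_three H.card_eq R] at this
      rw [← Subgroup.index_eq_card]
      omega
    haveI : Fact (Nat.Prime 3) := ⟨Nat.prime_three⟩
    have hab := isMulCommutative_iff.mp (IsPGroup.isMulCommutative_of_card_eq_prime_sq hq)
      (QuotientGroup.mk (⟨g', hg'R⟩ : (R : Subgroup N))) (QuotientGroup.mk ⟨g, hg⟩)
    rw [← QuotientGroup.mk_mul, ← QuotientGroup.mk_mul, QuotientGroup.eq, hZdef, mem_subgroupOf] at hab
    simpa using hab
  have huniq : ∀ i j : Nr, i ∈ S → j ∈ S → i ^ 2 = 1 → j ^ 2 = 1 → i ≠ 1 → j ≠ 1 → i = j := by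
    intro i j hiS hjS hi hj hi1 hj1
    obtain ⟨g, hg, hgZ⟩ : ∃ g ∈ (R : Subgroup N), g ∉ ctr (R : Subgroup N) := by
      by_contra h
      push_neg at h
      have := card_le_of_le (H := (R : Subgroup N)) (K := ctr (R : Subgroup N)) h
      rw [card_sylow_three H.card_eq R, H.card_ctr R] at this
      omega
    by_contra hij
    have hji : j⁻¹ * i ≠ 1 := fun h => hij (inv_mul_eq_one.mp h).symm
    refine H.not_fix_coset (j⁻¹ * i).2 (hpow _ (mul_mem (inv_mem hjS) hiS))
      (fun h => hji (Subtype.ext h)) hg hgZ ?_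
    have hA := hinv i hiS hi hi1 g hg
    have hB := hinv j hjS hj hj1 g hg
    -- both sides are `g⁻¹` modulo the centre
    set A := (i : N) * g * (i : N)⁻¹ * g
    set B := (j : N) * g * (j : N)⁻¹ * g
    have e : g⁻¹ * (((j⁻¹ * i : Nr) : N) * g * ((j⁻¹ * i : Nr) : N)⁻¹) =
        g⁻¹ * ((j : N)⁻¹ * (A * B⁻¹) * (j : N) * g) := by
      simp only [A, B, Subgroup.coe_mul, Subgroup.coe_inv]
      group
    rw [e]
    have h1 : (j : N)⁻¹ * (A * B⁻¹) * (j : N) ∈ ctr (R : Subgroup N) := by
      have := conj_ctr (inv_mem j.2) (mul_mem hA (inv_mem hB))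
      simpa using this
    rw [ctr_comm h1 hg |>.symm, inv_mul_cancel_left]
    exact h1
  -- an element of `S` outside the centraliser of `w`
  obtain ⟨s, hsS, hsw⟩ : ∃ s : Nr, s ∈ S ∧ (s : N) ∉ centralizer ({w} : Set N) := by
    by_contra h
    push_neg at h
    have hle : S.map Nr.subtype ≤ centralizer ({w} : Set N) := by
      rintro _ ⟨x, hx, rfl⟩
      exact h x hx
    have := card_dvd_of_le hle
    rw [card_map_of_injective Nr.subtype_injective, hS, hC] at this
    norm_num at this
  have hctr : ∀ x : Nr, ∀ z ∈ ctr (R : Subgroup N),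
      (x : N) * z * (x : N)⁻¹ = z ∨ (x : N) * z * (x : N)⁻¹ = z⁻¹ := by
    intro x z hz
    by_cases hz1 : z = 1
    · simp [hz1]
    rcases mem_three (H.card_ctr R) hz hz1 (conj_ctr x.2 hz) with h | h | h
    · exact absurd (conj_eq_one_iff.mp h) hz1
    · exact Or.inl h
    · refine Or.inr (h.trans ?_)
      rw [eq_inv_iff_mul_eq_one, ← pow_two, ← pow_succ]
      exact H.pow_three (R := R) hz.1
  have hsz : ∀ z ∈ ctr (R : Subgroup N), (s : N) * z * (s : N)⁻¹ = z⁻¹ := by
    intro z hz
    have hsw' : (s : N) * w * (s : N)⁻¹ = w⁻¹ :=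
      (hctr s w hw).resolve_left fun h => hsw (conj_mem_cent (x := (s : N)) h)
    rcases mem_three (H.card_ctr R) hw hw1 hz with rfl | rfl | rfl
    · simp
    · exact hsw'
    · rw [mul_inv_rev, ← hsw']; group
  have hsq : ∀ x : Nr, ((x ^ 2 : Nr) : N) ∈ centralizer ({w} : Set N) := by
    intro x
    refine conj_mem_cent (x := ((x ^ 2 : Nr) : N)) ?_
    have e : ((x ^ 2 : Nr) : N) * w * ((x ^ 2 : Nr) : N)⁻¹ =
        (x : N) * ((x : N) * w * (x : N)⁻¹) * (x : N)⁻¹ := by
      rw [Subgroup.coe_pow, pow_two]; group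
    rw [e]
    rcases hctr x w hw with h | h <;> rw [h]
    · exact h
    · have := congrArg (·⁻¹) h
      simpa [mul_assoc] using this
  have ho8 : orderOf s = 8 := by
    have hd : orderOf s ∣ 2 ^ 3 := hS ▸ Subgroup.orderOf_dvd_natCard S hsS
    obtain ⟨k, hk, hk'⟩ := (Nat.dvd_prime_pow Nat.prime_two).mp hd
    interval_cases k
    · exfalso
      rw [pow_zero, orderOf_eq_one_iff] at hk'
      exact hsw (hk' ▸ one_mem _)
    · exfalso
      obtain ⟨t, htS, ht⟩ : ∃ t : Nr, t ∈ S ∧ t ∉ zpowers s := by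
        by_contra h
        push_neg at h
        have := card_le_of_le (H := S) (K := zpowers s) h
        rw [hS, Nat.card_zpowers, hk'] at this
        norm_num at this
      have hs1 : s ≠ 1 := fun h => by rw [h, orderOf_one] at hk'; norm_num at hk'
      have hs2 : s ^ 2 = 1 := by
        have := pow_orderOf_eq_one s
        rwa [hk'] at this
      have ht2 : t ^ 2 ≠ 1 := by
        intro h2
        by_cases ht1 : t = 1
        · exact ht (ht1 ▸ one_mem _)
        · exact ht (huniq t s htS hsS h2 hs2 ht1 hs1 ▸ mem_zpowers s)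
      have ht8 : t ^ 8 = 1 := by
        have := pow_card_eq_one' (x := (⟨t, htS⟩ : S))
        rw [hS] at this
        exact congrArg Subtype.val this
      by_cases h4 : t ^ 4 = 1
      · refine hsw ?_
        rw [huniq s (t ^ 2) hsS (pow_mem htS 2) hs2 (by rw [← pow_mul]; exact h4) hs1 ht2]
        exact hsq t
      · refine hsw ?_
        rw [huniq s ((t ^ 2) ^ 2) hsS (pow_mem (pow_mem htS 2) 2) hs2
          (by rw [← pow_mul, ← pow_mul]; exact ht8) hs1 (by rw [← pow_mul]; exact h4)]
        exact hsq _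
    · exfalso
      have hs4 : s ^ 4 = 1 := by
        have := pow_orderOf_eq_one s
        rwa [hk'] at this
      have hs2 : s ^ 2 ≠ 1 := fun h => by
        have := orderOf_dvd_of_pow_eq_one h
        rw [hk'] at this
        norm_num at this
      obtain ⟨g, hg, hgZ⟩ : ∃ g ∈ (R : Subgroup N), g ∉ ctr (R : Subgroup N) := by
        by_contra h
        push_neg at h
        have := card_le_of_le (H := (R : Subgroup N)) (K := ctr (R : Subgroup N)) h
        rw [card_sylow_three H.card_eq R, H.card_ctr R] at this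
        omega
      -- `s` fixes the commutator of `g` and its image
      set v := (s : N) * g * (s : N)⁻¹ with hv
      have hvR : v ∈ (R : Subgroup N) := (mem_normalizer_iff.mp s.2 g).mp hg
      have hz0 := hinv (s ^ 2) (pow_mem hsS 2) (by rw [← pow_mul]; exact hs4) hs2 g hg
      set z0 := ((s ^ 2 : Nr) : N) * g * ((s ^ 2 : Nr) : N)⁻¹ * g with hz0'
      have hsv : (s : N) * v * (s : N)⁻¹ = z0 * g⁻¹ := by
        rw [hv, hz0', Subgroup.coe_pow, pow_two]; group
      set z := g * v * g⁻¹ * v⁻¹ with hzd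
      -- `v` lies outside the subgroup generated by `g` and the centre
      have hvout : ¬ v * g = g * v := by
        intro hcomm
        have hvC : v ∈ centralizer ({g} : Set N) := cent_of_comm hcomm
        let T : Subgroup N := zpowers g ⊔ ctr (R : Subgroup N)
        have hT : T ≤ centralizer ({g} : Set N) := sup_le
          (zpowers_le.mpr (cent_of_comm rfl)) (le_cent fun x hx => (ctr_comm hx hg).symm)
        have hTc : T = centralizer ({g} : Set N) := by
          refine eq_of_le_of_card_ge hT ?_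
          rw [H.cent_eq_nine hg hgZ]
          have h1 := card_dvd_of_le hT
          rw [H.cent_eq_nine hg hgZ, show (9 : ℕ) = 3 ^ 2 from rfl] at h1
          obtain ⟨k, hk, hk'⟩ := (Nat.dvd_prime_pow Nat.prime_three).mp h1
          have h3 : 3 < Nat.card T := by
            have hlt : ctr (R : Subgroup N) < T := lt_of_le_of_ne le_sup_right fun h =>
              hgZ (h.symm ▸ (le_sup_left : zpowers g ≤ T) (mem_zpowers g))
            have := Set.ncard_lt_ncard (SetLike.coe_ssubset_coe.mpr hlt) (Set.toFinite _)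
            rwa [← Nat.card_coe_set_eq, ← Nat.card_coe_set_eq,
              show Nat.card ((ctr (R : Subgroup N) : Subgroup N) : Set N) = 3 from H.card_ctr R] at this
          rw [hk']
          interval_cases k <;> omega
        rw [← hTc] at hvC
        have hle : zpowers g ≤ normalizer ((ctr (R : Subgroup N) : Subgroup N) : Set N) := by
          exact le_trans (zpowers_le.mpr hg) fun x hx => mem_normalizer_iff.mpr fun y =>
            ⟨fun hy => conj_ctr (le_normalizer hx : x ∈ normalizer ((R : Subgroup N) : Set N)) hy,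
              fun hy => by
                have := conj_ctr (le_normalizer (inv_mem hx) :
                  x⁻¹ ∈ normalizer ((R : Subgroup N) : Set N)) hy
                simpa [mul_assoc] using this⟩
        rw [← SetLike.mem_coe, show T = zpowers g ⊔ ctr (R : Subgroup N) from rfl,
          coe_mul_of_left_le_normalizer_right _ _ hle] at hvC
        obtain ⟨a, ⟨n, rfl⟩, c, hc, hac⟩ := hvC
        simp only at hac
        have hg3 : g ^ (3 : ℕ) = 1 := H.pow_three hg
        have hn : g ^ n = g ^ (n % 3) := by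
          rw [zpow_eq_zpow_emod' n hg3]; norm_num
        rcases (show n % 3 = 0 ∨ n % 3 = 1 ∨ n % 3 = 2 by omega) with e | e | e <;>
          rw [hn, e] at hac
        · rw [zpow_zero, one_mul] at hac
          refine hgZ ?_
          have := conj_ctr (inv_mem s.2) (hac ▸ hc : v ∈ ctr (R : Subgroup N))
          simpa [hv, mul_assoc] using this
        · rw [zpow_one] at hac
          refine H.not_fix_coset s.2 (hpow s hsS) (fun h => ?_) hg hgZ ?_
          · rw [show s = 1 from Subtype.ext h, orderOf_one] at hk'; norm_num at hk'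
          · rw [← hv, ← hac, inv_mul_cancel_left]; exact hc
        · have hg2 : g ^ (2 : ℤ) = g⁻¹ := by
            rw [eq_inv_iff_mul_eq_one, show g ^ (2 : ℤ) * g = g ^ (3 : ℤ) by
              rw [show (3 : ℤ) = 2 + 1 from rfl, zpow_add, zpow_one]]
            exact_mod_cast hg3
          rw [hg2] at hac
          -- `s` then squares to the identity modulo the centre
          have hh : ((s ^ 2 : Nr) : N) * g * ((s ^ 2 : Nr) : N)⁻¹ =
              ((s : N) * g * (s : N)⁻¹)⁻¹ * ((s : N) * c * (s : N)⁻¹) := by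
            rw [Subgroup.coe_pow, pow_two,
              show ((s : N) * s) * g * ((s : N) * s)⁻¹ = (s : N) * v * (s : N)⁻¹ by rw [hv]; group,
              ← hac]
            group
          refine H.not_fix_coset (s ^ 2).2 (hpow _ (pow_mem hsS 2))
            (fun h => hs2 (Subtype.ext h)) hg hgZ ?_
          rw [hh, ← hv, ← hac, mul_inv_rev, inv_inv, mul_assoc c⁻¹, ← mul_assoc g⁻¹,
            ctr_comm (inv_mem hc) (inv_mem hg), mul_assoc, inv_mul_cancel_left]
          exact mul_mem (inv_mem hc) (conj_ctr s.2 hc)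
      -- the commutator is central and fixed
      set Z := (ctr (R : Subgroup N)).subgroupOf (R : Subgroup N) with hZdef
      haveI : Z.Normal := ⟨fun n hn x => by
        rw [hZdef, mem_subgroupOf] at hn ⊢
        have := conj_ctr (le_normalizer x.2 : (x : N) ∈ normalizer ((R : Subgroup N) : Set N)) hn
        simpa using this⟩
      haveI : Fact (Nat.Prime 3) := ⟨Nat.prime_three⟩
      have hZ : Nat.card Z = 3 := by
        rw [Nat.card_congr (subgroupOfEquivOfLe (ctr_le _)).toEquiv, H.card_ctr R]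
      have hq : Nat.card ((R : Subgroup N) ⧸ Z) = 3 ^ 2 := by
        have := Z.card_mul_index
        rw [hZ, card_sylow_three H.card_eq R] at this
        rw [← Subgroup.index_eq_card]
        omega
      have hab := isMulCommutative_iff.mp (IsPGroup.isMulCommutative_of_card_eq_prime_sq hq)
        (QuotientGroup.mk (⟨v⁻¹, inv_mem hvR⟩ : (R : Subgroup N))) (QuotientGroup.mk ⟨g⁻¹, inv_mem hg⟩)
      rw [← QuotientGroup.mk_mul, ← QuotientGroup.mk_mul, QuotientGroup.eq, hZdef, mem_subgroupOf]
        at hab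
      have hzZ : z ∈ ctr (R : Subgroup N) := by
        simpa [hzd, mul_assoc] using hab
      have hz1 : z ≠ 1 := by
        intro h
        apply hvout
        rw [hzd, mul_inv_eq_one, mul_inv_eq_iff_eq_mul] at h
        exact h.symm
      have hfix : (s : N) * z * (s : N)⁻¹ = z := by
        have hzg : g⁻¹ * z * g = z := by
          rw [mul_assoc, ← ctr_comm hzZ hg, inv_mul_cancel_left]
        calc (s : N) * z * (s : N)⁻¹
            = v * ((s : N) * v * (s : N)⁻¹) * v⁻¹ * ((s : N) * v * (s : N)⁻¹)⁻¹ := by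
              rw [hzd, hv]; group
          _ = v * z0 * (g⁻¹ * v⁻¹ * g) * z0⁻¹ := by rw [hsv]; group
          _ = z0 * v * (g⁻¹ * v⁻¹ * g) * z0⁻¹ := by rw [ctr_comm hz0 hvR]
          _ = z0 * (g⁻¹ * z * g) * z0⁻¹ := by rw [hzd]; group
          _ = z := by rw [hzg, ctr_comm hzZ hz0.1, mul_inv_cancel_right]
      rw [hsz z hzZ] at hfix
      have := H.pow_three (R := R) hzZ.1
      rw [pow_succ, pow_two] at this
      refine hz1 ?_
      have h2 : z * z = 1 := by
        nth_rewrite 1 [← hfix]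
        exact inv_mul_cancel z
      rwa [h2, one_mul] at this
    · exact hk'
  refine ⟨s, s.2, (orderOf_coe s).trans ho8, hsz, fun g hg => ?_⟩
  have h1 : (s ^ 4) ^ 2 = 1 := by
    rw [← pow_mul]
    have := pow_orderOf_eq_one s
    rwa [ho8] at this
  have h2 : s ^ 4 ≠ 1 := fun h => by
    have := orderOf_dvd_of_pow_eq_one h
    rw [ho8] at this
    norm_num at this
  simpa using hinv (s ^ 4) (pow_mem hsS 4) h1 h2 g hg

end LocalHyp

end Cfsg.Agent.U33Uniq31
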