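import Cfsg.Agent.U33Uniq31.Seven
import Cfsg.Agent.U33Uniq31.Cases
import Cfsg.Agent.U33Uniq31.Chars
import Cfsg.Agent.Lib.SmallGroups.SelfCent.TwoClass

/-!
The principal characters of a simple group of order `6048`.
-/

set_option autoImplicit false
set_option maxHeartbeats 1000000

open scoped ComplexConjugate

namespace Cfsg.Agent.U33Uniq31

open Subgroup Cfsg.Agent.SmallGroups Cfsg.Agent.SmallGroups.SelfCent Cfsg.Agent.SmallGroups.SelfCent.Setup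

/-- The five principal characters. -/
structure Principal {N : Type*} [Group N] [Fintype N] (s : Setup N 7) where
  χa : Cfsg.IrrCharacter N
  χb : Cfsg.IrrCharacter N
  f0 : Cfsg.IrrCharacter N
  f1 : Cfsg.IrrCharacter N
  ca : ℤ
  cb : ℤ
  η : ℤ
  ca_eq : ca = 1 ∨ ca = -1
  cb_eq : cb = 1 ∨ cb = -1
  η_eq : η = 1 ∨ η = -1
  ne_a : χa ≠ triv
  ne_b : χb ≠ triv
  ne_0 : f0 ≠ triv
  ne_1 : f1 ≠ triv
  ne_ab : χa ≠ χb
  ne_a0 : χa ≠ f0
  ne_a1 : χa ≠ f1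
  ne_b0 : χb ≠ f0
  ne_b1 : χb ≠ f1
  ne_01 : f0 ≠ f1
  deg_01 : deg f1 = deg f0
  congr_a : (7 : ℤ) ∣ (deg χa : ℤ) + ca
  congr_b : (7 : ℤ) ∣ (deg χb : ℤ) + cb
  congr_f : (7 : ℤ) ∣ (deg f0 : ℤ) - 3 * η
  dvd_a : deg χa ∣ 864
  dvd_b : deg χb ∣ 864
  dvd_f : deg f0 ∣ 864
  degree_eq : -1 + ca * (deg χa : ℤ) + cb * (deg χb : ℤ) + η * (deg f0 : ℤ) = 0
  sum_sq : 1 + deg χa * deg χa + deg χb * deg χb + 2 * (deg f0 * deg f0) ≤ 6048
  other : ∀ χ, χ ≠ triv → χ ≠ χa → χ ≠ χb → χ ≠ f0 → χ ≠ f1 → 7 ∣ deg χ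
  value : ∀ g : N, (∀ k : ZMod 7, k ≠ 0 → ¬ IsConj g (s.zp k)) →
    -1 + (ca : ℂ) * (χa : N → ℂ) g + (cb : ℂ) * (χb : N → ℂ) g + (η : ℂ) * (f0 : N → ℂ) g = 0 ∧
      (f1 : N → ℂ) g = (f0 : N → ℂ) g
  at_a : ∀ k : ZMod 7, k ≠ 0 → (χa : N → ℂ) (s.zp k) = -(ca : ℂ)
  at_b : ∀ k : ZMod 7, k ≠ 0 → (χb : N → ℂ) (s.zp k) = -(cb : ℂ)
  at_f : ∀ k : ZMod 7, k ≠ 0 →
    conj ((f0 : N → ℂ) (s.zp k)) + conj ((f1 : N → ℂ) (s.zp k)) = -(η : ℂ)
  at_other : ∀ χ, χ ≠ triv → χ ≠ χa → χ ≠ χb → χ ≠ f0 → χ ≠ f1 →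
    ∀ k : ZMod 7, k ≠ 0 → (χ : N → ℂ) (s.zp k) = 0

theorem exists_two_of_sum_sq {ι : Type*} [DecidableEq ι] (T : Finset ι) (c : ι → ℤ)
    (h : ∑ x ∈ T, c x * c x = 2) :
    ∃ a b, a ∈ T ∧ b ∈ T ∧ a ≠ b ∧ (c a = 1 ∨ c a = -1) ∧ (c b = 1 ∨ c b = -1) ∧
      ∀ x ∈ T, x ≠ a → x ≠ b → c x = 0 := by
  set S := T.filter fun x => c x ≠ 0 with hS
  have hsmall : ∀ x ∈ T, c x = 0 ∨ c x = 1 ∨ c x = -1 := by
    intro x hx
    have h1 := Finset.single_le_sum (f := fun y => c y * c y) (fun y _ => mul_self_nonneg (c y)) hx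
    rw [h] at h1
    have hlo : -1 ≤ c x := by nlinarith
    have hhi : c x ≤ 1 := by nlinarith
    omega
  have hcard : S.card = 2 := by
    have h1 : ∑ x ∈ T, c x * c x = ∑ x ∈ S, (1 : ℤ) := by
      rw [← Finset.sum_filter_of_ne (p := fun x => c x ≠ 0) (fun x _ hx h => hx (by simp [h]))]
      refine Finset.sum_congr rfl fun x hx => ?_
      obtain ⟨hxT, hx0⟩ := Finset.mem_filter.mp hx
      rcases (hsmall x hxT).resolve_left hx0 with r | r <;> simp [r]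
    rw [h, Finset.sum_const, nsmul_eq_mul, mul_one] at h1
    exact_mod_cast h1.symm
  obtain ⟨a, b, hab, hSab⟩ := Finset.card_eq_two.mp hcard
  have ha : a ∈ S := by rw [hSab]; simp
  have hb : b ∈ S := by rw [hSab]; simp
  obtain ⟨haT, ha0⟩ := Finset.mem_filter.mp ha
  obtain ⟨hbT, hb0⟩ := Finset.mem_filter.mp hb
  refine ⟨a, b, haT, hbT, hab, (hsmall a haT).resolve_left ha0, (hsmall b hbT).resolve_left hb0,
    fun x hx hxa hxb => ?_⟩
  by_contra h0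
  have : x ∈ S := Finset.mem_filter.mpr ⟨hx, h0⟩
  rw [hSab] at this
  simp [hxa, hxb] at this

variable {N : Type*} [Group N] [Fintype N]

theorem exists_principal (hc : Nat.card N = 6048) (s : Setup N 7) (hK : s.K = ⊥)
    (he : Nat.card s.auto = 3) : Nonempty (Principal s) := by
  classical
  have hOrb : Nat.card s.Orb = 2 := by
    have := s.card_orb_mul
    rw [he] at this
    omega
  have := Fintype.ofFinite s.Orb
  obtain ⟨D⟩ := s.nonempty_data (by rw [hOrb])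
  obtain ⟨o₀, o₁, hne, huniv⟩ := Nat.card_eq_two_iff.mp hOrb
  have hmem : ∀ o : s.Orb, o = o₀ ∨ o = o₁ := fun o => by
    have : o ∈ ({o₀, o₁} : Set s.Orb) := huniv ▸ Set.mem_univ o
    simpa using this
  set f0 := D.f o₀ with hf0
  set f1 := D.f o₁ with hf1
  have h01 : f0 ≠ f1 := D.inj.ne hne
  set T : Finset (Cfsg.IrrCharacter N) :=
    ((Finset.univ.erase triv).erase f0).erase f1 with hT
  have hsplit : ∀ F : Cfsg.IrrCharacter N → ℂ,
      ∑ χ, F χ = F triv + F f0 + F f1 + ∑ χ ∈ T, F χ := by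
    intro F
    rw [← Finset.add_sum_erase _ _ (Finset.mem_univ triv),
      ← Finset.add_sum_erase _ _ (show f0 ∈ Finset.univ.erase triv from
        Finset.mem_erase.mpr ⟨D.triv_ne o₀, Finset.mem_univ _⟩),
      ← Finset.add_sum_erase _ _ (show f1 ∈ (Finset.univ.erase triv).erase f0 from
        Finset.mem_erase.mpr ⟨h01.symm, Finset.mem_erase.mpr ⟨D.triv_ne o₁, Finset.mem_univ _⟩⟩)]
    ring
  have hsplitZ : ∀ F : Cfsg.IrrCharacter N → ℤ,
      ∑ χ, F χ = F triv + F f0 + F f1 + ∑ χ ∈ T, F χ := by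
    intro F
    have h := hsplit fun χ => (F χ : ℂ)
    exact_mod_cast h
  have heps := D.eps_eq
  have hn := D.norm_eq
  rw [he, hsplitZ, D.c_triv, D.c_f, D.c_f] at hn
  push_cast at hn
  have hd : D.d = 0 ∨ D.d = -D.eps := by
    have h0 : 0 ≤ ∑ χ ∈ T, D.c χ * D.c χ := Finset.sum_nonneg fun χ _ => mul_self_nonneg _
    rcases heps with r | r <;> rw [r] at hn ⊢
    · have h1 : -1 ≤ D.d := by nlinarith
      have h2 : D.d ≤ 0 := by nlinarith
      omega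
    · have h1 : 0 ≤ D.d := by nlinarith
      have h2 : D.d ≤ 1 := by nlinarith
      omega
  have hdd : D.d * D.d + D.eps * D.d = 0 := by
    rcases hd with r | r <;> rw [r]
    · ring
    · ring
  have hT2 : ∑ χ ∈ T, D.c χ * D.c χ = 2 := by linarith
  obtain ⟨χa, χb, haT, hbT, hab, hca, hcb, hrest⟩ := exists_two_of_sum_sq T D.c hT2
  have hη : 2 * D.d + D.eps = 1 ∨ 2 * D.d + D.eps = -1 := by
    rcases hd with r | r <;> rcases heps with q | q <;> rw [r, q] <;> norm_num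
  have hT' : ∀ {χ}, χ ∈ T → χ ≠ triv ∧ χ ≠ f0 ∧ χ ≠ f1 := by
    intro χ h
    simp only [hT, Finset.mem_erase, Finset.mem_univ, and_true] at h
    exact ⟨h.2.2, h.2.1, h.1⟩
  obtain ⟨hat, ha0, ha1⟩ := hT' haT
  obtain ⟨hbt, hb0, hb1⟩ := hT' hbT
  have hnex : ∀ {χ}, χ ≠ f0 → χ ≠ f1 → ∀ o, χ ≠ D.f o := fun h0 h1 o => by
    rcases hmem o with rfl | rfl
    · exact h0
    · exact h1
  have hzero : ∀ χ, χ ≠ triv → χ ≠ χa → χ ≠ χb → χ ≠ f0 → χ ≠ f1 → D.c χ = 0 :=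
    fun χ h1 h2 h3 h4 h5 => hrest χ (by simp [hT, h1, h4, h5]) h2 h3
  have hsum : ∀ F : Cfsg.IrrCharacter N → ℂ,
      (∀ χ, χ ≠ triv → χ ≠ χa → χ ≠ χb → χ ≠ f0 → χ ≠ f1 → F χ = 0) →
      ∑ χ, F χ = F triv + F f0 + F f1 + F χa + F χb := by
    intro F hF
    rw [hsplit, ← Finset.sum_subset (show ({χa, χb} : Finset _) ⊆ T by
      simp [Finset.insert_subset_iff, haT, hbT]) (fun χ hχ hχ' => by
        simp only [Finset.mem_insert, Finset.mem_singleton, not_or] at hχ'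
        obtain ⟨h1, h2, h3⟩ := hT' hχ
        exact hF χ h1 hχ'.1 hχ'.2 h2 h3), Finset.sum_pair hab]
    ring
  have hsumZ : ∀ F : Cfsg.IrrCharacter N → ℤ,
      (∀ χ, χ ≠ triv → χ ≠ χa → χ ≠ χb → χ ≠ f0 → χ ≠ f1 → F χ = 0) →
      ∑ χ, F χ = F triv + F f0 + F f1 + F χa + F χb := by
    intro F hF
    have h := hsum (fun χ => (F χ : ℂ)) fun χ a b c d e => by simp [hF χ a b c d e]
    exact_mod_cast h
  have hdeg := D.degree_eq
  rw [hsumZ _ (fun χ h1 h2 h3 h4 h5 => by rw [hzero χ h1 h2 h3 h4 h5, mul_zero]), deg_triv,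
    D.c_triv, D.c_f, D.c_f, D.deg_f, D.deg_f] at hdeg
  -- congruences
  have hcong : ∀ χ, (∀ o, χ ≠ D.f o) → (7 : ℤ) ∣ (deg χ : ℤ) + D.c χ := by
    intro χ hχ
    obtain ⟨n, -, hn', hmod⟩ := D.fix_congr χ
    rw [hn' hK, if_neg (fun ⟨o, ho⟩ => hχ o ho), add_zero] at hmod
    have := hmod.symm.dvd
    simpa using this
  have hcongf : (7 : ℤ) ∣ (deg f0 : ℤ) - 3 * (2 * D.d + D.eps) := by
    obtain ⟨n, -, hn', hmod⟩ := D.fix_congr f0
    rw [hn' hK, if_pos ⟨o₀, rfl⟩, D.c_f, he] at hmod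
    have h := hmod.symm.dvd
    push_cast at h
    omega
  have h7b : ¬ 7 ∣ D.b := by
    rw [hf0, D.deg_f] at hcongf
    intro h
    have : (7 : ℤ) ∣ (D.b : ℤ) := Int.natCast_dvd_natCast.mpr h
    rcases hη with r | r <;> rw [r] at hcongf <;> omega
  have h864 : Nat.card N / 7 = 864 := by rw [hc]
  have hdvd : ∀ χ, (∀ o, χ ≠ D.f o) → (D.c χ = 1 ∨ D.c χ = -1) → deg χ ∣ 864 := by
    intro χ hχ hc1
    have h := D.deg_dvd χ hχ
    rw [h864] at h
    apply Int.natCast_dvd_natCast.mp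
    rcases hc1 with r | r <;> rw [r] at h <;> simpa using h
  have hdvdf : deg f0 ∣ 864 := by
    rw [hf0, D.deg_f, ← h864]
    exact D.deg_dvd_exceptional o₀ h7b
  -- values at `z ^ k`
  have hphi : ∀ (χ : Cfsg.IrrCharacter N) (k : ZMod 7), s.phi (χ : N → ℂ) k = (χ : N → ℂ) (s.zp k) := by
    intro χ k
    have hk : s.kset = {1} := by ext w; simp [s.mem_kset, hK]
    simp [phi, hk]
  have hconst : ∀ χ, (∀ o, χ ≠ D.f o) → ∀ k : ZMod 7, k ≠ 0 →
      (χ : N → ℂ) (s.zp k) = -(D.c χ : ℂ) := by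
    intro χ hχ k hk
    rw [← hphi]
    exact s.phi_of_const χ (D.c χ) (fun o => by rw [D.vec_eq, if_neg (hχ o), add_zero]) hk
  have hother : ∀ χ, χ ≠ triv → χ ≠ χa → χ ≠ χb → χ ≠ f0 → χ ≠ f1 →
      ∀ k : ZMod 7, k ≠ 0 → (χ : N → ℂ) (s.zp k) = 0 := fun χ h1 h2 h3 h4 h5 k hk => by
    rw [hconst χ (hnex h4 h5) k hk, hzero χ h1 h2 h3 h4 h5]; simp
  have hdC : ∀ χ : Cfsg.IrrCharacter N, (χ : N → ℂ) 1 = (deg χ : ℂ) := fun χ => (deg_spec χ).2.2
  have hdegC : (-1 : ℂ) + 2 * (D.b : ℂ) * D.d + (deg χa : ℂ) * D.c χa + (deg χb : ℂ) * D.c χb +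
      D.eps * D.b = 0 := by
    have h : (-1 : ℤ) + 2 * (D.b : ℤ) * D.d + (deg χa : ℤ) * D.c χa + (deg χb : ℤ) * D.c χb +
        D.eps * D.b = 0 := by push_cast at hdeg; linarith
    exact_mod_cast h
  have hatf : ∀ k : ZMod 7, k ≠ 0 →
      conj ((f0 : N → ℂ) (s.zp k)) + conj ((f1 : N → ℂ) (s.zp k)) = -((2 * D.d + D.eps : ℤ) : ℂ) := by
    intro k hk
    have h := CharCore.sum_apply_mul_conj (1 : N) (s.zp k)
    rw [if_neg (fun h' => hk ((s.zp_eq_one_iff k).mp (isConj_one_right.mp h')))] at h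
    rw [hsum _ (fun χ h1 h2 h3 h4 h5 => by rw [hother χ h1 h2 h3 h4 h5 k hk, map_zero, mul_zero]),
      hconst χa (hnex ha0 ha1) k hk, hconst χb (hnex hb0 hb1) k hk, hdC f0, hdC f1, hdC χa, hdC χb,
      hf0, hf1, D.deg_f, D.deg_f] at h
    simp only [triv, Pi.one_apply, map_one, mul_one, map_neg, map_intCast] at h
    have hb : (D.b : ℂ) ≠ 0 := by
      have : (0 : ℕ) < D.b := D.deg_f o₀ ▸ (deg_spec _).1
      exact_mod_cast this.ne'
    apply mul_left_cancel₀ hb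
    push_cast
    linear_combination h + hdegC
  refine ⟨{ χa := χa, χb := χb, f0 := f0, f1 := f1, ca := D.c χa, cb := D.c χb, η := 2 * D.d + D.eps
            ca_eq := hca, cb_eq := hcb, η_eq := hη
            ne_a := hat, ne_b := hbt, ne_0 := D.triv_ne o₀, ne_1 := D.triv_ne o₁, ne_ab := hab
            ne_a0 := ha0, ne_a1 := ha1, ne_b0 := hb0, ne_b1 := hb1, ne_01 := h01
            deg_01 := (D.deg_f o₁).trans (D.deg_f o₀).symm
            congr_a := hcong χa (hnex ha0 ha1), congr_b := hcong χb (hnex hb0 hb1), congr_f := hcongf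
            dvd_a := hdvd χa (hnex ha0 ha1) hca, dvd_b := hdvd χb (hnex hb0 hb1) hcb, dvd_f := hdvdf
            degree_eq := ?_, sum_sq := ?_, other := ?_, value := ?_
            at_a := hconst χa (hnex ha0 ha1), at_b := hconst χb (hnex hb0 hb1), at_f := hatf
            at_other := hother }⟩
  · rw [hf0, D.deg_f]
    push_cast at hdeg
    linarith
  · have h := D.sum_sq_le {(triv : Cfsg.IrrCharacter N), χa, χb} (fun o => by
      rcases hmem o with h | h <;>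
        simp only [h, Finset.mem_insert, Finset.mem_singleton, not_or]
      · exact ⟨D.triv_ne o₀, ha0.symm, hb0.symm⟩
      · exact ⟨D.triv_ne o₁, ha1.symm, hb1.symm⟩)
    rw [hc, hOrb, Finset.sum_insert (by simp [hat.symm, hbt.symm]), Finset.sum_pair hab, deg_triv,
      pow_two, pow_two, pow_two, pow_two] at h
    rw [hf0, D.deg_f]
    linarith
  · intro χ h1 h2 h3 h4 h5
    have := hcong χ (hnex h4 h5)
    rw [hzero χ h1 h2 h3 h4 h5, add_zero] at this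
    exact Int.natCast_dvd_natCast.mp this
  · intro g hg
    have hg' : ∀ k : ZMod 7, k ≠ 0 → ∀ w ∈ s.K, ¬ IsConj g (s.zp k * w) := by
      intro k hk w hw
      rw [hK, mem_bot] at hw
      rw [hw, mul_one]
      exact hg k hk
    have h0 := D.value_eq hg' o₀
    have h1 := D.value_eq hg' o₁
    have hF : (f1 : N → ℂ) g = (f0 : N → ℂ) g := by
      have he0 : (D.eps : ℂ) ≠ 0 := by rcases heps with r | r <;> simp [r]
      exact mul_left_cancel₀ he0 (by linear_combination h1 - h0)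
    refine ⟨?_, hF⟩
    rw [hsum _ (fun χ a b c d e => by rw [hzero χ a b c d e]; simp), D.c_triv, D.c_f, D.c_f, ← hf0, hF] at h0
    simp only [triv, Pi.one_apply, Int.cast_neg, Int.cast_one, one_mul] at h0
    push_cast
    linear_combination h0

/-- The five characters as a set. -/
theorem Principal.sum_eq {s : Setup N 7} (P : Principal s) (F : Cfsg.IrrCharacter N → ℂ)
    (hF : ∀ χ, χ ≠ triv → χ ≠ P.χa → χ ≠ P.χb → χ ≠ P.f0 → χ ≠ P.f1 → F χ = 0) :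
    ∑ χ, F χ = F triv + F P.χa + F P.χb + F P.f0 + F P.f1 := by
  classical
  rw [← Finset.sum_subset (Finset.subset_univ
    ({triv, P.χa, P.χb, P.f0, P.f1} : Finset (Cfsg.IrrCharacter N))) (fun χ _ hχ => by
      simp only [Finset.mem_insert, Finset.mem_singleton, not_or] at hχ
      exact hF χ hχ.1 hχ.2.1 hχ.2.2.1 hχ.2.2.2.1 hχ.2.2.2.2),
    Finset.sum_insert (by simp [P.ne_a.symm, P.ne_b.symm, P.ne_0.symm, P.ne_1.symm]),
    Finset.sum_insert (by simp [P.ne_ab, P.ne_a0, P.ne_a1]),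
    Finset.sum_insert (by simp [P.ne_b0, P.ne_b1]), Finset.sum_pair P.ne_01]
  ring

/-- The two further characters can be interchanged. -/
def Principal.swap {s : Setup N 7} (P : Principal s) : Principal s where
  χa := P.χb
  χb := P.χa
  f0 := P.f0
  f1 := P.f1
  ca := P.cb
  cb := P.ca
  η := P.η
  ca_eq := P.cb_eq
  cb_eq := P.ca_eq
  η_eq := P.η_eq
  ne_a := P.ne_b
  ne_b := P.ne_a
  ne_0 := P.ne_0
  ne_1 := P.ne_1
  ne_ab := P.ne_ab.symm
  ne_a0 := P.ne_b0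
  ne_a1 := P.ne_b1
  ne_b0 := P.ne_a0
  ne_b1 := P.ne_a1
  ne_01 := P.ne_01
  deg_01 := P.deg_01
  congr_a := P.congr_b
  congr_b := P.congr_a
  congr_f := P.congr_f
  dvd_a := P.dvd_b
  dvd_b := P.dvd_a
  dvd_f := P.dvd_f
  degree_eq := by linarith [P.degree_eq]
  sum_sq := by linarith [P.sum_sq]
  other := fun χ h1 h2 h3 => P.other χ h1 h3 h2
  value := fun g hg => ⟨by linear_combination (P.value g hg).1, (P.value g hg).2⟩
  at_a := P.at_b
  at_b := P.at_a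
  at_f := P.at_f
  at_other := fun χ h1 h2 h3 => P.at_other χ h1 h3 h2

end Cfsg.Agent.U33Uniq31
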