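import Cfsg.Agent.U33Uniq31.MData
import Cfsg.Agent.U33Uniq31.Coord
import Cfsg.Agent.G22.ChecksG
import Cfsg.Agent.Lib.CosetEnum.Pack

/-!
Finite checks on the permutations of `G₂(2)`.
-/

set_option autoImplicit false
set_option maxRecDepth 100000

namespace Cfsg.Agent.U33Uniq31

open Cfsg.Agent.CosetEnum

/-- six bit lookup -/
def getP (T x : ℕ) : ℕ := Nat.shiftRight T (6 * x) % 64

/-- the table of an entry -/
def tab (k : ℕ) : ℕ := (entries.getD k (0, 0, 0)).1

/-- an entry is a generator or a product of earlier ones -/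
noncomputable def entryOK (k : ℕ) : Bool :=
  if k < 12 then Nat.beq (tab k) (genTab.getD k 0)
  else Nat.blt (entries.getD k (0, 0, 0)).2.1 k && Nat.blt (entries.getD k (0, 0, 0)).2.2 k &&
    forceNat (tab k) fun T => forceNat (tab (entries.getD k (0, 0, 0)).2.1) fun A =>
      forceNat (tab (entries.getD k (0, 0, 0)).2.2) fun B =>
        (List.range 63).all fun j => Nat.beq (getP T j) (getP A (getP B j))

theorem gen_ok : ∀ r : Fin 12, ∀ i : Fin 63, getP (genTab.getD r 0) i = (G22.genF r i).val := by
  decide +kernel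

theorem entries_ok : (List.range 277).all entryOK = true := by decide +kernel

/-- a key of a stabiliser element -/
def keyT (T : ℕ) : ℕ := getP T 26 * 64 + getP T 2

/-- strictly increasing keys -/
def incKeys : List ℕ → Bool
  | a :: b :: t => Nat.blt (keyT a) (keyT b) && incKeys (b :: t)
  | _ => true

theorem lists_ok :
    ((List.range 63).all fun i => Nat.beq (tab (transIdx.getD i 0)) (transTabs.getD i 0) &&
      Nat.blt (transIdx.getD i 0) 277 && Nat.beq (getP (transTabs.getD i 0) 0) i) = true ∧
    ((List.range 192).all fun k => Nat.beq (tab (stabIdx.getD k 0)) (stabTabs.getD k 0) &&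
      Nat.blt (stabIdx.getD k 0) 277 && Nat.beq (getP (stabTabs.getD k 0) 0) 0) = true ∧
    incKeys stabTabs = true ∧ transTabs.length = 63 ∧ stabTabs.length = 192 ∧
    (yIdx < 277 ∧ uIdx < 277 ∧ vIdx < 277 ∧ zIdx < 277) ∧
    ((List.range 63).all fun x => Nat.beq (getP (transTabs.getD 0 0) x) x) = true := by
  decide +kernel

/-- the base -/
def base3 : List ℕ := [0, 26, 2]

/-- iterates of a table -/
def iterT (T : ℕ) : ℕ → ℕ → ℕ
  | 0, x => x
  | m + 1, x => getP T (iterT T m x)

/-- commuting with `y` forces a power of `y` -/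
noncomputable def centOK (A : ℕ) : Bool :=
  forceNat (tab yIdx) fun Y => stabTabs.all fun B =>
    !(base3.all fun x => Nat.beq (getP A (getP B (getP Y x))) (getP Y (getP A (getP B x)))) ||
      (List.range 7).any fun m => base3.all fun x => Nat.beq (getP A (getP B x)) (iterT Y m x)

theorem cent_ok : transTabs.all centOK = true := by decide +kernel

theorem y_order : (base3.all fun x => Nat.beq (iterT (tab yIdx) 7 x) x) = true ∧
    getP (tab yIdx) 0 ≠ 0 := by
  decide +kernel

/-- the image of a word `u ^ a * v ^ b * z ^ c` -/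
def coordT (i x : ℕ) : ℕ :=
  iterT (tab uIdx) (i / 9) (iterT (tab vIdx) (i / 3 % 3) (iterT (tab zIdx) (i % 3) x))

theorem heis_ok : ∀ x ∈ base3,
    iterT (tab uIdx) 3 x = x ∧ iterT (tab vIdx) 3 x = x ∧ iterT (tab zIdx) 3 x = x ∧
    getP (tab zIdx) (getP (tab uIdx) x) = getP (tab uIdx) (getP (tab zIdx) x) ∧
    getP (tab zIdx) (getP (tab vIdx) x) = getP (tab vIdx) (getP (tab zIdx) x) ∧
    getP (tab vIdx) (getP (tab uIdx) x) =
      getP (tab uIdx) (getP (tab vIdx) (iterT (tab zIdx) 2 x)) := by
  decide +kernel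

theorem heis_inj : ∀ i j : Fin 27, (∀ x ∈ base3, coordT i x = coordT j x) → i = j := by
  decide +kernel

end Cfsg.Agent.U33Uniq31
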