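import Cfsg.Agent.U33Uniq31.Local

/-!
The normaliser of a Sylow `3`-subgroup has order `216`.
-/

set_option autoImplicit false

namespace Cfsg.Agent.U33Uniq31

open Subgroup MulAction

variable {N : Type*} [Group N] [Finite N]

omit [Finite N] in
theorem exists_ne_of_card_three {Z : Subgroup N} (hZ : Nat.card Z = 3) : ∃ w ∈ Z, w ≠ 1 := by
  by_contra h
  push_neg at h
  rw [(eq_bot_iff_forall _).mpr h, card_bot] at hZ
  omega

omit [Finite N] in
theorem conj_mem_cent {g h x : N} (hg : g * h * g⁻¹ = h) : g ∈ centralizer ({h} : Set N) :=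
  mem_centralizer_singleton_iff.mpr (mul_inv_eq_iff_eq_mul.mp hg)

omit [Finite N] in
theorem conj_ctr {R : Subgroup N} {x z : N} (hx : x ∈ normalizer (R : Set N)) (hz : z ∈ ctr R) :
    x * z * x⁻¹ ∈ ctr R := by
  refine ⟨(mem_normalizer_iff.mp hx z).mp hz.1, mem_centralizer_iff.mpr fun y hy => ?_⟩
  have hy' : x⁻¹ * y * x ∈ R := by
    have := (mem_normalizer_iff.mp (inv_mem hx) y).mp hy
    simpa using this
  have h := ctr_comm hz hy'
  calc y * (x * z * x⁻¹) = x * (x⁻¹ * y * x * z) * x⁻¹ := by group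
    _ = x * (z * (x⁻¹ * y * x)) * x⁻¹ := by rw [h]
    _ = x * z * x⁻¹ * y := by group

/-- The elements of a group of order three. -/
theorem mem_three {Z : Subgroup N} (hZ : Nat.card Z = 3) {w x : N} (hw : w ∈ Z) (hw1 : w ≠ 1)
    (hx : x ∈ Z) : x = 1 ∨ x = w ∨ x = w * w := by
  haveI : Fact (Nat.Prime 3) := ⟨Nat.prime_three⟩
  have h := Cfsg.Agent.SmallGroups.zpowers_eq_of_card_prime hZ hw hw1
  rw [← h, ← mem_powers_iff_mem_zpowers] at hx
  obtain ⟨n, rfl⟩ := hx
  have ho := Cfsg.Agent.SmallGroups.orderOf_of_card_prime hZ hw hw1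
  show w ^ n = 1 ∨ w ^ n = w ∨ w ^ n = w * w
  rw [← pow_mod_orderOf, ho]
  rcases (show n % 3 = 0 ∨ n % 3 = 1 ∨ n % 3 = 2 by omega) with e | e | e <;> rw [e] <;>
    simp [pow_two]

namespace LocalHyp

variable (H : LocalHyp N)
include H

theorem cent_le_normalizer {R : Sylow 3 N} {w : N} (hw : w ∈ ctr (R : Subgroup N)) (hw1 : w ≠ 1) :
    centralizer ({w} : Set N) ≤ normalizer (R : Set N) := by
  haveI : Fact (Nat.Prime 3) := ⟨Nat.prime_three⟩
  intro x hx
  rw [← Sylow.smul_eq_iff_mem_normalizer]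
  refine (H.unique_in_cent hw hw1 ?_).symm
  intro y hy
  rw [Sylow.coe_subgroup_smul, Subgroup.mem_pointwise_smul_iff_inv_smul_mem] at hy
  rw [MulAut.smul_def, MulAut.conj_inv_apply] at hy
  have h1 := mem_cent_comm ((le_cent fun a ha => ctr_comm hw ha :
    (R : Subgroup N) ≤ centralizer ({w} : Set N)) hy)
  have h2 := mem_cent_comm hx
  refine cent_of_comm ?_
  calc y * w = x * (x⁻¹ * y * x) * x⁻¹ * w := by group
    _ = x * (x⁻¹ * y * x) * (x⁻¹ * w * x) * x⁻¹ := by group
    _ = x * (x⁻¹ * y * x) * w * x⁻¹ := by rw [show x⁻¹ * w * x = w by rw [mul_assoc, ← h2, inv_mul_cancel_left]]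
    _ = x * (x⁻¹ * y * x * w) * x⁻¹ := by group
    _ = x * (w * (x⁻¹ * y * x)) * x⁻¹ := by rw [h1]
    _ = x * w * x⁻¹ * y := by group
    _ = w * y := by rw [h2, mul_inv_cancel_right]

/-- The two possible shapes. -/
theorem normalizer_cases (R : Sylow 3 N) {w : N} (hw : w ∈ ctr (R : Subgroup N)) (hw1 : w ≠ 1) :
    (Nat.card (centralizer ({w} : Set N)) = 54 ∧ Nat.card (normalizer (R : Set N)) = 54) ∨
      (Nat.card (centralizer ({w} : Set N)) = 108 ∧ Nat.card (normalizer (R : Set N)) = 216) := by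
  classical
  haveI : Fact (Nat.Prime 3) := ⟨Nat.prime_three⟩
  set Nr := normalizer (R : Set N) with hNr
  set C := centralizer ({w} : Set N) with hC
  have hle := H.cent_le_normalizer hw hw1
  have hC' : Nat.card C = 54 ∨ Nat.card C = 108 :=
    (H.cent w (H.orderOf_three (R := R) hw.1 hw1)).resolve_left (H.cent_ne_nine hw)
  have hidx : (C.subgroupOf Nr).index ≤ 2 := by
    let act : MulAction Nr N := MulAction.compHom N (ConjAct.toConjAct.toMonoidHom.comp Nr.subtype)
    have hst : MulAction.stabilizer Nr w = C.subgroupOf Nr := by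
      ext x
      rw [MulAction.mem_stabilizer_iff, mem_subgroupOf]
      constructor
      · exact fun h => conj_mem_cent (x := x.1) h
      · intro h
        show (x : N) * w * (x : N)⁻¹ = w
        rw [mem_cent_comm h, mul_inv_cancel_right]
    rw [← hst, MulAction.index_stabilizer]
    refine le_trans (Set.ncard_le_ncard (t := {w, w * w}) ?_ (Set.toFinite _))
      ((Set.ncard_insert_le _ _).trans (by rw [Set.ncard_singleton]))
    rintro y ⟨x, rfl⟩
    have hm := conj_ctr x.2 hw
    rcases mem_three (H.card_ctr R) hw hw1 hm with h | h | h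
    · exact absurd (conj_eq_one_iff.mp h) hw1
    · exact Or.inl h
    · exact Or.inr h
  have hmul := (C.subgroupOf Nr).card_mul_index
  rw [Nat.card_congr (subgroupOfEquivOfLe hle).toEquiv] at hmul
  have hn3 := card_sylow_modEq_one 3 N
  rw [R.card_eq_index_normalizer] at hn3
  have hNi := (normalizer (R : Set N)).card_mul_index
  rw [H.card_eq] at hNi
  have hne : (C.subgroupOf Nr).index ≠ 0 := index_ne_zero_of_finite
  rcases (show (C.subgroupOf Nr).index = 1 ∨ (C.subgroupOf Nr).index = 2 by omega) with e | e <;>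
    rw [e] at hmul <;> rcases hC' with hc | hc <;> rw [hc] at hmul
  · exact Or.inl ⟨hc, hmul.symm⟩
  · exfalso
    rw [← hNr, ← hmul] at hNi
    have : (normalizer (R : Set N)).index = 56 := by rw [← hNr]; omega
    rw [this] at hn3
    exact absurd hn3 (by decide)
  · exfalso
    rw [← hNr, ← hmul] at hNi
    have : (normalizer (R : Set N)).index = 56 := by rw [← hNr]; omega
    rw [this] at hn3
    exact absurd hn3 (by decide)
  · exact Or.inr ⟨hc, hmul.symm⟩

/-- A central element with centraliser of order `54` commutes with nine involutions. -/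
theorem nine_involutions {R : Sylow 3 N} {w : N} (hw : w ∈ ctr (R : Subgroup N)) (hw1 : w ≠ 1)
    (h54 : Nat.card (centralizer ({w} : Set N)) = 54) :
    9 ≤ Nat.card {i : N // orderOf i = 2 ∧ i * w = w * i} := by
  classical
  haveI : Fact (Nat.Prime 2) := ⟨Nat.prime_two⟩
  set C := centralizer ({w} : Set N) with hC
  obtain ⟨i, hi⟩ := exists_prime_orderOf_dvd_card' (G := C) 2 (by rw [h54]; norm_num)
  have hi' : orderOf (i : N) = 2 := (orderOf_coe i).trans hi
  have hR : (R : Subgroup N) ≤ C := le_cent fun x hx => ctr_comm hw hx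
  set K := centralizer ({i} : Set C) with hK
  have hfix : ∀ x : C, x ∈ K → (x : N) ∈ R → (x : N) ∈ ctr (R : Subgroup N) := by
    intro x hx hxR
    by_contra hxZ
    have hiC : (i : N) ∈ centralizer ({(x : N)} : Set N) :=
      cent_of_comm (congrArg Subtype.val (mem_cent_comm hx)).symm
    have := Subgroup.orderOf_dvd_natCard _ hiC
    rw [hi', H.cent_eq_nine hxR hxZ] at this
    norm_num at this
  have h1 : Nat.card ↥((R : Subgroup N).subgroupOf C ⊓ K) ≤ 3 := by
    refine le_trans ?_ (le_of_eq (H.card_ctr R))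
    exact Nat.card_le_card_of_injective
      (fun x => (⟨((x : C) : N), hfix x x.2.2 (mem_subgroupOf.mp x.2.1)⟩ : ctr (R : Subgroup N)))
      fun a b h => Subtype.ext (Subtype.ext (congrArg (fun z : ctr (R : Subgroup N) => (z : N)) h))
  have hidx : ((R : Subgroup N).subgroupOf C).index = 2 := by
    have h := ((R : Subgroup N).subgroupOf C).card_mul_index
    rw [Nat.card_congr (subgroupOfEquivOfLe hR).toEquiv, card_sylow_three H.card_eq R, h54] at h
    omega
  have hKc : Nat.card K ≤ 6 := by
    have h := (((R : Subgroup N).subgroupOf C).subgroupOf K).card_mul_index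
    rw [← inf_subgroupOf_right, Nat.card_congr
      (subgroupOfEquivOfLe (inf_le_right : (R : Subgroup N).subgroupOf C ⊓ K ≤ K)).toEquiv,
      inf_subgroupOf_right] at h
    rw [← h]
    have : (((R : Subgroup N).subgroupOf C).subgroupOf K).index ≤ 2 := by
      haveI := normal_of_index_eq_two hidx
      have := relIndex_dvd_index_of_normal ((R : Subgroup N).subgroupOf C) K
      rw [hidx] at this
      exact Nat.le_of_dvd (by norm_num) this
    exact (Nat.mul_le_mul h1 this).trans (by norm_num)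
  have hcl := Cfsg.Agent.SmallGroups.card_conj_mul_centralizer i
  rw [h54, ← hK] at hcl
  have h9 : 9 ≤ Nat.card {g : C // IsConj i g} := by
    by_contra h
    have := Nat.mul_le_mul (Nat.le_of_lt_succ (not_le.mp h)) hKc
    omega
  refine h9.trans (Nat.card_le_card_of_injective (fun g => ⟨((g.1 : C) : N), ?_, mem_cent_comm g.1.2⟩)
    fun a b h => Subtype.ext (Subtype.ext
      (congrArg (fun z : {i : N // orderOf i = 2 ∧ i * w = w * i} => (z : N)) h)))
  obtain ⟨c, hc⟩ := isConj_iff.mp g.2
  rw [orderOf_coe, ← hc, ← MulAut.conj_apply, MulEquiv.orderOf_eq]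
  exact hi

theorem card_normalizer (R : Sylow 3 N) {w : N} (hw : w ∈ ctr (R : Subgroup N)) (hw1 : w ≠ 1) :
    Nat.card (centralizer ({w} : Set N)) = 108 ∧ Nat.card (normalizer (R : Set N)) = 216 := by
  classical
  refine (H.normalizer_cases R hw hw1).resolve_left ?_
  rintro ⟨-, hN⟩
  haveI : Fact (Nat.Prime 3) := ⟨Nat.prime_three⟩
  haveI : Fact (Nat.Prime 7) := ⟨by norm_num⟩
  have hall : ∀ Q : Sylow 3 N, Nat.card (normalizer (Q : Set N)) = 54 := by
    intro Q
    have h1 := R.card_eq_index_normalizer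
    have h2 := Q.card_eq_index_normalizer
    have h3 := (normalizer (R : Set N)).card_mul_index
    have h4 := (normalizer (Q : Set N)).card_mul_index
    rw [← h2, h1] at h4
    rw [← h4, hN] at h3
    have hne : (normalizer (R : Set N)).index ≠ 0 := index_ne_zero_of_finite
    exact (Nat.eq_of_mul_eq_mul_right (Nat.pos_of_ne_zero hne) h3).symm
  have hn : Nat.card (Sylow 3 N) = 112 := by
    have h3 := (normalizer (R : Set N)).card_mul_index
    rw [← R.card_eq_index_normalizer, hN, H.card_eq] at h3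
    omega
  have := Fintype.ofFinite N
  have := Fintype.ofFinite (Sylow 3 N)
  -- elements of order 7
  have h7 : Nat.card {g : N // orderOf g = 7} = 1728 := by
    rw [Cfsg.Agent.SmallGroups.card_orderOf_eq (card_sylow_seven H.card_eq), H.sylow_seven]
  -- elements of order 3
  have h3 : 2912 ≤ Nat.card {g : N // orderOf g = 3} := by
    have hc : Nat.card (Σ Q : Sylow 3 N, {x : (Q : Subgroup N) // x ≠ 1}) = 2912 := by
      rw [Nat.card_sigma, Finset.sum_congr rfl (fun Q _ => ?_), Finset.sum_const, Finset.card_univ,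
        smul_eq_mul, ← Nat.card_eq_fintype_card, hn]
      · show 112 * 26 = 2912
        norm_num
      · have := Fintype.ofFinite (Q : Subgroup N)
        rw [Nat.card_eq_fintype_card, Fintype.card_subtype_compl, Fintype.card_subtype_eq,
          ← Nat.card_eq_fintype_card, card_sylow_three H.card_eq Q]
    rw [← hc]
    refine Nat.card_le_card_of_injective (fun x => ⟨x.2.1.1,
      H.orderOf_three x.2.1.2 fun h => x.2.2 (Subtype.ext h)⟩) ?_
    rintro ⟨Q, ⟨⟨a, ha⟩, ha1⟩⟩ ⟨Q', ⟨⟨b, hb⟩, hb1⟩⟩ h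
    have hab : a = b := congrArg (fun z : {g : N // orderOf g = 3} => z.1) h
    subst hab
    have hQ : Q = Q' := H.eq_of_mem ha hb fun h => ha1 (Subtype.ext h)
    subst hQ
    rfl
  -- elements of order 6
  have h6 : 2016 ≤ Nat.card {g : N // orderOf g = 6} := by
    let A := Σ Q : Sylow 3 N, {x : ctr (Q : Subgroup N) // x ≠ 1}
    have := Fintype.ofFinite A
    have hA : Nat.card A = 224 := by
      rw [Nat.card_sigma, Finset.sum_congr rfl (fun Q _ => ?_), Finset.sum_const, Finset.card_univ,
        smul_eq_mul, ← Nat.card_eq_fintype_card, hn]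
      · show 112 * 2 = 224
        norm_num
      · have := Fintype.ofFinite (ctr (Q : Subgroup N))
        rw [Nat.card_eq_fintype_card, Fintype.card_subtype_compl, Fintype.card_subtype_eq,
          ← Nat.card_eq_fintype_card, H.card_ctr Q]
    have hB : 2016 ≤ Nat.card (Σ a : A, {i : N // orderOf i = 2 ∧ i * (a.2.1 : N) = a.2.1 * i}) := by
      rw [Nat.card_sigma]
      calc 2016 = ∑ _a : A, 9 := by
            rw [Finset.sum_const, Finset.card_univ, ← Nat.card_eq_fintype_card, hA, smul_eq_mul]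
        _ ≤ _ := Finset.sum_le_sum fun a _ => by
            have hane : ((a.2.1 : ctr (a.1 : Subgroup N)) : N) ≠ 1 := fun h => a.2.2 (Subtype.ext h)
            refine H.nine_involutions a.2.1.2 hane ?_
            rcases H.normalizer_cases a.1 a.2.1.2 hane with h | h
            · exact h.1
            · exact absurd h.2 (by rw [hall]; norm_num)
    refine hB.trans (Nat.card_le_card_of_injective
      (fun x => ⟨(x.1.2.1 : N) * x.2.1, ?_⟩) ?_)
    · have ho : orderOf ((x.1.2.1 : ctr (x.1.1 : Subgroup N)) : N) = 3 :=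
        H.orderOf_three (R := x.1.1) x.1.2.1.2.1 fun h => x.1.2.2 (Subtype.ext h)
      rw [(show Commute ((x.1.2.1 : ctr (x.1.1 : Subgroup N)) : N) x.2.1 from x.2.2.2.symm).orderOf_mul_eq_mul_orderOf_of_coprime
        (by rw [ho, x.2.2.1]; norm_num), ho, x.2.2.1]
    · rintro ⟨⟨Q, ⟨⟨a, ha⟩, ha1⟩⟩, i, hi, hia⟩ ⟨⟨Q', ⟨⟨b, hb⟩, hb1⟩⟩, j, hj, hjb⟩ h
      have hab : a * i = b * j := congrArg (fun z : {g : N // orderOf g = 6} => z.1) h
      have key : ∀ {Q : Sylow 3 N} {a i : N}, a ∈ ctr (Q : Subgroup N) → orderOf i = 2 →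
          i * a = a * i → (a * i) ^ 4 = a := by
        intro Q a i ha hi hia
        have h3 : a ^ 3 = 1 := H.pow_three (R := Q) ha.1
        have h2 : i ^ 2 = 1 := by rw [← hi, pow_orderOf_eq_one]
        rw [(show Commute a i from hia.symm).mul_pow, show 4 = 3 + 1 from rfl, pow_add, h3,
          one_mul, pow_one, show 3 + 1 = 2 * 2 from rfl, pow_mul, h2, one_pow, mul_one]
      have hab' : a = b := by rw [← key ha hi hia, ← key hb hj hjb, hab]
      subst hab'
      have hij : i = j := mul_left_cancel hab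
      subst hij
      have hQ : Q = Q' := H.eq_of_mem ha.1 hb.1 fun h => ha1 (Subtype.ext h)
      subst hQ
      rfl
  have hsum : Nat.card {g : N // orderOf g = 7} + Nat.card {g : N // orderOf g = 3} +
      Nat.card {g : N // orderOf g = 6} ≤ Nat.card N := by
    rw [← Nat.card_sum, ← Nat.card_sum]
    refine Nat.card_le_card_of_injective (Sum.elim (Sum.elim (fun g => g.1) fun g => g.1) fun g => g.1) ?_
    rintro ((⟨a, ha⟩ | ⟨a, ha⟩) | ⟨a, ha⟩) ((⟨b, hb⟩ | ⟨b, hb⟩) | ⟨b, hb⟩) h <;>
      simp only [Sum.elim_inl, Sum.elim_inr] at h <;> subst h <;> first | rfl | omega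
  rw [H.card_eq] at hsum
  omega

end LocalHyp

end Cfsg.Agent.U33Uniq31
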