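import Cfsg.Agent.U33Uniq31.Search

/-!
The search at the inverting involution, part 1.
-/

set_option autoImplicit false

namespace Cfsg.Agent.U33Uniq31

theorem search_t4 : leaves 288 (testT (sols.getD 4 [])) (sols.getD 4 []) (-1) 1728 1 = true := by
  decide +kernel

theorem search_t5 : leaves 288 (testT (sols.getD 5 [])) (sols.getD 5 []) (-1) 1728 1 = true := by
  decide +kernel

theorem search_t6 : leaves 288 (testT (sols.getD 6 [])) (sols.getD 6 []) (-1) 1728 1 = true := by
  decide +kernel

theorem search_t7 : leaves 288 (testT (sols.getD 7 [])) (sols.getD 7 []) (-1) 1728 1 = true := by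
  decide +kernel

end Cfsg.Agent.U33Uniq31
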