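import Cfsg.Agent.U33Uniq31.Search

/-!
The search at a central involution of a Sylow `2`-subgroup.
-/

set_option autoImplicit false

namespace Cfsg.Agent.U33Uniq31

theorem search_z : leaves 576 (fun q _ => q != 0) sol7 (-1) 1728 1 = true := by decide +kernel

end Cfsg.Agent.U33Uniq31
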