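import Cfsg.Agent.U33Uniq31.Seven
import Cfsg.Agent.U33Uniq31.Chars
import Cfsg.Agent.U33Uniq31.SearchT0
import Cfsg.Agent.U33Uniq31.SearchT1
import Cfsg.Agent.U33Uniq31.SearchZ
import Cfsg.Agent.Lib.SmallGroups.SelfCent.TwoClass

/-!
No simple group of order `12096` is free of elements of order `9`, `14`, `21`.
-/

set_option autoImplicit false
set_option maxHeartbeats 1000000

open scoped ComplexConjugate

namespace Cfsg.Agent.U33Uniq31

open Subgroup Cfsg.Agent.SmallGroups Cfsg.Agent.SmallGroups.SelfCent Cfsg.Agent.SmallGroups.SelfCent.Setup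

theorem search_t_all {l : List (ℕ × ℤ)} (hl : l ∈ sols) : leaves 288 (testT l) l (-1) 1728 1 = true := by
  obtain ⟨i, hi, rfl⟩ := List.getElem_of_mem hl
  rw [← List.getD_eq_getElem _ [] hi]
  rw [sols_length] at hi
  interval_cases i
  exacts [search_t0, search_t1, search_t2, search_t3, search_t4, search_t5, search_t6, search_t7]

theorem exists_map_eq_coe {α β : Type*} [DecidableEq α] (f : α → β) :
    ∀ (s : Multiset α) (l : List β), s.map f = (l : Multiset β) →
      ∃ l' : List α, (l' : Multiset α) = s ∧ l'.map f = l := by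
  intro s l
  induction l generalizing s with
  | nil => intro h; exact ⟨[], by rw [Multiset.map_eq_zero.mp h]; rfl, rfl⟩
  | cons x xs ih =>
    intro h
    obtain ⟨a, ha, hax⟩ := Multiset.mem_map.mp
      (show x ∈ s.map f by rw [h]; exact Multiset.mem_coe.mpr List.mem_cons_self)
    have h2 : (s.erase a).map f = (xs : Multiset β) := by
      rw [← Multiset.cons_erase ha, Multiset.map_cons, hax, ← Multiset.cons_coe] at h
      exact (Multiset.cons_inj_right x).mp h
    obtain ⟨l', hl', hl''⟩ := ih _ h2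
    exact ⟨a :: l', by rw [← Multiset.cons_coe, hl', Multiset.cons_erase ha],
      by rw [List.map_cons, hax, hl'']⟩

variable {G : Type*} [Group G] [Fintype G]

/-- The principal characters as a list with their coefficients. -/
structure Six (s : Setup G 7) where
  v : Cfsg.IrrCharacter G → ℤ
  L : List (Cfsg.IrrCharacter G)
  nodup : L.Nodup
  mem : ∀ χ, χ ∈ L ↔ χ ≠ triv ∧ v χ ≠ 0
  triv_v : v triv = -1
  sol : L.map (fun χ => (deg χ, v χ)) ∈ sols
  at_z : ∀ χ : Cfsg.IrrCharacter G, ∀ k : ZMod 7, k ≠ 0 → (χ : G → ℂ) (s.zp k) = -(v χ : ℂ)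
  orth : ∀ g : G, (∀ k : ZMod 7, k ≠ 0 → ¬ IsConj g (s.zp k)) →
    ∑ χ : Cfsg.IrrCharacter G, (χ : G → ℂ) g * (v χ : ℂ) = 0

theorem exists_six [IsSimpleGroup G] (hna : ¬ IsMulCommutative G) (hc : Nat.card G = 12096)
    (s : Setup G 7) (hK : s.K = ⊥) (he : Nat.card s.auto = 6) : Nonempty (Six s) := by
  classical
  have hOrb : Nat.card s.Orb = 1 := by
    have := s.card_orb_mul
    rw [he] at this
    omega
  have := Fintype.ofFinite s.Orb
  obtain ⟨hsub, ⟨o⟩⟩ := Nat.card_eq_one_iff_unique.mp hOrb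
  set v : Cfsg.IrrCharacter G → ℤ := fun χ => s.vecO χ o with hv
  have hvo : ∀ χ o', s.vecO χ o' = v χ := fun χ o' => by rw [hsub.elim o' o]
  set S : Finset (Cfsg.IrrCharacter G) := Finset.univ.filter fun χ => χ ≠ triv ∧ v χ ≠ 0 with hS
  have hsplit : ∀ F : Cfsg.IrrCharacter G → ℤ, (∀ χ, v χ = 0 → F χ = 0) →
      ∑ χ, F χ = F triv + ∑ χ ∈ S, F χ := by
    intro F hF
    rw [← Finset.add_sum_erase _ _ (Finset.mem_univ (triv : Cfsg.IrrCharacter G))]
    congr 1
    symm
    refine Finset.sum_subset (fun χ hχ => Finset.mem_erase.mpr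
      ⟨(Finset.mem_filter.mp hχ).2.1, Finset.mem_univ _⟩) fun χ hχ hχ' => hF χ ?_
    by_contra h
    exact hχ' (Finset.mem_filter.mpr ⟨Finset.mem_univ _, Finset.ne_of_mem_erase hχ, h⟩)
  have hgram := s.gram_orb o o
  rw [if_pos rfl, he] at hgram
  change ∑ χ, v χ * v χ = _ at hgram
  rw [hsplit _ (fun χ h => by rw [h, mul_zero]), show v triv = -1 from s.vecO_triv o] at hgram
  have hn : ∑ χ ∈ S, v χ * v χ = 6 := by push_cast at hgram; linarith
  have hd := s.sum_deg_mul_vecO o
  change ∑ χ, (deg χ : ℤ) * v χ = 0 at hd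
  rw [hsplit _ (fun χ h => by rw [h, mul_zero]), show v triv = -1 from s.vecO_triv o, deg_triv] at hd
  have h1728 : Nat.card G / 7 = 1728 := by rw [hc]
  have hsqd : ∑ χ : Cfsg.IrrCharacter G, (deg χ : ℤ) * deg χ = 12096 := by
    have h := CharCore.sum_degree_sq (G := G)
    rw [hc] at h
    simp only [(deg_spec _).2.2, pow_two] at h
    exact_mod_cast h
  have hsqS : 1 + ∑ χ ∈ S, (deg χ : ℤ) * deg χ ≤ 12096 := by
    rw [← hsqd, ← Finset.add_sum_erase _ _ (Finset.mem_univ (triv : Cfsg.IrrCharacter G)), deg_triv]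
    refine add_le_add (by norm_num) (Finset.sum_le_sum_of_subset_of_nonneg (fun χ hχ =>
      Finset.mem_erase.mpr ⟨(Finset.mem_filter.mp hχ).2.1, Finset.mem_univ _⟩)
      fun χ _ _ => mul_self_nonneg _)
  have hitem : ∀ χ ∈ S, (deg χ, v χ) ∈ items := by
    intro χ hχ
    obtain ⟨-, hχt, hv0⟩ := Finset.mem_filter.mp hχ
    have h2 : 2 ≤ deg χ := by
      have h1 := (deg_spec χ).1
      have : deg χ ≠ 1 := fun e => hχt ((deg_eq_one_iff hna χ).mp e)
      omega
    have h110 : deg χ < 110 := by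
      have h := Finset.single_le_sum (f := fun χ => (deg χ : ℤ) * deg χ)
        (fun y _ => mul_self_nonneg _) hχ
      by_contra hh
      have : (110 : ℤ) ≤ deg χ := by exact_mod_cast (not_lt.mp hh)
      have := mul_le_mul this this (by norm_num) (by linarith)
      linarith
    have hv2 : v χ ∈ [(-2 : ℤ), -1, 1, 2] := by
      have h := Finset.single_le_sum (f := fun χ => v χ * v χ) (fun y _ => mul_self_nonneg _) hχ
      rw [hn] at h
      have h1 : -2 ≤ v χ := by nlinarith
      have h3 : v χ ≤ 2 := by nlinarith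
      simp only [List.mem_cons, List.not_mem_nil, or_false]
      omega
    have hdv : (deg χ : ℤ) ∣ 1728 * v χ := by
      have h := s.deg_dvd_of_const χ (v χ) (hvo χ)
      rw [h1728] at h
      exact_mod_cast h
    have hcg : (7 : ℤ) ∣ (deg χ : ℤ) + v χ := by
      obtain ⟨n, hn1, -, hmod⟩ := s.exists_fix χ
      rw [s.phi_zero_of_bot hK, (deg_spec χ).2.2] at hn1
      have hnd : deg χ = n := by exact_mod_cast hn1
      have hso : ∑ o', s.vecO χ o' = v χ := by
        rw [Finset.sum_eq_single o (fun b _ hb => absurd (hsub.elim b o) hb) (by simp)]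
      rw [hso, he, ← hnd] at hmod
      have := hmod.symm.dvd
      push_cast at this
      omega
    exact mem_items _ h110 _ hv2 hdv hcg h2
  have hwt : ∀ x ∈ items, 0 < wt x := by decide +kernel
  obtain ⟨l, hl, hlM⟩ := exists_combo items hwt (S.val.map fun χ => (deg χ, v χ)) 6
    (fun x hx => by
      obtain ⟨χ, hχ, rfl⟩ := Multiset.mem_map.mp hx
      exact hitem χ hχ)
    (by
      rw [Multiset.map_map]
      change ∑ χ ∈ S, wt (deg χ, v χ) = 6
      have h : ((∑ χ ∈ S, wt (deg χ, v χ) : ℕ) : ℤ) = 6 := by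
        rw [← hn, Nat.cast_sum]
        exact Finset.sum_congr rfl fun χ _ => Int.natAbs_of_nonneg (mul_self_nonneg _)
      exact_mod_cast h)
  obtain ⟨L, hL, hLl⟩ := exists_map_eq_coe _ S.val l hlM.symm
  refine ⟨{ v := v, L := L, nodup := Multiset.coe_nodup.mp (hL ▸ S.nodup)
            mem := fun χ => ?_, triv_v := s.vecO_triv o, sol := ?_, at_z := ?_, orth := ?_ }⟩
  · rw [← Multiset.mem_coe, hL, Finset.mem_val, hS, Finset.mem_filter]
    simp
  · rw [hLl]
    refine List.mem_filter.mpr ⟨hl, ?_⟩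
    have hA : ∀ F : ℕ × ℤ → ℤ, (l.map F).sum = ∑ χ ∈ S, F (deg χ, v χ) := by
      intro F
      rw [← Multiset.sum_coe, ← Multiset.map_coe, hlM, Multiset.map_map]
      rfl
    have hB : (l.map fun x => x.1 * x.1).sum = ∑ χ ∈ S, deg χ * deg χ := by
      rw [← Multiset.sum_coe, ← Multiset.map_coe, hlM, Multiset.map_map]
      rfl
    simp only [okSol, Bool.and_eq_true, beq_iff_eq]
    refine ⟨?_, Nat.ble_eq ▸ ?_⟩
    · rw [hA fun x => (x.1 : ℤ) * x.2]; push_cast at hd; linarith
    · rw [hB]
      have : ((∑ χ ∈ S, deg χ * deg χ : ℕ) : ℤ) ≤ 12095 := by push_cast; linarith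
      exact_mod_cast this
  · intro χ k hk
    have hkk : s.kset = {1} := by ext w; simp [s.mem_kset, hK]
    have h := s.phi_of_const χ (v χ) (hvo χ) hk
    simpa [phi, hkk] using h
  · intro g hg
    have hg' : ∀ k : ZMod 7, k ≠ 0 → ∀ w ∈ s.K, ¬ IsConj g (s.zp k * w) := by
      intro k hk w hw
      rw [hK, mem_bot] at hw
      rw [hw, mul_one]
      exact hg k hk
    exact s.sum_vec_mul_apply hg' ((Quotient.out o : (ZMod 7)ˣ) : ZMod 7)

theorem Six.sum_eq {s : Setup G 7} (X : Six s) (F : Cfsg.IrrCharacter G → ℂ)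
    (hF : ∀ χ, X.v χ = 0 → F χ = 0) : ∑ χ, F χ = F triv + (X.L.map F).sum := by
  classical
  rw [← Finset.add_sum_erase _ _ (Finset.mem_univ (triv : Cfsg.IrrCharacter G)),
    ← List.sum_toFinset F X.nodup]
  congr 1
  symm
  refine Finset.sum_subset (fun χ hχ => Finset.mem_erase.mpr
    ⟨((X.mem χ).mp (List.mem_toFinset.mp hχ)).1, Finset.mem_univ _⟩) fun χ hχ hχ' => hF χ ?_
  by_contra h
  exact hχ' (List.mem_toFinset.mpr ((X.mem χ).mpr ⟨Finset.ne_of_mem_erase hχ, h⟩))

/-- What the characters say about one involution. -/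
theorem Six.involution [IsSimpleGroup G] (hna : ¬ IsMulCommutative G) (hc : Nat.card G = 12096)
    {s : Setup G 7} (X : Six s) {y : G} (hy : y ^ 2 = 1) (hy1 : y ≠ 1) :
    ∃ l : List ((ℕ × ℤ) × ℤ), l.map Prod.fst = X.L.map (fun χ => (deg χ, X.v χ)) ∧ Adm l ∧
      -1 + linOf l = 0 ∧ 1 + sqOf l ≤ (Nat.card (centralizer ({y} : Set G)) : ℤ) ∧
      (Nat.card {q : G × G // IsConj y q.1 ∧ IsConj y q.2 ∧ q.1 * q.2 = s.z} : ℤ) *
        ((Nat.card (centralizer ({y} : Set G)) : ℤ) * Nat.card (centralizer ({y} : Set G))) =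
        7 * (1728 - qOf l) := by
  classical
  choose n hn hn1 hn2 hn4 using fun χ : Cfsg.IrrCharacter G => exists_int_value_four hna χ hy
  refine ⟨X.L.map fun χ => ((deg χ, X.v χ), n χ), by rw [List.map_map]; rfl, ?_, ?_, ?_, ?_⟩
  · intro x hx
    obtain ⟨χ, hχ, rfl⟩ := List.mem_map.mp hx
    have hχt := ((X.mem χ).mp hχ).1
    have h1 : n χ ≠ (deg χ : ℤ) := fun e => value_ne_deg hχt hy1 (by rw [hn, e]; norm_num)
    have h2 : n χ ≠ -(deg χ : ℤ) := fun e =>
      value_ne_neg_deg hna hχt hy hy1 (by rw [hn, e]; norm_num)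
    refine ⟨?_, ?_, hn4 χ⟩
    · exact lt_of_le_of_ne (hn1 χ) (Ne.symm h2)
    · exact lt_of_le_of_ne (hn2 χ) h1
  · have h := X.orth y (fun k hk hcj => by
      obtain ⟨c, hc'⟩ := isConj_iff.mp hcj
      have h1 : s.zp k ^ 2 = 1 := by rw [← hc', conj_pow, hy]; group
      rw [s.zp_pow, s.zp_eq_one_iff] at h1
      exact absurd ((mul_eq_zero.mp h1).resolve_left hk) (by decide))
    rw [X.sum_eq _ (fun χ hχ => by rw [hχ]; simp), X.triv_v] at h
    have hmap : (X.L.map fun χ : Cfsg.IrrCharacter G => (χ : G → ℂ) y * (X.v χ : ℂ)).sum =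
        ((linOf (X.L.map fun χ => ((deg χ, X.v χ), n χ)) : ℤ) : ℂ) := by
      rw [linOf, List.map_map, Int.cast_list_sum, List.map_map]
      congr 1
      refine List.map_congr_left fun χ _ => ?_
      simp [hn, mul_comm]
    rw [hmap] at h
    simp only [triv, Pi.one_apply, Int.cast_neg, Int.cast_one, one_mul] at h
    exact_mod_cast h
  · have h := sum_sq_le_card_centralizer (insert triv X.L.toFinset) n (w := y) (fun χ _ => hn χ)
    rw [Finset.sum_insert (fun hm => ((X.mem _).mp (List.mem_toFinset.mp hm)).1 rfl),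
      List.sum_toFinset _ X.nodup] at h
    have ht : n triv = 1 := by
      have := hn (triv : Cfsg.IrrCharacter G)
      simp only [triv, Pi.one_apply] at this
      exact_mod_cast this.symm
    rw [ht] at h
    rw [sqOf, List.map_map]
    simpa [pow_two, Function.comp_def] using h
  · have h := card_pairs_mul_card y s.z
    rw [hc, X.sum_eq _ (fun χ hχ => by
      rw [← s.zp_one, X.at_z χ 1 one_ne_zero, hχ]; simp)] at h
    set C := Nat.card (centralizer ({y} : Set G))
    set N2 := Nat.card {q : G × G // IsConj y q.1 ∧ IsConj y q.2 ∧ q.1 * q.2 = s.z}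
    set l := X.L.map fun χ => ((deg χ, X.v χ), n χ) with hl
    have hmap : (1728 : ℂ) * (X.L.map fun χ : Cfsg.IrrCharacter G =>
        (χ : G → ℂ) y ^ 2 / (χ : G → ℂ) 1 * conj ((χ : G → ℂ) s.z)).sum = -((qOf l : ℤ) : ℂ) := by
      rw [hl, qOf, List.map_map, Int.cast_list_sum, List.map_map, ← List.sum_map_mul_left,
        show ∀ L : List ℂ, -L.sum = (L.map Neg.neg).sum from fun L => List.sum_neg L, List.map_map]
      congr 1
      refine List.map_congr_left fun χ hχ => ?_
      have hd0 : (deg χ : ℂ) ≠ 0 := Nat.cast_ne_zero.mpr (deg_spec χ).1.ne'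
      have hdd : (deg χ : ℤ) ∣ 1728 := by
        have hit : ∀ l ∈ sols, ∀ x ∈ l, (x.1 : ℤ) ∣ 1728 := by decide +kernel
        exact hit _ X.sol (deg χ, X.v χ) (List.mem_map.mpr ⟨χ, hχ, rfl⟩)
      rw [← s.zp_one, X.at_z χ 1 one_ne_zero, hn, (deg_spec χ).2.2]
      simp only [Function.comp_apply, map_neg, map_intCast, Int.cast_mul]
      rw [Int.cast_div hdd (by exact_mod_cast hd0)]
      push_cast
      field_simp
    simp only [triv, Pi.one_apply, map_one, mul_one, one_pow, div_one] at h
    set i := (centralizer ({y} : Set G)).index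
    have hiC : (i : ℂ) * (C : ℂ) = 12096 := by
      rw [← Nat.cast_mul, index_mul_card, hc]; norm_num
    apply Int.cast_injective (α := ℂ)
    push_cast
    apply mul_left_cancel₀ (show (12096 : ℂ) * 1728 ≠ 0 by norm_num)
    linear_combination (1728 * (C : ℂ) * C) * h + ((i : ℂ) ^ 2 * C * C) * hmap +
      (1728 - (qOf l : ℂ)) * ((i : ℂ) * C + 12096) * hiC

/-- The involution of the normaliser and a central involution of a Sylow `2`-subgroup clash. -/
theorem false_of_simple [IsSimpleGroup G] (hc : Nat.card G = 12096) (hs : NoBig G) : False := by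
  classical
  haveI : Fact (Nat.Prime 2) := ⟨Nat.prime_two⟩
  have hna : ¬ IsMulCommutative G := by
    intro h
    have hp := @IsSimpleGroup.prime_card G { (inferInstance : Group G) with mul_comm := isMulCommutative_iff.mp h } _
    rw [hc] at hp
    norm_num at hp
  obtain ⟨P⟩ : Nonempty (Sylow 7 G) := inferInstance
  have hP : Nat.card (P : Subgroup G) = 7 := by
    rw [P.card_eq_multiplicity, hc, show (12096 : ℕ).factorization 7 = 1 by
      rw [show (12096 : ℕ) = 7 ^ 1 * 1728 from rfl,
        Nat.factorization_mul_apply_of_coprime (by norm_num), Nat.Prime.factorization_pow (by norm_num),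
        Nat.factorization_eq_zero_of_not_dvd (by norm_num)]
      simp]
    rfl
  obtain ⟨s, hK, -, -, he, -⟩ := auto_eq_six hs hc P hP
  obtain ⟨X⟩ := exists_six hna hc s hK he
  -- an element acting on `z` as a cube
  have htop : s.auto = ⊤ := Subgroup.eq_top_of_card_eq _ (by
    rw [he, Nat.card_eq_fintype_card, ZMod.card_units])
  have h30 : (3 : ZMod 7) ≠ 0 := by decide
  obtain ⟨c, hcc⟩ := isConj_iff.mp
    ((s.mem_auto_iff (Units.mk0 (3 : ZMod 7) h30)).mp (htop ▸ mem_top _))
  rw [Units.val_mk0] at hcc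
  have hc1 : c * s.zp 1 * c⁻¹ = s.zp 3 := by rw [s.zp_one]; exact hcc
  have hcn : ∀ n : ℕ, ∀ k : ZMod 7, c ^ n * s.zp k * (c ^ n)⁻¹ = s.zp (3 ^ n * k) := by
    intro n
    induction n with
    | zero => intro k; simp
    | succ n ih =>
      intro k
      have h1 := s.conj_zp_mul hc1 (3 ^ n * k)
      rw [one_mul] at h1
      calc c ^ (n + 1) * s.zp k * (c ^ (n + 1))⁻¹ = c * (c ^ n * s.zp k * (c ^ n)⁻¹) * c⁻¹ := by
            rw [pow_succ']; group
        _ = s.zp (3 ^ (n + 1) * k) := by rw [ih, h1, pow_succ', mul_assoc]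
  have hcentP : ∀ g : G, g * s.z = s.z * g → ∃ k : ZMod 7, g = s.zp k := by
    intro g hg
    obtain ⟨k, x, hx, hk⟩ := s.exists_of_mem_cent (mem_centralizer_singleton_iff.mpr hg)
    rw [hK, mem_bot] at hx
    exact ⟨k, by rw [hk, hx, mul_one]⟩
  have h6 : c ^ 6 = 1 := by
    obtain ⟨k, hk⟩ := hcentP (c ^ 6) (by
      have h := hcn 6 1
      rw [show (3 : ZMod 7) ^ 6 * 1 = 1 by decide, s.zp_one] at h
      exact mul_inv_eq_iff_eq_mul.mp h)
    have hfix : c * s.zp k * c⁻¹ = s.zp k := by rw [← hk]; group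
    have h := hcn 1 k
    rw [pow_one, hfix, pow_one] at h
    have hz : ∀ k : ZMod 7, k = 3 * k → k = 0 := by decide
    rw [hk, hz k (s.zp_injective h), s.zp_zero]
  set t := c ^ 3 with ht
  have ht2 : t ^ 2 = 1 := by rw [ht, ← pow_mul]; exact h6
  have htk : ∀ k : ZMod 7, t * s.zp k * t⁻¹ = s.zp (-k) := fun k => by
    rw [ht, hcn, show (3 : ZMod 7) ^ 3 = -1 by decide, neg_one_mul]
  have ht1 : t ≠ 1 := by
    intro h
    have h1 := htk 1
    rw [h, one_mul, inv_one, mul_one] at h1
    exact absurd (s.zp_injective h1) (by decide)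
  have h14 : ∀ {g : G}, g ^ 2 = 1 → g ≠ 1 →
      Nat.card (centralizer ({g} : Set G)) ∣ 1728 := by
    intro g hg hg1
    have h7 : ¬ 7 ∣ Nat.card (centralizer ({g} : Set G)) := by
      intro h
      obtain ⟨x, hx⟩ := exists_prime_orderOf_dvd_card' (G := centralizer ({g} : Set G)) 7 h
      have hx' : orderOf (x : G) = 7 := (orderOf_coe x).trans hx
      have hg' : orderOf g = 2 := orderOf_eq_prime hg hg1
      have := (show Commute (x : G) g from mem_centralizer_singleton_iff.mp x.2).orderOf_mul_eq_mul_orderOf_of_coprime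
        (by rw [hx', hg']; norm_num)
      rw [hx', hg'] at this
      exact (hs _).2.1 this
    have h1 : Nat.card (centralizer ({g} : Set G)) ∣ 1728 * 7 :=
      (card_subgroup_dvd_card _).trans (by rw [hc])
    exact ((Nat.Prime.coprime_iff_not_dvd (by norm_num)).mpr h7).symm.dvd_of_dvd_mul_right h1
  -- the data at `t`
  have hsol := X.sol
  obtain ⟨l, hl, hadm, hlin, hsq, hq⟩ := X.involution hna hc ht2 ht1
  rw [s.card_pairs hK (by norm_num) ht2 htk] at hq
  set Ct := Nat.card (centralizer ({t} : Set G)) with hCt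
  have hCq : (Ct : ℤ) * Ct = 1728 - qOf l := by push_cast at hq; linarith
  have h6C : 6 ∣ Ct := by
    have hord : orderOf c = 6 := by
      refine (orderOf_eq_iff (by norm_num)).mpr ⟨h6, fun m hm hm0 h => ?_⟩
      have h1 := hcn m 1
      rw [h, one_mul, inv_one, mul_one, mul_one] at h1
      have hz := s.zp_injective h1
      revert hz
      interval_cases m <;> decide
    rw [← hord]
    exact Subgroup.orderOf_dvd_natCard _ (mem_centralizer_singleton_iff.mpr
      (by rw [ht, ← pow_succ', ← pow_succ]))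
  have hbound : -qOf l ≤ 384 * sqOf l := by
    have hb := sols_bound _ hsol
    rw [← hl] at hb
    clear_value Ct
    clear hl hadm hlin hsq hq hCq
    induction l with
    | nil => simp [qOf, sqOf]
    | cons x xs ih =>
      have hx := hb x.1 (List.mem_map.mpr ⟨x, List.mem_cons_self, rfl⟩)
      have hxs := ih fun y hy => hb y (List.mem_cons_of_mem _ hy)
      simp only [qOf, sqOf, List.map_cons, List.sum_cons] at hxs ⊢
      nlinarith [mul_nonneg hx (mul_self_nonneg x.2)]
  have hlt : Ct < 388 := by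
    by_contra h
    have h1 : (388 : ℤ) ≤ Ct := by exact_mod_cast (not_lt.mp h)
    nlinarith
  have hmemT := mem_centT _ hlt (h14 ht2 ht1) h6C
  have h288 : 1 + sqOf l ≤ 288 := by
    have hle : ∀ c ∈ centT, c ≤ 288 := by decide
    have : (Ct : ℤ) ≤ 288 := by exact_mod_cast hle _ hmemT
    linarith
  have hleaf := search_t_all hsol
  rw [← hl] at hleaf
  have hP' := leaves_sound 288 _ l (-1) 1728 1 hleaf hadm hlin h288
  simp only [testT, List.all_eq_true, Bool.or_eq_true, Bool.and_eq_true, decide_eq_true_eq,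
    beq_iff_eq] at hP'
  obtain ⟨h7sol, h48⟩ : l.map Prod.fst = sol7 ∧ Ct = 48 := by
    rcases hP' Ct hmemT with (h | h) | h
    · exact absurd hCq.symm h
    · exact absurd hsq (not_le.mpr h)
    · exact h
  -- a central involution of a Sylow `2`-subgroup
  obtain ⟨T⟩ : Nonempty (Sylow 2 G) := inferInstance
  obtain ⟨y, hy, hy1, hyi⟩ := exists_involution_index_dvd T (by rw [hc]; norm_num)
  have hT : (T : Subgroup G).index = 189 := by
    have hcard : Nat.card (T : Subgroup G) = 64 := by
      rw [T.card_eq_multiplicity, hc, show (12096 : ℕ).factorization 2 = 6 by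
        rw [show (12096 : ℕ) = 2 ^ 6 * 189 from rfl,
          Nat.factorization_mul_apply_of_coprime (by norm_num),
          Nat.Prime.factorization_pow (by norm_num),
          Nat.factorization_eq_zero_of_not_dvd (by norm_num)]
        simp]
      rfl
    have h := (T : Subgroup G).card_mul_index
    rw [hcard, hc] at h
    omega
  rw [hT] at hyi
  set Cy := Nat.card (centralizer ({y} : Set G)) with hCy
  have hidx : (centralizer ({y} : Set G)).index * Cy = 12096 := by
    rw [← hc]; exact index_mul_card _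
  have hy64 : 64 ∣ Cy := by
    obtain ⟨m, hm⟩ := hyi
    refine ⟨m, Nat.eq_of_mul_eq_mul_left (Nat.pos_of_ne_zero
      (index_ne_zero_of_finite : (centralizer ({y} : Set G)).index ≠ 0)) ?_⟩
    rw [hidx, show (centralizer ({y} : Set G)).index * (64 * m) =
      64 * ((centralizer ({y} : Set G)).index * m) by ring, ← hm]
  have hy576 : Cy ≤ 576 := by
    have hdv := h14 hy hy1
    have hcases : ∀ c < 1729, c ∣ 1728 → 64 ∣ c → c ≤ 576 ∨ c = 1728 := by decide +kernel
    refine (hcases Cy (Nat.lt_succ_of_le (Nat.le_of_dvd (by norm_num) hdv)) hdv hy64).resolve_right ?_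
    intro h1728
    -- the index would be seven
    set C := centralizer ({y} : Set G)
    have hi7 : C.index = 7 := by rw [h1728] at hidx; omega
    have hker : C.normalCore = ⊥ := by
      rcases C.normalCore_normal.eq_bot_or_eq_top with h | h
      · exact h
      · exfalso
        have h9 : C = ⊤ := top_le_iff.mp (h ▸ C.normalCore_le)
        rw [h9, index_top] at hi7
        norm_num at hi7
    have hinj : Function.Injective (MulAction.toPermHom G (G ⧸ C)) := by
      rw [← MonoidHom.ker_eq_bot_iff, ← Subgroup.normalCore_eq_ker, hker]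
    have hd := Subgroup.card_dvd_of_injective _ hinj
    rw [Nat.card_perm, ← Subgroup.index_eq_card, hi7, hc] at hd
    norm_num [Nat.factorial] at hd
  -- no conjugate of `y` inverts `z`
  have hnone : IsEmpty {q : G × G // IsConj y q.1 ∧ IsConj y q.2 ∧ q.1 * q.2 = s.z} := by
    refine ⟨fun ⟨⟨u, w⟩, hu, hw, huw⟩ => ?_⟩
    simp only at huw
    have hinvol : ∀ {g : G}, IsConj y g → g * g = 1 := fun {g} hg => by
      obtain ⟨d, rfl⟩ := isConj_iff.mp hg
      rw [← sq, conj_pow, hy]; group
    have hu2 := hinvol hu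
    have hw2 := hinvol hw
    have hinv : u * s.z * u = s.z⁻¹ := by
      rw [← huw, mul_inv_rev, inv_eq_of_mul_eq_one_right hu2, inv_eq_of_mul_eq_one_right hw2,
        ← mul_assoc u, hu2, one_mul]
    have ht' : t * s.z⁻¹ * t = s.z := by
      have := htk (-1)
      rw [inv_eq_of_mul_eq_one_right ((sq t).symm.trans ht2), neg_neg, s.zp_one] at this
      rwa [show s.zp (-1) = s.z⁻¹ by rw [s.zp_neg, s.zp_one]] at this
    obtain ⟨k, hk⟩ := hcentP (t * u) (by
      calc t * u * s.z = t * (u * s.z * u) * u := by simp [mul_assoc, hu2]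
        _ = t * s.z⁻¹ * u := by rw [hinv]
        _ = t * s.z⁻¹ * t * (t * u) := by simp [mul_assoc, ← mul_assoc t t, ← sq, ht2]
        _ = s.z * (t * u) := by rw [ht'])
    have hu' : u = t * s.zp k := by rw [← hk, ← mul_assoc, ← sq, ht2, one_mul]
    have hconj : IsConj t u := isConj_iff.mpr ⟨s.zp (3 * k), by
      have h := htk (-(3 * k))
      rw [neg_neg] at h
      have e : s.zp (3 * k) * t = t * s.zp (-(3 * k)) := by rw [← h, inv_mul_cancel_right]
      rw [hu', e, mul_assoc, ← s.zp_neg, ← s.zp_add,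
        show -(3 * k) + -(3 * k) = k from (by decide : ∀ k : ZMod 7, -(3 * k) + -(3 * k) = k) k]⟩
    have hcy : Cy = Ct := by
      have h1 := card_conj_mul_centralizer y
      have h2 := card_conj_mul_centralizer t
      have h3 : Nat.card {g : G // IsConj y g} = Nat.card {g : G // IsConj t g} :=
        Nat.card_congr (Equiv.subtypeEquivRight fun g =>
          ⟨fun h => hconj.trans (hu.symm.trans h), fun h => hu.trans (hconj.symm.trans h)⟩)
      rw [h3, ← h2] at h1
      refine Nat.eq_of_mul_eq_mul_left ?_ h1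
      haveI : Nonempty {g : G // IsConj t g} := ⟨⟨t, IsConj.refl t⟩⟩
      exact Nat.card_pos
    rw [hcy, h48] at hy64
    norm_num at hy64
  obtain ⟨l', hl', hadm', hlin', hsq', hq'⟩ := X.involution hna hc hy hy1
  rw [Nat.card_of_isEmpty] at hq'
  have hq0 : 1728 - qOf l' = 0 := by push_cast at hq'; linarith
  have h576 : 1 + sqOf l' ≤ 576 := by
    have : (Cy : ℤ) ≤ 576 := by exact_mod_cast hy576
    linarith
  have hleaf' : leaves 576 (fun q _ => q != 0) (l'.map Prod.fst) (-1) 1728 1 = true := by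
    rw [hl', ← hl, h7sol]
    exact search_z
  have hfin := leaves_sound 576 _ l' (-1) 1728 1 hleaf' hadm' hlin' h576
  simp [hq0] at hfin

end Cfsg.Agent.U33Uniq31
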