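import Cfsg.Agent.U33Uniq31.Seven
import Cfsg.Agent.U33Uniq31.Six
import Cfsg.Agent.Lib.SmallGroups.Counting
import Cfsg.Agent.Lib.SmallGroups.SelfCent.TwoDeg

/-!
A group of order `12096` without elements of order `9`, `14`, `21` has a simple normal subgroup of
order `6048` with trivial centraliser.
-/

set_option autoImplicit false
set_option maxHeartbeats 1000000

namespace Cfsg.Agent.U33Uniq31

open scoped Pointwise
open Subgroup MulAction Cfsg.Agent.SmallGroups Cfsg.Agent.SmallGroups.SelfCent

set_option synthInstance.maxSize 2000 in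
set_option synthInstance.maxHeartbeats 100000 in
theorem two_degrees_cases : ∀ a < 64, ∀ b < 37,
    ((a ∣ 576 ∧ b ∣ 576) ∧ (2 ≤ a ∧ 1 + a ^ 2 + 3 * b ^ 2 ≤ 4032) ∧
      ((a % 7 = 1 ∨ a % 7 = 6) ∧ (b % 7 = 2 ∨ b % 7 = 5)) ∧
      (1 + a = b ∨ a = 1 + b ∨ 1 + a + b = 0)) → a = 8 ∧ b = 9 := by
  decide +kernel

variable {G : Type*} [Group G] [Finite G]

theorem sylow_seven_card (hd : Nat.card G ∣ 12096) (h7 : 7 ∣ Nat.card G) (P : Sylow 7 G) :
    Nat.card (P : Subgroup G) = 7 := by
  haveI : Fact (Nat.Prime 7) := ⟨by norm_num⟩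
  obtain ⟨n, hn⟩ := P.isPGroup'.exists_card_eq
  have h1 : 7 ∣ Nat.card (P : Subgroup G) := P.dvd_card_of_dvd_card h7
  have h2 : 7 ^ n ∣ 12096 := hn ▸ (card_subgroup_dvd_card _).trans hd
  rcases Nat.lt_or_ge n 2 with h | h
  · interval_cases n
    · rw [hn] at h1; norm_num at h1
    · rw [hn, pow_one]
  · have := (pow_dvd_pow 7 h).trans h2
    norm_num at this

/-- A normal subgroup of order divisible by `7` contains all elements of order `7`. -/
theorem mem_of_pow_seven (hd : Nat.card G ∣ 12096) (X : Subgroup G) [X.Normal]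
    (h7 : 7 ∣ Nat.card X) {g : G} (hg : g ^ 7 = 1) : g ∈ X := by
  have hcop : Nat.Coprime 7 X.index := by
    refine (Nat.Prime.coprime_iff_not_dvd (by norm_num)).mpr fun h => ?_
    have := (mul_dvd_mul h7 h).trans ((X.card_mul_index).symm ▸ hd)
    norm_num at this
  obtain ⟨m, hm⟩ := exists_pow_eq_self_of_coprime
    (Nat.Coprime.coprime_dvd_right (orderOf_dvd_of_pow_eq_one hg) hcop.symm)
  rw [← hm]
  exact pow_mem (X.pow_index_mem g) m

/-- A normal subgroup of order divisible by `7` has all the Sylow `7`-subgroups. -/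
theorem card_sylow_seven_normal (hd : Nat.card G ∣ 12096) (X : Subgroup G) [X.Normal]
    (h7 : 7 ∣ Nat.card X) : Nat.card (Sylow 7 X) = Nat.card (Sylow 7 G) := by
  haveI : Fact (Nat.Prime 7) := ⟨by norm_num⟩
  have hG7 : 7 ∣ Nat.card G := h7.trans (card_subgroup_dvd_card X)
  have hle : ∀ P : Sylow 7 G, (P : Subgroup G) ≤ X := fun P x hx => by
    refine mem_of_pow_seven hd X h7 ?_
    have := pow_card_eq_one' (x := (⟨x, hx⟩ : (P : Subgroup G)))
    rw [sylow_seven_card hd hG7] at this
    exact congrArg Subtype.val this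
  symm
  refine Nat.card_congr (Equiv.ofBijective (fun P : Sylow 7 G => P.subtype (hle P)) ⟨?_, ?_⟩)
  · exact fun P Q h => Sylow.subtype_injective h
  · intro Q
    have hQ : Nat.card ((Q : Subgroup X).map X.subtype) = 7 := by
      rw [card_map_of_injective Subtype.coe_injective]
      exact sylow_seven_card ((card_subgroup_dvd_card X).trans hd) h7 Q
    have hmul : (Nat.card G).factorization 7 = 1 := by
      obtain ⟨P⟩ : Nonempty (Sylow 7 G) := inferInstance
      have h := P.card_eq_multiplicity
      rw [sylow_seven_card hd hG7] at h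
      exact Nat.pow_right_injective (a := 7) (by norm_num) (h.symm.trans (pow_one 7).symm)
    refine ⟨Sylow.ofCard ((Q : Subgroup X).map X.subtype) (by rw [hQ, hmul, pow_one]), ?_⟩
    apply Sylow.ext
    show subgroupOf ((Q : Subgroup X).map X.subtype) X = (Q : Subgroup X)
    exact comap_map_eq_self_of_injective Subtype.coe_injective _

variable (hs : NoBig G) (hd : Nat.card G ∣ 12096)
include hs hd

/-- A subgroup of order seven acts without fixed points on the normalised subgroups. -/
theorem card_mod_seven {P : Subgroup G} (hP : Nat.card P = 7) {H : Subgroup G}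
    (hn : P ≤ normalizer (H : Set G)) (h7 : ¬ 7 ∣ Nat.card H) : Nat.card H % 7 = 1 := by
  haveI : Fact (Nat.Prime 7) := ⟨by norm_num⟩
  letI : MulDistribMulAction P H := MulDistribMulAction.compHom H (Subgroup.inclusion hn)
  have hPG : IsPGroup 7 P := IsPGroup.of_card (n := 1) (by rw [hP, pow_one])
  have h := hPG.card_modEq_card_fixedPoints H
  have hfix : Nat.card (fixedPoints P H) = 1 := by
    rw [Nat.card_eq_one_iff_unique]
    refine ⟨⟨fun a b => Subtype.ext ?_⟩, ⟨1, fun p => smul_one p⟩⟩
    have key : ∀ a : fixedPoints P H, (a : H) = 1 := by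
      intro a
      have hc : ((a : H) : G) ∈ centralizer (P : Set G) := by
        rw [mem_centralizer_iff]
        intro p hp
        have := congrArg Subtype.val (a.2 ⟨p, hp⟩)
        change p * ((a : H) : G) * p⁻¹ = ((a : H) : G) at this
        exact mul_inv_eq_iff_eq_mul.mp this
      rw [coprime_of_seven hs hd hP] at hc
      have hcop : Nat.Coprime (Nat.card P) (Nat.card H) := by
        rw [hP]; exact (Nat.Prime.coprime_iff_not_dvd (by norm_num)).mpr h7
      have := inf_eq_bot_of_coprime hcop
      have hm : ((a : H) : G) ∈ P ⊓ H := ⟨hc, (a : H).2⟩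
      rw [this, mem_bot] at hm
      exact Subtype.ext hm
    rw [key a, key b]
  rw [hfix] at h
  exact h

/-- Normalised subgroups of order prime to `7` are `2`-groups. -/
theorem isTwoGroup_of_normalised {P : Subgroup G} (hP : Nat.card P = 7) {H : Subgroup G}
    (hn : P ≤ normalizer (H : Set G)) (h7 : ¬ 7 ∣ Nat.card H) : ∃ k ≤ 6, Nat.card H = 2 ^ k := by
  haveI : Fact (Nat.Prime 7) := ⟨by norm_num⟩
  haveI : Fact (Nat.Prime 3) := ⟨Nat.prime_three⟩
  have hH : Nat.card H ∣ 2 ^ 6 * (3 ^ 3 * 7) := (card_subgroup_dvd_card H).trans hd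
  rw [← mul_assoc] at hH
  have h26 := ((Nat.Prime.coprime_iff_not_dvd (p := 7) (by norm_num)).mpr h7).symm.dvd_of_dvd_mul_right hH
  by_cases h3 : 3 ∣ Nat.card H
  · exfalso
    letI : MulDistribMulAction P H := MulDistribMulAction.compHom H (Subgroup.inclusion hn)
    have hPG : IsPGroup 7 P := IsPGroup.of_card (n := 1) (by rw [hP, pow_one])
    have h := hPG.card_modEq_card_fixedPoints (Sylow 3 H)
    have hne : (fixedPoints P (Sylow 3 H)).Nonempty := by
      refine hPG.nonempty_fixed_point_of_prime_not_dvd_card _ fun h' => h7 (h'.trans ?_)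
      obtain ⟨Q⟩ : Nonempty (Sylow 3 H) := inferInstance
      exact Q.card_dvd_index.trans (index_dvd_card _)
    obtain ⟨Q, hQ⟩ := hne
    have hQn : P ≤ normalizer (((Q : Subgroup H).map H.subtype : Subgroup G) : Set G) := by
      intro p hp
      rw [mem_normalizer_iff]
      intro x
      have hfix : (⟨p, hp⟩ : P) • (Q : Subgroup H) = Q := congrArg Sylow.toSubgroup (hQ ⟨p, hp⟩)
      have hfix' : (⟨p, hp⟩ : P)⁻¹ • (Q : Subgroup H) = Q := inv_smul_eq_iff.mpr hfix.symm
      constructor
      · rintro ⟨y, hy, rfl⟩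
        exact ⟨(⟨p, hp⟩ : P) • y, hfix ▸ smul_mem_pointwise_smul _ _ _ hy, rfl⟩
      · rintro ⟨y, hy, he⟩
        refine ⟨(⟨p, hp⟩ : P)⁻¹ • y, hfix' ▸ smul_mem_pointwise_smul _ _ _ hy, ?_⟩
        show p⁻¹ * (y : G) * (p⁻¹)⁻¹ = x
        rw [show (y : G) = p * x * p⁻¹ from he]
        group
    have hc : Nat.card ((Q : Subgroup H).map H.subtype) = Nat.card (Q : Subgroup H) :=
      card_map_of_injective H.subtype_injective
    obtain ⟨k, hk⟩ := Q.isPGroup'.exists_card_eq
    have h31 : 3 ∣ Nat.card (Q : Subgroup H) := Q.dvd_card_of_dvd_card h3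
    have hk3 : 3 ^ k ∣ 3 ^ 3 := by
      have h1 : 3 ^ k ∣ 2 ^ 6 * 3 ^ 3 := hk ▸ (card_subgroup_dvd_card _).trans h26
      exact (((by norm_num : Nat.Coprime 3 (2 ^ 6))).pow_left k).dvd_of_dvd_mul_left h1
    have hmod := card_mod_seven hs hd hP hQn (by
      rw [hc, hk]; intro h'
      have := (by norm_num : Nat.Prime 7).dvd_of_dvd_pow h'
      norm_num at this)
    rw [hc, hk] at hmod
    rw [hk] at h31
    have hk' := Nat.pow_dvd_pow_iff_le_right (by norm_num : 1 < 3) |>.mp hk3
    interval_cases k <;> first | (norm_num at h31; done) | (norm_num at hmod; done)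
  · have h2 := (((Nat.Prime.coprime_iff_not_dvd Nat.prime_three).mpr h3).symm.pow_right 3).dvd_of_dvd_mul_right h26
    exact (Nat.dvd_prime_pow Nat.prime_two).mp h2

omit hs hd in
theorem exists_seven (hc : Nat.card G = 12096) : ∃ P : Sylow 7 G, Nat.card (P : Subgroup G) = 7 := by
  obtain ⟨P⟩ : Nonempty (Sylow 7 G) := inferInstance
  exact ⟨P, sylow_seven_card (by rw [hc]) (by rw [hc]; norm_num) P⟩

omit hd in
/-- There is no non-trivial normal subgroup of order prime to seven. -/
theorem eq_bot_of_normal (hc : Nat.card G = 12096) (K : Subgroup G) [K.Normal]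
    (h7 : ¬ 7 ∣ Nat.card K) : K = ⊥ := by
  haveI : Fact (Nat.Prime 7) := ⟨by norm_num⟩
  haveI : Fact (Nat.Prime 2) := ⟨Nat.prime_two⟩
  have hd : Nat.card G ∣ 12096 := by rw [hc]
  obtain ⟨P, hP⟩ := exists_seven hc
  have hn : (P : Subgroup G) ≤ normalizer (K : Set G) := by
    rw [normalizer_eq_top]; exact le_top
  obtain ⟨k, hk6, hk⟩ := isTwoGroup_of_normalised hs hd hP hn h7
  have hmod := card_mod_seven hs hd hP hn h7
  rw [hk] at hmod
  have hk' : k = 0 ∨ k = 3 ∨ k = 6 := by interval_cases k <;> norm_num at hmod <;> simp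
  rcases hk' with rfl | rfl | rfl
  · exact card_eq_one.mp hk
  · exfalso
    set φ : G →* MulAut K := MulAut.conjNormal with hφ
    have hker7 : ¬ 7 ∣ Nat.card φ.ker := by
      intro h
      obtain ⟨y, hy⟩ := exists_prime_orderOf_dvd_card' (G := φ.ker) 7 h
      have hy' : orderOf (y : G) = 7 := (orderOf_coe y).trans hy
      have hle : K ≤ centralizer (zpowers (y : G) : Set G) := by
        intro x hx
        rw [mem_centralizer_iff]
        intro z hz
        obtain ⟨n, rfl⟩ := hz
        have h1 : Commute (y : G) x := by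
          have := congrArg Subtype.val (DFunLike.congr_fun (MonoidHom.mem_ker.mp y.2) ⟨x, hx⟩)
          rw [MulAut.conjNormal_apply] at this
          exact mul_inv_eq_iff_eq_mul.mp this
        exact (h1.zpow_left n).eq
      rw [coprime_of_seven hs hd (by rw [Nat.card_zpowers, hy'])] at hle
      have := card_dvd_of_le hle
      rw [hk, Nat.card_zpowers, hy'] at this
      norm_num at this
    obtain ⟨m, hm6, hm⟩ := isTwoGroup_of_normalised hs hd hP
      (show (P : Subgroup G) ≤ normalizer (φ.ker : Set G) by rw [normalizer_eq_top]; exact le_top) hker7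
    have h1 := φ.ker.card_mul_index
    rw [index_ker, hm, hc] at h1
    have h27 : 27 ∣ Nat.card φ.range :=
      ((by norm_num : Nat.Coprime 27 2).pow_right m).dvd_of_dvd_mul_left ⟨448, by rw [h1]⟩
    have h2 : Nat.card φ.range ∣ Nat.card (Equiv.Perm K) :=
      (card_subgroup_dvd_card φ.range).trans (Subgroup.card_dvd_of_injective (MulAut.toPerm K)
        (fun a b h => MulEquiv.toEquiv_injective h))
    rw [Nat.card_perm, hk] at h2
    have := h27.trans h2
    norm_num [Nat.factorial] at this
  · exfalso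
    obtain ⟨s, -, -, hN, -, -⟩ := auto_eq_six hs hc P hP
    obtain ⟨t, ht⟩ := exists_prime_orderOf_dvd_card' (G := normalizer ((P : Subgroup G) : Set G)) 2
      (by rw [hN]; norm_num)
    have ht' : orderOf (t : G) = 2 := (orderOf_coe t).trans ht
    have htK : (t : G) ∈ K := by
      have hi : K.index = 189 := by
        have := K.card_mul_index
        rw [hk, hc] at this
        omega
      have := K.pow_index_mem (t : G)
      rw [hi, show 189 = 2 * 94 + 1 from rfl, pow_succ, pow_mul, ← ht', pow_orderOf_eq_one,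
        one_pow, one_mul] at this
      exact this
    have hcop : Nat.Coprime (Nat.card K) (Nat.card (P : Subgroup G)) := by rw [hk, hP]; norm_num
    have htC : (t : G) ∈ centralizer ((P : Subgroup G) : Set G) := by
      rw [mem_centralizer_iff]
      intro y hy
      have hm : (t : G) * y * (t : G)⁻¹ * y⁻¹ ∈ K ⊓ (P : Subgroup G) := by
        refine Subgroup.mem_inf.mpr ⟨?_, mul_mem ((mem_normalizer_iff.mp t.2 y).mp hy) (inv_mem hy)⟩
        rw [mul_assoc, mul_assoc]
        refine mul_mem htK ?_
        rw [← mul_assoc]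
        exact ‹K.Normal›.conj_mem _ (inv_mem htK) y
      rw [inf_eq_bot_of_coprime hcop, mem_bot] at hm
      exact (mul_inv_eq_iff_eq_mul.mp (mul_inv_eq_one.mp hm)).symm
    rw [coprime_of_seven hs hd hP] at htC
    have := Subgroup.orderOf_dvd_natCard (P : Subgroup G) htC
    rw [ht', hP] at this
    norm_num at this

omit hd in
/-- The simple normal subgroup. -/
theorem exists_simple_normal (hc : Nat.card G = 12096) :
    ∃ N : Subgroup G, N.Normal ∧ IsSimpleGroup N ∧ Nat.card N = 6048 ∧
      centralizer (N : Set G) = ⊥ := by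
  classical
  haveI : Fact (Nat.Prime 7) := ⟨by norm_num⟩
  haveI : Fact (Nat.Prime 2) := ⟨Nat.prime_two⟩
  have hd : Nat.card G ∣ 12096 := by rw [hc]
  obtain ⟨P, hP⟩ := exists_seven hc
  have h288 : Nat.card (Sylow 7 G) = 288 := by
    obtain ⟨s, -, -, -, -, h⟩ := auto_eq_six hs hc P hP
    exact h
  haveI : Nontrivial G := Finite.one_lt_card_iff_nontrivial.mp (by rw [hc]; norm_num)
  have hex : ∃ n, ∃ N : Subgroup G, N.Normal ∧ N ≠ ⊥ ∧ Nat.card N = n :=
    ⟨_, ⊤, inferInstance, top_ne_bot, rfl⟩
  obtain ⟨N, hNn, hN0, hNc⟩ := Nat.find_spec hex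
  have hmin : ∀ L : Subgroup G, L.Normal → L ≠ ⊥ → L ≤ N → L = N := fun L h1 h2 h3 =>
    eq_of_le_of_card_ge h3 (hNc ▸ Nat.find_min' hex ⟨L, h1, h2, rfl⟩)
  have hN7 : 7 ∣ Nat.card N := by
    by_contra h
    exact hN0 (eq_bot_of_normal hs hc N h)
  have hNd : Nat.card N ∣ 12096 := (card_subgroup_dvd_card N).trans hd
  have hsN : NoBig N := hs.of_injective N.subtype Subtype.coe_injective
  have hPN : (P : Subgroup G) ≤ N := fun x hx => mem_of_pow_seven hd N hN7 (by
    have := pow_card_eq_one' (x := (⟨x, hx⟩ : (P : Subgroup G)))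
    rw [hP] at this
    exact congrArg Subtype.val this)
  haveI : Nontrivial N := (nontrivial_iff_ne_bot N).mpr hN0
  haveI hsimple : IsSimpleGroup N := by
    refine ⟨fun K hK => ?_⟩
    by_cases hK0 : K = ⊥
    · exact Or.inl hK0
    right
    by_cases hK7 : 7 ∣ Nat.card K
    · have hle : normalClosure {g : G | g ^ 7 = 1} ≤ K.map N.subtype := by
        refine (closure_le _).mpr ?_
        intro x hx
        obtain ⟨g, hg, hconj⟩ := Group.mem_conjugatesOfSet_iff.mp hx
        obtain ⟨c, rfl⟩ := isConj_iff.mp hconj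
        have h7 : (c * g * c⁻¹) ^ 7 = 1 := by rw [conj_pow, show g ^ 7 = 1 from hg]; group
        refine ⟨⟨_, mem_of_pow_seven hd N hN7 h7⟩, ?_, rfl⟩
        exact mem_of_pow_seven hNd K hK7 (Subtype.ext h7)
      have hne : normalClosure {g : G | g ^ 7 = 1} ≠ ⊥ := by
        intro h
        obtain ⟨y, hy⟩ := exists_prime_orderOf_dvd_card' (G := G) 7 (by rw [hc]; norm_num)
        have hm : y ∈ normalClosure {g : G | g ^ 7 = 1} :=
          subset_normalClosure (show y ^ 7 = 1 by rw [← hy, pow_orderOf_eq_one])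
        rw [h, mem_bot] at hm
        rw [hm, orderOf_one] at hy
        norm_num at hy
      have hKle : K.map N.subtype ≤ N := map_subtype_le K
      have heq := hmin _ normalClosure_normal hne (hle.trans hKle)
      refine eq_top_iff.mpr fun x _ => ?_
      have : (x : G) ∈ K.map N.subtype := hle (heq.symm ▸ x.2)
      obtain ⟨y, hy, he⟩ := this
      exact Subtype.ext he ▸ hy
    · exfalso
      have hKn : (P : Subgroup G) ≤ normalizer ((K.map N.subtype : Subgroup G) : Set G) := by
        intro x hx
        rw [mem_normalizer_iff]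
        intro y
        constructor
        · rintro ⟨z, hz, rfl⟩
          exact ⟨⟨x, hPN hx⟩ * z * ⟨x, hPN hx⟩⁻¹, hK.conj_mem z hz _, rfl⟩
        · rintro ⟨z, hz, he⟩
          refine ⟨⟨x, hPN hx⟩⁻¹ * z * ⟨x, hPN hx⟩, by simpa using hK.conj_mem z hz ⟨x, hPN hx⟩⁻¹, ?_⟩
          have he' : (z : G) = x * y * x⁻¹ := he
          show x⁻¹ * (z : G) * x = y
          rw [he']
          group
      have hcK : Nat.card (K.map N.subtype) = Nat.card K :=
        card_map_of_injective Subtype.coe_injective
      obtain ⟨k, -, hk⟩ := isTwoGroup_of_normalised hs hd hP hKn (by rwa [hcK])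
      rw [hcK] at hk
      obtain ⟨Q⟩ : Nonempty (Sylow 2 N) := inferInstance
      have hle : normalClosure ((K.map N.subtype : Subgroup G) : Set G) ≤ (Q : Subgroup N).map N.subtype := by
        refine (closure_le _).mpr ?_
        intro x hx
        obtain ⟨g, ⟨z, hz, rfl⟩, hconj⟩ := Group.mem_conjugatesOfSet_iff.mp hx
        obtain ⟨c, rfl⟩ := isConj_iff.mp hconj
        set α : MulAut N := MulAut.conjNormal c
        haveI : (K.map α.toMonoidHom).Normal := hK.map _ α.surjective
        have hp : IsPGroup 2 (K.map α.toMonoidHom) := (IsPGroup.of_card hk).map _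
        refine ⟨α z, hp.le_sylow_of_normal Q ⟨z, hz, rfl⟩, ?_⟩
        exact MulAut.conjNormal_apply c z
      have hne : normalClosure ((K.map N.subtype : Subgroup G) : Set G) ≠ ⊥ := by
        intro h
        have h1 : K.map N.subtype ≤ ⊥ := h ▸ le_normalClosure
        rw [le_bot_iff, map_eq_bot_iff_of_injective _ Subtype.coe_injective] at h1
        exact hK0 h1
      have heq := hmin _ normalClosure_normal hne (hle.trans (map_subtype_le _))
      rw [heq] at hle
      have := card_dvd_of_le hle
      rw [card_map_of_injective Subtype.coe_injective] at this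
      obtain ⟨m, hm⟩ := Q.isPGroup'.exists_card_eq
      rw [hm] at this
      have := (by norm_num : Nat.Prime 7).dvd_of_dvd_pow (hN7.trans this)
      norm_num at this
  obtain ⟨Q⟩ : Nonempty (Sylow 7 N) := inferInstance
  have hQ := sylow_seven_card hNd hN7 Q
  obtain ⟨s, -, -, hQN, he, hn⟩ := exists_setup hsN hNd Q hQ
  rw [card_sylow_seven_normal hd N hN7, h288] at hn
  have hna : ¬ IsMulCommutative N := by
    intro h
    have hp := @IsSimpleGroup.prime_card N { (inferInstance : Group N) with mul_comm := isMulCommutative_iff.mp h } _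
    rw [← hn] at hp
    exact Nat.not_prime_mul (by norm_num) (by omega) hp
  set e := Nat.card s.auto
  have he' : e = 1 ∨ e = 2 ∨ e = 3 ∨ e = 6 := by
    have h6 := Nat.le_of_dvd (by norm_num) he
    have h0 := Nat.pos_of_dvd_of_pos he (by norm_num)
    interval_cases e <;> simp_all
  have hcard : Nat.card N = 6048 := by
    rcases he' with e1 | e1 | e1 | e1 <;> rw [e1] at hn hQN
    · exact absurd (by rw [hQN]; norm_num) (not_coprime_normalizer hna Q hQ)
    · exfalso
      obtain ⟨a, b, δ, ε, hδ, hε, ha2, ha, hb, hca, hcb, hab, hsum, hsq⟩ :=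
        exists_two_degrees hna (by norm_num : 5 ≤ 7) (Q : Subgroup N) hQ
          (coprime_of_seven hsN hNd hQ) hQN
      rw [← hn] at hsum hsq ha hb
      norm_num at hsum hsq ha hb
      have ha64 : a < 64 := by
        by_contra h
        have := Nat.pow_le_pow_left (not_lt.mp h) 2
        omega
      have hb37 : b < 37 := by
        by_contra h
        have := Nat.pow_le_pow_left (not_lt.mp h) 2
        omega
      obtain ⟨rfl, rfl⟩ : a = 8 ∧ b = 9 := by
        refine two_degrees_cases a ha64 b hb37 ⟨⟨ha, hb⟩, ⟨ha2, by omega⟩, ⟨?_, ?_⟩, ?_⟩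
        · rcases hδ with rfl | rfl <;> omega
        · rcases hε with rfl | rfl <;> omega
        · rcases hδ with rfl | rfl <;> rcases hε with rfl | rfl <;> omega
      norm_num at hsq
    · rw [← hn]
    · exfalso
      have := Fintype.ofFinite N
      exact false_of_simple (G := N) (by rw [← hn]) hsN
  refine ⟨N, hNn, hsimple, hcard, ?_⟩
  by_contra hC
  haveI : (centralizer (N : Set G)).Normal := inferInstance
  have hC7 : 7 ∣ Nat.card (centralizer (N : Set G)) := by
    by_contra h
    exact hC (eq_bot_of_normal hs hc _ h)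
  have hPC : (P : Subgroup G) ≤ centralizer (N : Set G) := fun x hx => mem_of_pow_seven hd _ hC7 (by
    have := pow_card_eq_one' (x := (⟨x, hx⟩ : (P : Subgroup G)))
    rw [hP] at this
    exact congrArg Subtype.val this)
  have hNC : N ≤ centralizer ((P : Subgroup G) : Set G) :=
    le_centralizer_iff.mp hPC
  rw [coprime_of_seven hs hd hP] at hNC
  have := card_le_card_group (H := (P : Subgroup G))
  have h1 := card_dvd_of_le hNC
  rw [hcard, hP] at h1
  norm_num at h1

end Cfsg.Agent.U33Uniq31
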