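import Mathlib

/-!
Searches on degrees and involution values for a simple group of order `12096`.
-/

set_option autoImplicit false
set_option synthInstance.maxSize 4000
set_option synthInstance.maxHeartbeats 200000

namespace Cfsg.Agent.U33Uniq31

/-- possible degrees with coefficients, by descending degree -/
def items : List (ℕ × ℤ) :=
  [(96, 2), (72, -2), (64, -1), (54, 2), (48, 1), (36, -1), (27, 1), (16, -2), (12, 2), (9, -2),
   (8, -1), (6, 1), (2, -2)]

theorem mem_items : ∀ d < (110 : ℕ), ∀ v ∈ [(-2 : ℤ), -1, 1, 2],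
    (d : ℤ) ∣ 1728 * v → (7 : ℤ) ∣ (d : ℤ) + v → 2 ≤ d → (d, v) ∈ items := by
  decide +kernel

/-- the weight of an item -/
def wt (x : ℕ × ℤ) : ℕ := (x.2 * x.2).natAbs

/-- the multisets of items of total weight `n` -/
def combos : List (ℕ × ℤ) → ℕ → List (List (ℕ × ℤ))
  | [], n => if n = 0 then [[]] else []
  | x :: xs, n => (List.range (n / wt x + 1)).flatMap fun m =>
      (combos xs (n - m * wt x)).map (List.replicate m x ++ ·)

theorem exists_combo : ∀ (L : List (ℕ × ℤ)), (∀ x ∈ L, 0 < wt x) → ∀ (M : Multiset (ℕ × ℤ)) (n : ℕ),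
    (∀ x ∈ M, x ∈ L) → (M.map wt).sum = n → ∃ l ∈ combos L n, (l : Multiset (ℕ × ℤ)) = M := by
  intro L
  induction L with
  | nil =>
    intro _ M n hM hn
    have : M = 0 := Multiset.eq_zero_of_forall_notMem fun x hx => List.not_mem_nil (hM x hx)
    subst this
    simp only [Multiset.map_zero, Multiset.sum_zero] at hn
    exact ⟨[], by simp [combos, ← hn], rfl⟩
  | cons x xs ih =>
    intro hpos M n hM hn
    set M' := M.filter (fun y => y ≠ x) with hM'
    have hsplit : Multiset.replicate (M.count x) x + M' = M := by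
      rw [hM', ← Multiset.filter_eq', Multiset.filter_add_not]
    have hsum : M.count x * wt x + (M'.map wt).sum = n := by
      rw [← hn]
      conv_rhs => rw [← hsplit]
      simp
    obtain ⟨l, hl, hl'⟩ := ih (fun y hy => hpos y (List.mem_cons_of_mem _ hy)) M'
      (n - M.count x * wt x) (fun y hy => by
        obtain ⟨h1, h2⟩ := Multiset.mem_filter.mp hy
        exact (List.mem_cons.mp (hM y h1)).resolve_left h2) (by omega)
    refine ⟨List.replicate (M.count x) x ++ l, ?_, ?_⟩
    · simp only [combos, List.mem_flatMap, List.mem_range, List.mem_map]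
      refine ⟨M.count x, Nat.lt_succ_of_le ((Nat.le_div_iff_mul_le (hpos x List.mem_cons_self)).mpr
        (by omega)), l, hl, rfl⟩
    · rw [← Multiset.coe_add, Multiset.coe_replicate, hl', hsplit]

/-- the degree equation and the bound on the square sum -/
def okSol (l : List (ℕ × ℤ)) : Bool :=
  (l.map fun x => (x.1 : ℤ) * x.2).sum == 1 && Nat.ble ((l.map fun x => x.1 * x.1).sum) 12095

def sols : List (List (ℕ × ℤ)) := (combos items 6).filter okSol

/-- the remaining possible contribution to the linear form -/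
def rem : List (ℕ × ℤ) → ℤ
  | [] => 0
  | x :: xs => (x.1 : ℤ) * x.2.natAbs + rem xs

/-- all admissible involution values satisfy `P` -/
def leaves (cap : ℤ) (P : ℤ → ℤ → Bool) : List (ℕ × ℤ) → ℤ → ℤ → ℤ → Bool
  | [], lin, q, sq => (lin != 0) || P q sq
  | x :: xs, lin, q, sq => (List.range (x.1 / 2 + 1)).all fun j =>
      let a : ℤ := (x.1 : ℤ) - 4 * j
      decide (j = 0) || decide (a ≤ -(x.1 : ℤ)) || decide (cap < sq + a * a) ||
        decide (rem xs < |lin + x.2 * a|) ||
        leaves cap P xs (lin + x.2 * a) (q - x.2 * (a * a) * (1728 / (x.1 : ℤ))) (sq + a * a)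

/-- the linear form -/
def linOf (l : List ((ℕ × ℤ) × ℤ)) : ℤ := (l.map fun y => y.1.2 * y.2).sum

/-- the quadratic form -/
def qOf (l : List ((ℕ × ℤ) × ℤ)) : ℤ :=
  (l.map fun y => y.1.2 * (y.2 * y.2) * (1728 / (y.1.1 : ℤ))).sum

/-- the square sum -/
def sqOf (l : List ((ℕ × ℤ) × ℤ)) : ℤ := (l.map fun y => y.2 * y.2).sum

/-- admissible values -/
def Adm (l : List ((ℕ × ℤ) × ℤ)) : Prop :=
  ∀ y ∈ l, -(y.1.1 : ℤ) < y.2 ∧ y.2 < (y.1.1 : ℤ) ∧ (4 : ℤ) ∣ (y.1.1 : ℤ) - y.2

theorem abs_linOf_le : ∀ l : List ((ℕ × ℤ) × ℤ), Adm l → |linOf l| ≤ rem (l.map Prod.fst) := by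
  intro l
  induction l with
  | nil => intro _; simp [linOf, rem]
  | cons y ys ih =>
    intro h
    have h1 := ih fun z hz => h z (List.mem_cons_of_mem _ hz)
    obtain ⟨h2, h3, -⟩ := h y List.mem_cons_self
    have e : linOf (y :: ys) = y.1.2 * y.2 + linOf ys := by simp [linOf]
    rw [e, List.map_cons, rem]
    refine (abs_add_le _ _).trans (add_le_add ?_ h1)
    rw [abs_mul, mul_comm (y.1.1 : ℤ), Int.natCast_natAbs]
    exact mul_le_mul_of_nonneg_left (abs_le.mpr ⟨h2.le, h3.le⟩) (abs_nonneg _)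

theorem leaves_sound (cap : ℤ) (P : ℤ → ℤ → Bool) : ∀ (l : List ((ℕ × ℤ) × ℤ)) (lin q sq : ℤ),
    leaves cap P (l.map Prod.fst) lin q sq = true → Adm l → lin + linOf l = 0 →
    sq + sqOf l ≤ cap → P (q - qOf l) (sq + sqOf l) = true := by
  intro l
  induction l with
  | nil =>
    intro lin q sq h _ hlin _
    simp only [linOf, List.map_nil, List.sum_nil, add_zero] at hlin
    simpa [leaves, hlin, qOf, sqOf] using h
  | cons y ys ih =>
    intro lin q sq h hadm hlin hcap
    have hy := hadm y List.mem_cons_self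
    obtain ⟨h2, h3, h4⟩ := hy
    have hys : Adm ys := fun z hz => hadm z (List.mem_cons_of_mem _ hz)
    have e1 : linOf (y :: ys) = y.1.2 * y.2 + linOf ys := by simp [linOf]
    have e2 : qOf (y :: ys) = y.1.2 * (y.2 * y.2) * (1728 / (y.1.1 : ℤ)) + qOf ys := by simp [qOf]
    have e3 : sqOf (y :: ys) = y.2 * y.2 + sqOf ys := by simp [sqOf]
    have hnn : 0 ≤ sqOf ys := List.sum_nonneg fun z hz => by
      obtain ⟨w, -, rfl⟩ := List.mem_map.mp hz
      exact mul_self_nonneg _
    rw [e1] at hlin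
    rw [e3] at hcap
    rw [List.map_cons, leaves, List.all_eq_true] at h
    obtain ⟨k, hk⟩ := h4
    have hj := h k.toNat (List.mem_range.mpr (by omega))
    have ha : (y.1.1 : ℤ) - 4 * (k.toNat : ℤ) = y.2 := by omega
    simp only [Bool.or_eq_true, decide_eq_true_eq, ha] at hj
    rcases hj with (((h0 | h0) | h0) | h0) | h0
    · omega
    · omega
    · linarith
    · exfalso
      have := abs_linOf_le ys hys
      rw [show lin + y.1.2 * y.2 = -linOf ys by linarith, abs_neg] at h0
      omega
    · have := ih _ _ _ h0 hys (by linarith) (by linarith)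
      rw [e2, e3, ← sub_sub, ← add_assoc]
      exact this

/-- the divisors of `1728` divisible by six up to `387` -/
def centT : List ℕ := [6, 12, 18, 24, 36, 48, 54, 72, 96, 108, 144, 192, 216, 288]

theorem mem_centT : ∀ c < 388, c ∣ 1728 → 6 ∣ c → c ∈ centT := by decide +kernel

/-- the only surviving list -/
def sol7 : List (ℕ × ℤ) := [(36, -1), (36, -1), (27, 1), (27, 1), (27, 1), (8, -1)]

/-- the test at the inverting involution -/
def testT (l : List (ℕ × ℤ)) (q sq : ℤ) : Bool :=
  centT.all fun c => decide (q ≠ (c : ℤ) * c) || decide ((c : ℤ) < sq) || (l == sol7 && c == 48)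

theorem sols_bound : ∀ l ∈ sols, ∀ x ∈ l, 0 ≤ x.2 * (1728 / (x.1 : ℤ)) + 384 := by decide +kernel

theorem sols_length : sols.length = 8 := by decide +kernel

end Cfsg.Agent.U33Uniq31
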